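import Cfsg.Agent.Lib.SmallSimple.NineTwoPrime.Setup

/-!
# The automizer of a Sylow 3-subgroup of order nine with three classes
-/

set_option autoImplicit false
set_option linter.unusedSectionVars false
set_option linter.style.haveILetI false

namespace CfsgLib.NineTwoPrime

open Cfsg CfsgLib.Char CfsgLib.Block CfsgLib.Block.AbelianFree

universe u

variable {G : Type u} [Group G] [Fintype G] [IsSimpleGroup G] (P : Sylow 3 G)

theorem relIndex_two (hG : ¬ IsMulCommutative G) (h9 : Nat.card P = 9) (h : Free P)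
    (h3 : 3 ≤ Nat.card {C : ConjClasses G // ∃ g ∈ C.carrier, g ≠ 1 ∧ orderOf g ∣ 9}) :
    (cen P).relIndex (nor P) = 2 := by
  classical
  obtain ⟨x, hx, hxc⟩ := exists_three P h3
  set m := (cen P).relIndex (nor P) with hm
  let T : Subgroup (nor P) := (cen P).subgroupOf (nor P)
  let f : Fin 3 × (nor P ⧸ T) → {y : ↥(P : Subgroup G) // y ≠ 1} := fun z =>
    ⟨⟨(z.2.out : G) * x z.1 * (z.2.out : G)⁻¹,
      (Subgroup.mem_normalizer_iff.mp z.2.out.2 (x z.1)).mp (hx z.1).1⟩,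
      fun e => (hx z.1).2 (conj_eq_one_iff.mp (congrArg Subtype.val e))⟩
  have hinj : Function.Injective f := by
    rintro ⟨i, A⟩ ⟨j, B⟩ e
    have e' : (A.out : G) * x i * (A.out : G)⁻¹ = (B.out : G) * x j * (B.out : G)⁻¹ :=
      congrArg (fun z => ((z.1 : ↥(P : Subgroup G)) : G)) e
    obtain rfl := hxc i j ((isConj_iff.mpr ⟨(A.out : G), e'⟩).trans
      (isConj_iff.mpr ⟨(B.out : G), rfl⟩).symm)
    have hmem : (A.out : G)⁻¹ * (B.out : G) ∈ Subgroup.centralizer ({x i} : Set G) ⊓ nor P := by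
      refine ⟨Subgroup.mem_centralizer_singleton_iff.mpr ?_, (nor P).mul_mem ((nor P).inv_mem A.out.2) B.out.2⟩
      calc (A.out : G)⁻¹ * (B.out : G) * x i
          = (A.out : G)⁻¹ * ((B.out : G) * x i * (B.out : G)⁻¹) * (B.out : G) := by group
        _ = (A.out : G)⁻¹ * ((A.out : G) * x i * (A.out : G)⁻¹) * (B.out : G) := by rw [e']
        _ = x i * ((A.out : G)⁻¹ * (B.out : G)) := by group
    rw [h.frob _ (hx i).1 (hx i).2] at hmem
    have : (A.out : nor P ⧸ T) = (B.out : nor P ⧸ T) :=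
      QuotientGroup.eq.mpr (Subgroup.mem_subgroupOf.mpr hmem)
    rw [QuotientGroup.out_eq', QuotientGroup.out_eq'] at this
    rw [this]
  have hle := Nat.card_le_card_of_injective f hinj
  have h8 : Nat.card {y : ↥(P : Subgroup G) // y ≠ 1} = 8 := by
    haveI := Fintype.ofFinite ↥(P : Subgroup G)
    rw [Nat.card_eq_fintype_card, Fintype.card_subtype_compl, ← Nat.card_eq_fintype_card, h9,
      Fintype.card_subtype_eq]
  rw [Nat.card_prod, Nat.card_eq_fintype_card (α := Fin 3), Fintype.card_fin, h8] at hle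
  change 3 * m ≤ 8 at hle
  have hm0 : m ≠ 0 := Subgroup.index_ne_zero_of_finite
  have hm1 : m ≠ 1 := fun e => by
    have hle' : nor P ≤ cen P := Subgroup.relIndex_eq_one.mp e
    have : Nontrivial ↥(P : Subgroup G) := Finite.one_lt_card_iff_nontrivial.mp (by rw [h9]; norm_num)
    obtain ⟨a, ha⟩ := exists_ne (1 : ↥(P : Subgroup G))
    obtain ⟨n, hn, hne⟩ := exists_moved P hG h9 a.2 (fun e => ha (Subtype.ext e))
    refine hne ?_
    rw [← Subgroup.mem_centralizer_iff.mp (hle' hn) a a.2]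
    group
  omega

theorem cube_mod_nine : ∀ j < 9, ∀ k < 9, k ≠ 0 → j * k % 9 = k → j * (j * j % 9) % 9 = 1 := by
  decide

theorem pow_three_of_not_free (h9 : Nat.card P = 9) {y n : G} (hy : y ∈ (P : Subgroup G))
    (hy1 : y ≠ 1) (hn : n ∈ nor P) (hny : n * y * n⁻¹ = y) (hnc : n ∉ cen P) :
    ∀ x ∈ (P : Subgroup G), x ^ 3 = 1 := by
  classical
  intro g hg
  by_contra hg3
  have := Fact.mk Nat.prime_three
  have hdvd : orderOf g ∣ 9 := h9 ▸ Subgroup.orderOf_dvd_natCard _ hg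
  obtain ⟨k, hk, hgk⟩ := (Nat.dvd_prime_pow Nat.prime_three).mp (show orderOf g ∣ 3 ^ 2 by simpa using hdvd)
  have hg9 : orderOf g = 9 := by
    interval_cases k
    · exact absurd (orderOf_eq_one_iff.mp (by simpa using hgk)) fun e => hg3 (by rw [e, one_pow])
    · exact absurd (by rw [← show orderOf g = 3 by simpa using hgk, pow_orderOf_eq_one]) hg3
    · simpa using hgk
  have hPz : Subgroup.zpowers g = (P : Subgroup G) :=
    Subgroup.eq_of_le_of_card_ge (Subgroup.zpowers_le.mpr hg) (by rw [Nat.card_zpowers, hg9]; exact h9.le)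
  obtain ⟨j, hj⟩ := (isOfFinOrder_of_finite g).mem_zpowers_iff_mem_range_orderOf.mp
    (hPz.symm ▸ (Subgroup.mem_normalizer_iff.mp hn g).mp hg) |> (fun h => Finset.mem_image.mp h)
  obtain ⟨k, hk', hgky⟩ := Finset.mem_image.mp
    ((isOfFinOrder_of_finite g).mem_zpowers_iff_mem_range_orderOf.mp (hPz.symm ▸ hy))
  have hconj : ∀ t : ℕ, n * g ^ t * n⁻¹ = g ^ (j * t) := fun t => by
    rw [pow_mul, hj.2, conj_pow]
  have hk0 : k % 9 ≠ 0 := fun e => hy1 (by
    rw [← hgky, ← pow_mod_orderOf, hg9, e, pow_zero])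
  have e1 : g ^ (j * k) = g ^ k := by rw [← hconj, hgky, hny]
  rw [pow_eq_pow_iff_modEq, hg9] at e1
  have hj3 : (j * (j * j)) % 9 = 1 := by
    rw [Nat.ModEq, Nat.mul_mod] at e1
    rw [Nat.mul_mod, Nat.mul_mod j j 9]
    exact cube_mod_nine (j % 9) (Nat.mod_lt _ (by norm_num)) (k % 9) (Nat.mod_lt _ (by norm_num)) hk0 e1
  refine hnc (mem_cen_of_cube P h9 n hn (Subgroup.mem_centralizer_iff.mpr fun x hx => ?_))
  rw [SetLike.mem_coe, ← hPz] at hx
  obtain ⟨t, rfl⟩ := Subgroup.mem_zpowers_iff.mp hx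
  have hfix : n ^ 3 * g * (n ^ 3)⁻¹ = g := by
    calc n ^ 3 * g * (n ^ 3)⁻¹ = n * (n * (n * g ^ 1 * n⁻¹) * n⁻¹) * n⁻¹ := by
          simp [pow_succ, mul_assoc]
      _ = g ^ (j * (j * (j * 1))) := by rw [hconj, hconj, hconj]
      _ = g := by rw [mul_one, ← pow_mod_orderOf, hg9, hj3, pow_one]
  exact (show Commute (n ^ 3) g from mul_inv_eq_iff_eq_mul.mp hfix).symm.zpow_left t

/-- Either free of index two or the four-group with two reflections. -/
theorem classify (hG : ¬ IsMulCommutative G) (h9 : Nat.card P = 9)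
    (h3 : 3 ≤ Nat.card {C : ConjClasses G // ∃ g ∈ C.carrier, g ≠ 1 ∧ orderOf g ∣ 9}) :
    (Free P ∧ (cen P).relIndex (nor P) = 2) ∨ Nonempty (Klein P) := by
  classical
  have hcomm := comm_of_nine P h9
  by_cases hfree : Free P
  · exact Or.inl ⟨hfree, relIndex_two P hG h9 hfree h3⟩
  right
  obtain ⟨a, ha, ha1, u, hu, hua, huc⟩ : ∃ a ∈ (P : Subgroup G), a ≠ 1 ∧
      ∃ u ∈ nor P, u * a * u⁻¹ = a ∧ u ∉ cen P := by
    by_contra hno
    push Not at hno
    refine hfree ⟨hcomm, fun y hy hy1 => le_antisymm (fun n hn => ?_) fun n hn => ?_⟩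
    · exact hno y hy hy1 n hn.2
        (mul_inv_eq_iff_eq_mul.mpr (Subgroup.mem_centralizer_singleton_iff.mp hn.1))
    · exact ⟨Subgroup.mem_centralizer_singleton_iff.mpr (Subgroup.mem_centralizer_iff.mp hn y hy).symm,
        cen_le_nor hn⟩
  have hexp : ∀ x ∈ (P : Subgroup G), x ^ 3 = 1 := pow_three_of_not_free P h9 ha ha1 hu hua huc
  have hN : ∀ n ∈ nor P, ∀ x ∈ (P : Subgroup G), n * x * n⁻¹ ∈ (P : Subgroup G) := fun n hn x hx =>
    (Subgroup.mem_normalizer_iff.mp hn x).mp hx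
  have hc : ∀ x y : G, x ∈ (P : Subgroup G) → y ∈ (P : Subgroup G) → Commute x y := fun x y hx hy =>
    congrArg Subtype.val (hcomm.is_comm.comm ⟨x, hx⟩ ⟨y, hy⟩)
  obtain ⟨b₀, hb₀, hb₀a⟩ : ∃ b ∈ (P : Subgroup G), b ∉ Subgroup.zpowers a := by
    by_contra hno
    push Not at hno
    have := Subgroup.card_le_of_le (show (P : Subgroup G) ≤ Subgroup.zpowers a from hno)
    rw [Nat.card_zpowers, orderOf_eq_prime (p := 3) (hexp a ha) ha1] at this
    rw [show Nat.card (P : Subgroup G) = 9 from h9] at this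
    omega
  -- coordinates with respect to a basis `a, b`
  have basis : ∀ b ∈ (P : Subgroup G), b ∉ Subgroup.zpowers a →
      (∀ i j k l : ℕ, i < 3 → j < 3 → k < 3 → l < 3 → a ^ i * b ^ j = a ^ k * b ^ l → i = k ∧ j = l) ∧
      ∀ x ∈ (P : Subgroup G), ∃ i j : ℕ, i < 3 ∧ j < 3 ∧ x = a ^ i * b ^ j := by
    intro b hb hba
    have hb3 : b ^ 3 = 1 := hexp b hb
    have hinj : ∀ i j k l : ℕ, i < 3 → j < 3 → k < 3 → l < 3 → a ^ i * b ^ j = a ^ k * b ^ l →
        i = k ∧ j = l := by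
      intro i j k l hi hj hk hl e
      have ho : orderOf a = 3 := orderOf_eq_prime (hexp a ha) ha1
      by_cases hjl : j = l
      · subst hjl
        refine ⟨pow_injOn_Iio_orderOf (by simpa [ho] using hi) (by simpa [ho] using hk) (mul_right_cancel e), rfl⟩
      · exfalso
        have hd : b ^ (j + (3 - l)) ∈ Subgroup.zpowers a := by
          have h1 : b ^ (j + (3 - l)) = (a ^ i)⁻¹ * (a ^ k * b ^ l) * b ^ (3 - l) := by
            rw [← e, inv_mul_cancel_left, pow_add]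
          rw [h1, mul_assoc, mul_assoc, ← pow_add, show l + (3 - l) = 3 by omega, hb3, mul_one]
          exact mul_mem (inv_mem (pow_mem (Subgroup.mem_zpowers a) i)) (pow_mem (Subgroup.mem_zpowers a) k)
        rw [← pow_mod_orderOf, orderOf_eq_prime (p := 3) hb3 (fun e => hba (e ▸ one_mem _))] at hd
        have hr : (j + (3 - l)) % 3 = 1 ∨ (j + (3 - l)) % 3 = 2 := by omega
        rcases hr with hr | hr <;> rw [hr] at hd
        · exact hba (by simpa using hd)
        · have := pow_mem hd 2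
          rw [← pow_mul, show 2 * 2 = 3 + 1 by norm_num, pow_succ, hb3, one_mul] at this
          exact hba this
    refine ⟨hinj, fun x hx => ?_⟩
    let F : Fin 3 × Fin 3 → ↥(P : Subgroup G) := fun z =>
      ⟨a ^ (z.1 : ℕ) * b ^ (z.2 : ℕ), mul_mem (pow_mem ha _) (pow_mem hb _)⟩
    have hF : Function.Injective F := fun z z' e => by
      obtain ⟨e1, e2⟩ := hinj _ _ _ _ z.1.2 z.2.2 z'.1.2 z'.2.2 (congrArg Subtype.val e)
      exact Prod.ext (Fin.ext e1) (Fin.ext e2)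
    obtain ⟨⟨i, j⟩, hij⟩ := (hF.bijective_of_nat_card_le (by rw [h9]; simp)).surjective ⟨x, hx⟩
    exact ⟨i, j, i.2, j.2, (congrArg Subtype.val hij).symm⟩
  -- an eigenvector of the reflection
  obtain ⟨b, hb, hba, hub⟩ : ∃ b ∈ (P : Subgroup G), b ∉ Subgroup.zpowers a ∧ u * b * u⁻¹ = b⁻¹ := by
    obtain ⟨hinj, hspan⟩ := basis b₀ hb₀ hb₀a
    obtain ⟨i, j, hi, hj, hij⟩ := hspan _ (hN u hu b₀ hb₀)
    have hu3 : j ≠ 1 := fun e => by
      subst e
      refine huc (mem_cen_of_cube P h9 u hu (Subgroup.mem_centralizer_iff.mpr fun x hx => ?_))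
      obtain ⟨k, l, -, -, rfl⟩ := hspan x hx
      have hb' : ∀ t : ℕ, u * (a ^ t * b₀) * u⁻¹ = a ^ (t + i) * b₀ := fun t => by
        rw [← conj_mul, ← conj_pow, hua, hij, pow_one, ← mul_assoc, pow_add]
      have h3b : u ^ 3 * b₀ * (u ^ 3)⁻¹ = b₀ := by
        calc u ^ 3 * b₀ * (u ^ 3)⁻¹ = u * (u * (u * (a ^ 0 * b₀) * u⁻¹) * u⁻¹) * u⁻¹ := by
              simp [pow_succ, mul_assoc]
          _ = a ^ (0 + i + i + i) * b₀ := by rw [hb', hb', hb']
          _ = b₀ := by rw [show 0 + i + i + i = 3 * i by ring, pow_mul, hexp a ha, one_pow, one_mul]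
      have h3a : u ^ 3 * a * (u ^ 3)⁻¹ = a := by
        calc u ^ 3 * a * (u ^ 3)⁻¹ = u * (u * (u * a * u⁻¹) * u⁻¹) * u⁻¹ := by
              simp [pow_succ, mul_assoc]
          _ = a := by rw [hua, hua, hua]
      exact ((show Commute (u ^ 3) a from mul_inv_eq_iff_eq_mul.mp h3a).pow_right k |>.mul_right
        ((show Commute (u ^ 3) b₀ from mul_inv_eq_iff_eq_mul.mp h3b).pow_right l)).symm
    have hj0 : j ≠ 0 := fun e => by
      subst e
      refine hb₀a ?_
      rw [pow_zero, mul_one, mul_inv_eq_iff_eq_mul] at hij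
      have : b₀ = u⁻¹ * (u * b₀) := by group
      rw [this, hij, show u⁻¹ * (a ^ i * u) = u⁻¹ * a ^ i * u⁻¹⁻¹ by group, ← conj_pow]
      have : u⁻¹ * a * u⁻¹⁻¹ = a := by
        conv_lhs => rw [← hua]
        group
      rw [this]
      exact pow_mem (Subgroup.mem_zpowers a) i
    obtain rfl : j = 2 := by omega
    refine ⟨b₀ * a ^ i, mul_mem hb₀ (pow_mem ha i), fun hm => hb₀a ?_, ?_⟩
    · simpa using mul_mem hm (inv_mem (pow_mem (Subgroup.mem_zpowers a) i))
    · rw [← conj_mul, ← conj_pow, hua, hij]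
      refine eq_inv_of_mul_eq_one_left ?_
      have hab : Commute a b₀ := hc a b₀ ha hb₀
      calc a ^ i * b₀ ^ 2 * a ^ i * (b₀ * a ^ i)
          = a ^ i * (b₀ ^ 2 * a ^ i) * (b₀ * a ^ i) := by group
        _ = a ^ i * (a ^ i * b₀ ^ 2) * (b₀ * a ^ i) := by rw [(hab.pow_pow i 2).eq]
        _ = a ^ i * a ^ i * (b₀ ^ 3 * a ^ i) := by group
        _ = 1 := by rw [hexp b₀ hb₀, one_mul, ← pow_add, ← pow_add, show i + i + i = 3 * i by ring,
            pow_mul, hexp a ha, one_pow]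
  obtain ⟨hinj, hspan⟩ := basis b hb hba
  let p2 : ZMod 3 × ZMod 3 → G := fun v => a ^ v.1.val * b ^ v.2.val
  have hpmem : ∀ v, p2 v ∈ (P : Subgroup G) := fun v => mul_mem (pow_mem ha _) (pow_mem hb _)
  have hsur : ∀ x ∈ (P : Subgroup G), ∃ v, p2 v = x := fun x hx => by
    obtain ⟨i, j, hi, hj, rfl⟩ := hspan x hx
    exact ⟨((i : ZMod 3), (j : ZMod 3)), by simp [p2, ZMod.val_natCast, Nat.mod_eq_of_lt hi, Nat.mod_eq_of_lt hj]⟩
  have hpinj : Function.Injective p2 := fun v w e => by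
    obtain ⟨e1, e2⟩ := hinj _ _ _ _ (ZMod.val_lt _) (ZMod.val_lt _) (ZMod.val_lt _) (ZMod.val_lt _) e
    exact Prod.ext (ZMod.val_injective 3 e1) (ZMod.val_injective 3 e2)
  have hp1 : ∀ x ∈ (P : Subgroup G), ∀ s t : ℕ, s % 3 = t % 3 → x ^ s = x ^ t := fun x hx s t e => by
    rw [pow_eq_pow_mod s (hexp x hx), e, ← pow_eq_pow_mod t (hexp x hx)]
  have hpadd : ∀ v w, p2 (v + w) = p2 v * p2 w := fun v w => by
    show a ^ (v + w).1.val * b ^ (v + w).2.val = a ^ v.1.val * b ^ v.2.val * (a ^ w.1.val * b ^ w.2.val)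
    rw [Prod.fst_add, Prod.snd_add, hp1 a ha _ (v.1.val + w.1.val) (by rw [ZMod.val_add, Nat.mod_mod]),
      hp1 b hb _ (v.2.val + w.2.val) (by rw [ZMod.val_add, Nat.mod_mod]), pow_add, pow_add]
    simp only [mul_assoc]
    rw [← mul_assoc (a ^ w.1.val), ((hc a b ha hb).pow_pow _ _).eq, mul_assoc]
  have hpsmul : ∀ (c : ZMod 3) (v : ZMod 3 × ZMod 3), p2 (c * v.1, c * v.2) = p2 v ^ c.val := by
    intro c v
    show a ^ (c * v.1).val * b ^ (c * v.2).val = (a ^ v.1.val * b ^ v.2.val) ^ c.val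
    rw [((hc a b ha hb).pow_pow _ _).mul_pow, ← pow_mul, ← pow_mul,
      hp1 a ha _ (v.1.val * c.val) (by rw [ZMod.val_mul, Nat.mod_mod, mul_comm]),
      hp1 b hb _ (v.2.val * c.val) (by rw [ZMod.val_mul, Nat.mod_mod, mul_comm])]
  let Rl : G → (ZMod 3 × ZMod 3) × (ZMod 3 × ZMod 3) → Prop := fun n M =>
    n ∈ nor P ∧ p2 M.1 = n * a * n⁻¹ ∧ p2 M.2 = n * b * n⁻¹
  have hact : ∀ n M, Rl n M → ∀ v, p2 (act M v) = n * p2 v * n⁻¹ := by
    rintro n M ⟨hn, h1, h2⟩ v
    have e : act M v = (v.1 * M.1.1, v.1 * M.1.2) + (v.2 * M.2.1, v.2 * M.2.2) := rfl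
    rw [e, hpadd, hpsmul, hpsmul, h1, h2, conj_pow, conj_pow, conj_mul]
  have hpa : p2 (1, 0) = a := by simp [p2, ZMod.val_one]
  have hpb : p2 (0, 1) = b := by simp [p2, ZMod.val_one]
  have hmul : ∀ n n' M M', Rl n M → Rl n' M' → Rl (n * n') (mul2 M M') := by
    intro n n' M M' h h'
    refine ⟨mul_mem h.1 h'.1, ?_, ?_⟩
    · show p2 (act M M'.1) = _
      rw [hact n M h, h'.2.1]; group
    · show p2 (act M M'.2) = _
      rw [hact n M h, h'.2.2]; group
  have hU : Rl u refl2 := by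
    refine ⟨hu, ?_, ?_⟩
    · show p2 (1, 0) = _
      rw [hpa, hua]
    · show a ^ (0 : ZMod 3).val * b ^ (2 : ZMod 3).val = _
      rw [hub, ZMod.val_zero, pow_zero, one_mul, show (2 : ZMod 3).val = 2 from rfl]
      exact (inv_eq_of_mul_eq_one_left (by rw [← pow_succ]; exact hexp b hb)).symm
  have hdiag : ∀ n ∈ nor P, (n * a * n⁻¹ = a ∨ n * a * n⁻¹ = a⁻¹) ∧
      (n * b * n⁻¹ = b ∨ n * b * n⁻¹ = b⁻¹) := by
    intro n hn
    obtain ⟨m1, hm1⟩ := hsur _ (hN n hn a ha)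
    obtain ⟨m2, hm2⟩ := hsur _ (hN n hn b hb)
    set M : (ZMod 3 × ZMod 3) × (ZMod 3 × ZMod 3) := (m1, m2)
    have hM : Rl n M := ⟨hn, hm1, hm2⟩
    have hinjM : Function.Injective (act M) := fun v w e => by
      have := congrArg p2 e
      rw [hact n M hM, hact n M hM] at this
      exact hpinj (mul_left_cancel (mul_right_cancel this))
    have hdet : M.1.1 * M.2.2 - M.1.2 * M.2.1 ≠ 0 := by
      revert hinjM
      generalize M = M
      revert M
      decide +kernel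
    rcases matrix_check M hdet with ⟨e1, e2⟩ | ⟨w, hw, hw1, hw3⟩ | hcov
    · have hs : ∀ c : ZMod 3, c ≠ 0 → ∀ x ∈ (P : Subgroup G), x ^ c.val = x ∨ x ^ c.val = x⁻¹ := by
        intro c hc x hx
        have : c.val = 1 ∨ c.val = 2 := by
          have := ZMod.val_lt c
          have : c.val ≠ 0 := fun e => hc ((ZMod.val_eq_zero c).mp e)
          omega
        rcases this with e | e <;> rw [e]
        · exact Or.inl (pow_one x)
        · exact Or.inr (inv_eq_of_mul_eq_one_left (by rw [← pow_succ]; exact hexp x hx)).symm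
      have hne : M.1.1 ≠ 0 ∧ M.2.2 ≠ 0 := by
        rw [e1, e2, mul_zero, sub_zero, mul_ne_zero_iff] at hdet
        exact hdet
      refine ⟨?_, ?_⟩
      · rw [← hm1, show m1 = (m1.1, 0) from Prod.ext rfl e1]
        simpa [p2] using hs m1.1 hne.1 a ha
      · rw [← hm2, show m2 = (0, m2.2) from Prod.ext e2 rfl]
        simpa [p2] using hs m2.2 hne.2 b hb
    · exfalso
      have hreal : ∀ w ∈ words M, ∃ k, Rl k w := by
        have hI : Rl 1 ((1, 0), (0, 1)) :=
          ⟨one_mem _, by rw [hpa]; group, by rw [hpb]; group⟩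
        have hA := hmul _ _ _ _ hU hM
        have hB := hmul _ _ _ _ hM hU
        have hM2 := hmul _ _ _ _ hM hM
        simp only [words, List.forall_mem_cons, List.not_mem_nil, false_implies, implies_true, and_true]
        exact ⟨⟨_, hI⟩, ⟨_, hU⟩, ⟨_, hM⟩, ⟨_, hM2⟩, ⟨_, hA⟩, ⟨_, hB⟩, ⟨_, hmul _ _ _ _ hA hU⟩,
          ⟨_, hmul _ _ _ _ hA hA⟩, ⟨_, hmul _ _ _ _ hM hA⟩, ⟨_, hmul _ _ _ _ hM2 hU⟩,
          ⟨_, hmul _ _ _ _ hU hM2⟩, ⟨_, hmul _ _ _ _ hM hM2⟩⟩
      obtain ⟨k, hk⟩ := hreal w hw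
      have hk3 := hmul _ _ _ _ hk (hmul _ _ _ _ hk hk)
      rw [hw3] at hk3
      have hfix : k ^ 3 ∈ cen P := Subgroup.mem_centralizer_iff.mpr fun x hx => by
        obtain ⟨v, rfl⟩ := hsur x hx
        have := hact _ _ hk3 v
        rw [show act ((1, 0), (0, 1)) v = v by simp [act], eq_mul_inv_iff_mul_eq] at this
        rw [pow_succ, pow_two, mul_assoc k k k]
        exact this
      have hkc := mem_cen_of_cube P h9 k hk.1 hfix
      refine hw1 (Prod.ext (hpinj ?_) (hpinj ?_))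
      · rw [hk.2.1, hpa, ← Subgroup.mem_centralizer_iff.mp hkc a ha]; group
      · rw [hk.2.2, hpb, ← Subgroup.mem_centralizer_iff.mp hkc b hb]; group
    · exfalso
      have hreal : ∀ w ∈ words M, ∃ k, Rl k w := by
        have hI : Rl 1 ((1, 0), (0, 1)) :=
          ⟨one_mem _, by rw [hpa]; group, by rw [hpb]; group⟩
        have hA := hmul _ _ _ _ hU hM
        have hB := hmul _ _ _ _ hM hU
        have hM2 := hmul _ _ _ _ hM hM
        simp only [words, List.forall_mem_cons, List.not_mem_nil, false_implies, implies_true, and_true]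
        exact ⟨⟨_, hI⟩, ⟨_, hU⟩, ⟨_, hM⟩, ⟨_, hM2⟩, ⟨_, hA⟩, ⟨_, hB⟩, ⟨_, hmul _ _ _ _ hA hU⟩,
          ⟨_, hmul _ _ _ _ hA hA⟩, ⟨_, hmul _ _ _ _ hM hA⟩, ⟨_, hmul _ _ _ _ hM2 hU⟩,
          ⟨_, hmul _ _ _ _ hU hM2⟩, ⟨_, hmul _ _ _ _ hM hM2⟩⟩
      obtain ⟨x, hx, hxc⟩ := exists_three P h3
      have hall : ∀ i, IsConj a (x i) ∨ IsConj (p2 (1, 1)) (x i) := by
        intro i
        obtain ⟨v, hv⟩ := hsur _ (hx i).1
        have hv0 : v ≠ 0 := by
          rintro rfl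
          exact (hx i).2 (hv ▸ by simp [p2])
        obtain ⟨w, hw, e⟩ := hcov v hv0
        obtain ⟨k, hk⟩ := hreal w hw
        rcases e with e | e
        · exact Or.inl (isConj_iff.mpr ⟨k, by rw [← hpa, ← hact _ _ hk, e, hv]⟩)
        · exact Or.inr (isConj_iff.mpr ⟨k, by rw [← hact _ _ hk, e, hv]⟩)
      rcases hall 0 with h0 | h0 <;> rcases hall 1 with h1 | h1 <;> rcases hall 2 with h2 | h2 <;>
        first
          | exact absurd (hxc 0 1 (h0.symm.trans h1)) (by decide)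
          | exact absurd (hxc 0 2 (h0.symm.trans h2)) (by decide)
          | exact absurd (hxc 1 2 (h1.symm.trans h2)) (by decide)
  obtain ⟨n, hn, hne⟩ := exists_moved P hG h9 ha ha1
  have hna : n * a * n⁻¹ = a⁻¹ := (hdiag n hn).1.resolve_left hne
  obtain ⟨s, hs, hsa, hsb⟩ : ∃ s ∈ nor P, s * a * s⁻¹ = a⁻¹ ∧ s * b * s⁻¹ = b := by
    rcases (hdiag n hn).2 with e | e
    · exact ⟨n, hn, hna, e⟩
    · refine ⟨u * n, mul_mem hu hn, ?_, ?_⟩
      · rw [show u * n * a * (u * n)⁻¹ = u * (n * a * n⁻¹) * u⁻¹ by group, hna, ← conj_inv, hua]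
      · rw [show u * n * b * (u * n)⁻¹ = u * (n * b * n⁻¹) * u⁻¹ by group, e, ← conj_inv, hub, inv_inv]
  exact ⟨{ a := a, b := b, s := s, u := u, ha := ha, hb := hb, ha1 := ha1
           hb1 := fun e => hba (e ▸ one_mem _)
           hab := fun e => hba (by
             rw [eq_inv_of_mul_eq_one_right e]
             exact inv_mem (Subgroup.mem_zpowers a))
           span := hspan, inj := hinj, exp := hexp, hs := hs, hsa := hsa, hsb := hsb
           hu := hu, hua := hua, hub := hub, diag := hdiag }⟩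

end CfsgLib.NineTwoPrime
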