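import Mathlib

/-!
# Arithmetic for simple groups of order `9 * 2 ^ a * q ^ b`
-/

set_option autoImplicit false

namespace CfsgLib.NineTwoPrime

/-- Only the primes two and `q` divide `n`. -/
def Smooth (q n : ℕ) : Prop := ∃ i j : ℕ, n = 2 ^ i * q ^ j

variable {q : ℕ}

theorem smooth_of_dvd (hq : q.Prime) (hq3 : q ≠ 3) {a b n : ℕ} (h : n ∣ 9 * 2 ^ a * q ^ b)
    (h3 : ¬ 3 ∣ n) : Smooth q n := by
  have hcop : Nat.Coprime n 9 := by
    have : Nat.Coprime n 3 := ((Nat.prime_three).coprime_iff_not_dvd.mpr h3).symm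
    simpa using this.pow_right 2
  rw [mul_assoc] at h
  obtain ⟨u, v, hu, hv, rfl⟩ := (dvd_mul.mp (hcop.dvd_of_dvd_mul_left h))
  obtain ⟨i, -, rfl⟩ := (Nat.dvd_prime_pow Nat.prime_two).mp hu
  obtain ⟨j, -, rfl⟩ := (Nat.dvd_prime_pow hq).mp hv
  exact ⟨i, j, rfl⟩

/-- An odd number of this kind is a power of `q`. -/
theorem Smooth.odd_eq {n : ℕ} (h : Smooth q n) (ho : n % 2 = 1) : ∃ j, n = q ^ j := by
  obtain ⟨i, j, rfl⟩ := h
  rcases i with _ | i
  · exact ⟨j, by simp⟩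
  · exfalso
    rw [pow_succ', mul_assoc, Nat.mul_mod_right] at ho
    omega

/-- `q ^ j = 2 ^ i ± 1` forces `j = 1` when `q` is not three. -/
theorem pow_eq_one_of_two_pow (hq : q.Prime) (hq2 : q ≠ 2) (hq3 : q ≠ 3) {i j : ℕ} (hj : j ≠ 0)
    (h : q ^ j + 1 = 2 ^ i ∨ 2 ^ i + 1 = q ^ j) : j = 1 := by
  have hodd : q % 2 = 1 := (hq.eq_two_or_odd).resolve_left hq2
  have hq5 : 5 ≤ q := hq.five_le_of_ne_two_of_ne_three hq2 hq3
  rcases Nat.even_or_odd j with ⟨m, rfl⟩ | ⟨m, rfl⟩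
  · exfalso
    have hm : m ≠ 0 := by omega
    have hbig : 5 ≤ q ^ m := hq5.trans (Nat.le_self_pow hm q)
    have hoq : q ^ m % 2 = 1 := by rw [Nat.pow_mod, hodd]; simp
    set s := q ^ m
    rcases h with h | h
    · rw [show q ^ (m + m) = s * s by rw [pow_add]] at h
      obtain ⟨k, hk⟩ : ∃ k, s = 2 * k + 1 := ⟨s / 2, by omega⟩
      rcases i with _ | _ | i
      · simp at h; omega
      · simp at h; nlinarith
      · rw [hk, pow_succ', pow_succ'] at h
        have : (2 * k + 1) * (2 * k + 1) + 1 = 4 * (k * k + k) + 2 := by ring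
        omega
    · rw [show q ^ (m + m) = s * s by rw [pow_add]] at h
      have hd : (s - 1) * (s + 1) = 2 ^ i := by
        obtain ⟨r, hr⟩ : ∃ r, s = r + 1 := ⟨s - 1, by omega⟩
        rw [show s - 1 = r by omega, hr]
        rw [hr] at h
        nlinarith
      obtain ⟨u, -, hu⟩ := (Nat.dvd_prime_pow Nat.prime_two).mp (hd ▸ dvd_mul_right (s - 1) (s + 1))
      obtain ⟨v, -, hv⟩ := (Nat.dvd_prime_pow Nat.prime_two).mp (hd ▸ dvd_mul_left (s + 1) (s - 1))
      rcases u with _ | _ | u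
      · simp at hu; omega
      · simp at hu; omega
      · rcases v with _ | _ | v
        · simp at hv; omega
        · simp at hv; omega
        · rw [pow_succ', pow_succ'] at hu hv; omega
  · by_contra hne
    have hm : m ≠ 0 := by omega
    -- the cofactor of `q ± 1` is odd
    obtain ⟨r, hr, hlt, hpos⟩ : ∃ r : ℕ, r ∣ 2 ^ i ∧ 1 < r ∧ r % 2 = 1 := by
      rcases h with h | h
      · refine ⟨(∑ x ∈ Finset.range (2 * m + 1), (-(q : ℤ)) ^ x).natAbs, ?_, ?_⟩
        · have e : (q : ℤ) ^ (2 * m + 1) + 1 = (∑ x ∈ Finset.range (2 * m + 1), (-(q : ℤ)) ^ x) * (q + 1) := by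
            have := geom_sum_mul (-(q : ℤ)) (2 * m + 1)
            rw [Odd.neg_pow ⟨m, rfl⟩] at this
            linarith [this]
          rw [← Int.natCast_dvd_natCast, Int.natAbs_dvd]
          exact ⟨q + 1, by rw [← e, ← h]; push_cast; ring⟩
        · have e : (q : ℤ) ^ (2 * m + 1) + 1 = (∑ x ∈ Finset.range (2 * m + 1), (-(q : ℤ)) ^ x) * (q + 1) := by
            have := geom_sum_mul (-(q : ℤ)) (2 * m + 1)
            rw [Odd.neg_pow ⟨m, rfl⟩] at this
            linarith [this]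
          set S := ∑ x ∈ Finset.range (2 * m + 1), (-(q : ℤ)) ^ x with hS
          have hbig : (q : ℤ) ^ 1 < (q : ℤ) ^ (2 * m + 1) :=
            pow_lt_pow_right₀ (by exact_mod_cast hq.one_lt) (by omega)
          have h1 : 1 < S := by
            by_contra hle
            push Not at hle
            nlinarith
          refine ⟨by omega, ?_⟩
          have hSodd : S % 2 = 1 := by
            rw [hS, Finset.sum_int_mod, Finset.sum_congr rfl (g := fun _ => (1 : ℤ)) fun x _ =>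
              Int.odd_iff.mp (Odd.pow (Int.odd_iff.mpr (show (-(q : ℤ)) % 2 = 1 by omega)))]
            simp
          omega
      · refine ⟨∑ x ∈ Finset.range (2 * m + 1), q ^ x, ?_, ?_, ?_⟩
        · refine ⟨q - 1, ?_⟩
          have := geom_sum_mul_add (q - 1) (2 * m + 1)
          rw [show q - 1 + 1 = q by omega] at this
          omega
        · rw [Finset.sum_range_succ]
          have : q ≤ q ^ (2 * m) := Nat.le_self_pow (by omega) q
          omega
        · rw [Finset.sum_nat_mod, Finset.sum_congr rfl (g := fun _ => 1) fun x _ => by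
            rw [Nat.pow_mod, hodd]; simp]
          simp
    obtain ⟨w, -, rfl⟩ := (Nat.dvd_prime_pow Nat.prime_two).mp hr
    rcases w with _ | w
    · simp at hlt
    · rw [pow_succ', Nat.mul_mod_right] at hpos; omega

/-- Two consecutive numbers above one with prime divisors two and `q`. -/
theorem consecutive (hq : q.Prime) (hq2 : q ≠ 2) (hq3 : q ≠ 3) {u : ℕ} (hu : 1 < u)
    (h : Smooth q u) (h' : Smooth q (u + 1)) :
    ∃ i, (u = q ∧ u + 1 = 2 ^ i) ∨ (u = 2 ^ i ∧ u + 1 = q) := by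
  have key : ∀ o v : ℕ, o % 2 = 1 → 1 < o → Smooth q o → Smooth q v → Nat.Coprime o v →
      ∃ i j, j ≠ 0 ∧ o = q ^ j ∧ v = 2 ^ i := by
    intro o v ho ho1 hso hsv hcop
    obtain ⟨j, rfl⟩ := hso.odd_eq ho
    have hj : j ≠ 0 := by rintro rfl; simp at ho1
    obtain ⟨i, k, rfl⟩ := hsv
    have hk : k = 0 := by
      by_contra hk
      exact hq.not_dvd_one (hcop ▸ Nat.dvd_gcd (dvd_pow_self q hj) ((dvd_pow_self q hk).mul_left _))
    exact ⟨i, j, hj, rfl, by rw [hk, pow_zero, mul_one]⟩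
  have hcop : Nat.Coprime u (u + 1) := Nat.coprime_self_add_right.mpr (Nat.coprime_one_right u)
  rcases Nat.mod_two_eq_zero_or_one u with hpar | hpar
  · obtain ⟨i, j, hj, h1, h2⟩ := key (u + 1) u (by omega) (by omega) h' h hcop.symm
    obtain rfl := pow_eq_one_of_two_pow hq hq2 hq3 (i := i) hj (Or.inr (by omega))
    exact ⟨i, Or.inr ⟨h2, by simpa using h1⟩⟩
  · obtain ⟨i, j, hj, h1, h2⟩ := key u (u + 1) hpar hu h h' hcop
    obtain rfl := pow_eq_one_of_two_pow hq hq2 hq3 (i := i) hj (Or.inl (by omega))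
    exact ⟨i, Or.inl ⟨by simpa using h1, h2⟩⟩

theorem two_pow_mod_nine (i : ℕ) : 2 ^ i % 9 = 2 ^ (i % 6) % 9 := by
  conv_lhs => rw [← Nat.div_add_mod i 6, pow_add, pow_mul, Nat.mul_mod, Nat.pow_mod]
  norm_num

/-- A prime `2 ^ i - 1` with `3 ∣ i` is seven. -/
theorem mersenne_three (hq : q.Prime) {m : ℕ} (h : q + 1 = 2 ^ (3 * m)) : m = 1 := by
  rw [mul_comm, pow_mul] at h
  obtain ⟨y, hy⟩ : ∃ y, y = 2 ^ m := ⟨_, rfl⟩
  rw [← hy] at h
  have hy1 : 2 ≤ y := by
    rcases m with _ | m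
    · simp [hy] at h
      exact absurd h hq.ne_zero
    · rw [hy]; exact Nat.le_self_pow (Nat.succ_ne_zero m) 2
  have hd : y - 1 ∣ q := ⟨y ^ 2 + y + 1, by
    obtain ⟨r, rfl⟩ : ∃ r, y = r + 1 := ⟨y - 1, by omega⟩
    rw [Nat.add_sub_cancel]
    nlinarith⟩
  rcases hq.eq_one_or_self_of_dvd _ hd with e | e
  · rcases m with _ | _ | m
    · simp at hy; omega
    · rfl
    · have : 4 ≤ y := by rw [hy, pow_succ, pow_succ]; have := Nat.one_le_two_pow (n := m); omega
      omega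
  · obtain ⟨r, hr⟩ : ∃ r, y = r + 1 := ⟨y - 1, by omega⟩
    rw [hr] at h hy1 e
    rw [Nat.add_sub_cancel] at e
    have : 4 * (r + 1) ≤ (r + 1) ^ 3 := by
      calc 4 * (r + 1) = 2 * 2 * (r + 1) := by norm_num
        _ ≤ (r + 1) * (r + 1) * (r + 1) := Nat.mul_le_mul_right _ (Nat.mul_le_mul hy1 hy1)
        _ = _ := by ring
    omega

/-- A prime `2 ^ i + 1` has no odd factor `3` in `i`. -/
theorem fermat_three (hq : q.Prime) {m : ℕ} (hm : m ≠ 0) (h : q = 2 ^ (3 * m) + 1) : False := by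
  rw [mul_comm, pow_mul] at h
  set y := 2 ^ m
  have hy1 : 2 ≤ y := Nat.le_self_pow hm 2
  have hd : y + 1 ∣ q := by
    obtain ⟨r, hr⟩ : ∃ r, y = r + 1 := ⟨y - 1, by omega⟩
    refine ⟨y ^ 2 - y + 1, ?_⟩
    rw [h, hr, show (r + 1) ^ 2 - (r + 1) = r * r + r by rw [sq]; simp [Nat.mul_add, Nat.add_mul]]
    ring
  rcases hq.eq_one_or_self_of_dvd _ hd with e | e
  · omega
  · have : y * y * y = y := by nlinarith
    nlinarith

/-- The two degrees other than one in the free case. -/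
theorem free_degrees (hq : q.Prime) (hq2 : q ≠ 2) (hq3 : q ≠ 3) {f e : ℕ} (hf : 2 < f)
    (hsf : Smooth q f) (hse : Smooth q e)
    (h : (e = f + 1 ∧ f % 9 = 1) ∨ (e + 1 = f ∧ f % 9 = 8)) :
    (q = 7 ∧ f = 8 ∧ e = 7) ∨ (q = 17 ∧ f = 17 ∧ e = 16) ∨
      (∃ i, 7 ≤ i ∧ i % 6 = 1 ∧ f = q ∧ e = f + 1 ∧ q + 1 = 2 ^ i) ∨
      (∃ i, 10 ≤ i ∧ f = q ∧ e + 1 = f ∧ q = 2 ^ i + 1) := by
  have hr : ∀ i : ℕ, i % 6 = 0 ∧ 2 ^ i % 9 = 1 ∨ i % 6 = 1 ∧ 2 ^ i % 9 = 2 ∨ i % 6 = 2 ∧ 2 ^ i % 9 = 4 ∨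
      i % 6 = 3 ∧ 2 ^ i % 9 = 8 ∨ i % 6 = 4 ∧ 2 ^ i % 9 = 7 ∨ i % 6 = 5 ∧ 2 ^ i % 9 = 5 := by
    intro i
    rw [two_pow_mod_nine]
    have := Nat.mod_lt i (show 0 < 6 by norm_num)
    interval_cases (i % 6) <;> norm_num
  rcases h with ⟨rfl, hm⟩ | ⟨rfl, hm⟩
  · obtain ⟨i, ⟨h1, h2⟩ | ⟨h1, h2⟩⟩ := consecutive hq hq2 hq3 (by omega) hsf hse
    · refine Or.inr (Or.inr (Or.inl ⟨i, ?_, ?_, h1, rfl, by omega⟩))
      · rcases i with _ | _ | i
        · simp at h2; omega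
        · simp at h2; omega
        · rcases hr (i + 1 + 1) with c | c | c | c | c | c <;> omega
      · rcases hr i with c | c | c | c | c | c <;> omega
    · exfalso
      obtain ⟨m, rfl⟩ : ∃ m, i = 3 * m := ⟨i / 3, by rcases hr i with c | c | c | c | c | c <;> omega⟩
      refine fermat_three hq ?_ (m := m) (by omega)
      rintro rfl
      simp at h1
      omega
  · obtain ⟨i, ⟨h1, h2⟩ | ⟨h1, h2⟩⟩ := consecutive hq hq2 hq3 (by omega) hse hsf
    · obtain ⟨m, rfl⟩ : ∃ m, i = 3 * m := ⟨i / 3, by rcases hr i with c | c | c | c | c | c <;> omega⟩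
      obtain rfl := mersenne_three hq (m := m) (by omega)
      norm_num at h2
      omega
    · by_cases hi : i = 4
      · subst hi; norm_num at h1; omega
      · refine Or.inr (Or.inr (Or.inr ⟨i, ?_, by omega, rfl, by omega⟩))
        rcases hr i with c | c | c | c | c | c <;> omega

theorem reduce_exp {i : ℕ} (hone : 2 ^ i % q = 1 % q) (c x : ℕ) :
    (c * 2 ^ x) % q = (c * 2 ^ (x % i)) % q := by
  have h1 : Nat.ModEq q (2 ^ i) 1 := hone
  have := ((h1.pow (x / i)).mul_right (2 ^ (x % i))).mul_left c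
  rwa [one_pow, one_mul, ← pow_mul, ← pow_add, Nat.div_add_mod] at this

/-- Residues of `3 ^ y * 2 ^ x` at a Mersenne prime. -/
theorem mersenne_residue {i : ℕ} (hi : 7 ≤ i) (hqi : q + 1 = 2 ^ i) {y : ℕ} (hy : y ≤ 2) (x : ℕ) :
    (3 ^ y * 2 ^ x) % q ≠ 0 ∧ (3 ^ y * 2 ^ x) % q + 5 < q ∧
      ((3 ^ y * 2 ^ x) % q = 1 → y = 0 ∧ i ∣ x) := by
  have h128 : 128 ≤ 2 ^ i := le_trans (by norm_num) (Nat.pow_le_pow_right (by norm_num) hi)
  have hone : 2 ^ i % q = 1 := by rw [← hqi, Nat.add_mod_left, Nat.one_mod_eq_one.mpr (by omega)]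
  rw [reduce_exp (i := i) (by rw [hone, Nat.one_mod_eq_one.mpr (by omega)]) (3 ^ y) x]
  have hlt : x % i < i := Nat.mod_lt _ (by omega)
  obtain ⟨d, hd⟩ : ∃ d, i = x % i + (d + 1) := ⟨i - x % i - 1, by omega⟩
  have hdvd : x % i = 0 → i ∣ x := fun h => Nat.dvd_of_mod_eq_zero h
  set r := x % i
  set z := 2 ^ r with hz
  have hz1 : 1 ≤ z := Nat.one_le_two_pow
  have hzr : z = 1 → r = 0 := fun h => by
    rcases r with _ | r
    · rfl
    · rw [hz, pow_succ] at h; omega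
  have hq' : q + 1 = z * 2 ^ (d + 1) := by rw [hqi, hd, pow_add]
  interval_cases y
  · have : z * 2 ≤ z * 2 ^ (d + 1) := Nat.mul_le_mul_left z (Nat.le_self_pow (Nat.succ_ne_zero d) 2)
    rw [pow_zero, one_mul, Nat.mod_eq_of_lt (by omega)]
    exact ⟨by omega, by omega, fun h => ⟨rfl, hdvd (hzr h)⟩⟩
  · rcases d with _ | d
    · norm_num at hq'
      rw [pow_one, show 3 * z = q + (z + 1) by omega, Nat.add_mod_left, Nat.mod_eq_of_lt (by omega)]
      exact ⟨by omega, by omega, by omega⟩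
    · have : z * 4 ≤ z * 2 ^ (d + 1 + 1) :=
        Nat.mul_le_mul_left z (by rw [pow_succ, pow_succ]; have := Nat.one_le_two_pow (n := d); omega)
      rw [pow_one, Nat.mod_eq_of_lt (by omega)]
      exact ⟨by omega, by omega, by omega⟩
  · rcases d with _ | _ | _ | d
    · norm_num at hq'
      rw [show 3 ^ 2 * z = q * 4 + (z + 4) by omega, Nat.mul_add_mod, Nat.mod_eq_of_lt (by omega)]
      exact ⟨by omega, by omega, by omega⟩
    · norm_num at hq'
      rw [show 3 ^ 2 * z = q * 2 + (z + 2) by omega, Nat.mul_add_mod, Nat.mod_eq_of_lt (by omega)]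
      exact ⟨by omega, by omega, by omega⟩
    · norm_num at hq'
      rw [show 3 ^ 2 * z = q + (z + 1) by omega, Nat.add_mod_left, Nat.mod_eq_of_lt (by omega)]
      exact ⟨by omega, by omega, by omega⟩
    · have : z * 16 ≤ z * 2 ^ (d + 1 + 1 + 1 + 1) := Nat.mul_le_mul_left z
        (le_trans (by norm_num : (16 : ℕ) ≤ 2 ^ 4) (Nat.pow_le_pow_right (by norm_num) (by omega)))
      rw [Nat.mod_eq_of_lt (by omega)]
      exact ⟨by omega, by omega, by omega⟩

/-- `3` and `9` are no powers of two modulo a large Fermat prime. -/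
theorem fermat_residue {i : ℕ} (hi : 10 ≤ i) (hqi : q = 2 ^ i + 1) {y : ℕ} (hy : y ≤ 2) (x : ℕ)
    (h : (3 ^ y * 2 ^ x) % q = 1) : y = 0 := by
  have h128 : 1024 ≤ 2 ^ i := le_trans (by norm_num) (Nat.pow_le_pow_right (by norm_num) hi)
  have : NeZero q := ⟨by omega⟩
  have hm : ((2 : ZMod q)) ^ i = -1 := by
    rw [eq_neg_iff_add_eq_zero]
    have := ZMod.natCast_self q
    rw [hqi] at this
    push_cast at this
    rw [hqi]
    exact_mod_cast this
  have hlt : x % i < i := Nat.mod_lt _ (by omega)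
  obtain ⟨d, hd⟩ : ∃ d, i = x % i + (d + 1) := ⟨i - x % i - 1, by omega⟩
  have hc : ((3 ^ y * 2 ^ x : ℕ) : ZMod q) = ((1 : ℕ) : ZMod q) := by
    rw [ZMod.natCast_eq_natCast_iff', h, Nat.one_mod_eq_one.mpr (by omega)]
  have hor : ((3 ^ y * 2 ^ (x % i) : ℕ) : ZMod q) = ((1 : ℕ) : ZMod q) ∨
      ((3 ^ y * 2 ^ (x % i) : ℕ) : ZMod q) = ((2 ^ i : ℕ) : ZMod q) := by
    rw [← Nat.div_add_mod x i, pow_add, pow_mul] at hc
    push_cast at hc ⊢
    rw [hm] at hc
    rcases neg_one_pow_eq_or (ZMod q) (x / i) with e | e <;> rw [e] at hc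
    · left; rw [← hc]; ring
    · right; rw [hm]; linear_combination -hc
  simp only [ZMod.natCast_eq_natCast_iff', Nat.one_mod_eq_one.mpr (show q ≠ 1 by omega),
    Nat.mod_eq_of_lt (show 2 ^ i < q by omega)] at hor
  set r := x % i
  set z := 2 ^ r with hz
  have hz1 : 1 ≤ z := Nat.one_le_two_pow
  have hq' : q = z * 2 ^ (d + 1) + 1 := by rw [hqi, hd, pow_add]
  have hii : 2 ^ i = z * 2 ^ (d + 1) := by rw [hd, pow_add]
  have hno : ∀ k : ℕ, k = 3 ∨ k = 9 → k * z ≠ z * 2 ^ (d + 1) := by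
    intro k hk e
    rw [mul_comm] at e
    have e' := Nat.eq_of_mul_eq_mul_left (by omega) e
    rw [pow_succ] at e'
    omega
  interval_cases y
  · rfl
  · exfalso
    rcases d with _ | d
    · norm_num at hq' hii
      rw [pow_one, show 3 * z = q + (z - 1) by omega, Nat.add_mod_left, Nat.mod_eq_of_lt (by omega)] at hor
      omega
    · have : z * 4 ≤ z * 2 ^ (d + 1 + 1) :=
        Nat.mul_le_mul_left z (by rw [pow_succ, pow_succ]; have := Nat.one_le_two_pow (n := d); omega)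
      rw [pow_one, Nat.mod_eq_of_lt (by omega)] at hor
      have := hno 3 (Or.inl rfl)
      omega
  · exfalso
    rcases d with _ | _ | _ | d
    · norm_num at hq' hii
      rw [show 3 ^ 2 * z = q * 4 + (z - 4) by omega, Nat.mul_add_mod, Nat.mod_eq_of_lt (by omega)] at hor
      omega
    · norm_num at hq' hii
      rw [show 3 ^ 2 * z = q * 2 + (z - 2) by omega, Nat.mul_add_mod, Nat.mod_eq_of_lt (by omega)] at hor
      omega
    · norm_num at hq' hii
      rw [show 3 ^ 2 * z = q + (z - 1) by omega, Nat.add_mod_left, Nat.mod_eq_of_lt (by omega)] at hor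
      omega
    · have : z * 16 ≤ z * 2 ^ (d + 1 + 1 + 1 + 1) := Nat.mul_le_mul_left z
        (le_trans (by norm_num : (16 : ℕ) ≤ 2 ^ 4) (Nat.pow_le_pow_right (by norm_num) (by omega)))
      rw [Nat.mod_eq_of_lt (by omega)] at hor
      have := hno 9 (Or.inr rfl)
      omega

theorem seventeen_residue {y : ℕ} (hy : y ≤ 2) (x : ℕ) (h : (3 ^ y * 2 ^ x) % 17 = 1) :
    y = 0 ∨ y = 2 ∧ x % 8 = 1 := by
  rw [reduce_exp (i := 8) (by norm_num) (3 ^ y) x] at h
  have := Nat.mod_lt x (show 0 < 8 by norm_num)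
  interval_cases y <;> interval_cases hx : x % 8 <;> simp_all

end CfsgLib.NineTwoPrime
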