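import Cfsg.Agent.Lib.SmallSimple.NineTwoPrime.Prime
import Cfsg.Agent.Lib.SmallSimple.NineTwoPrime.Arith

/-!
# No large Mersenne prime: parity in the principal `q`-block
-/

set_option autoImplicit false
set_option linter.unusedSectionVars false
set_option linter.style.haveILetI false

namespace CfsgLib.NineTwoPrime

open scoped ComplexConjugate
open Cfsg CfsgLib.Char CfsgLib.Block CfsgLib.Block.AbelianFree

universe u

variable {G : Type u} [Group G] [Fintype G] [IsSimpleGroup G]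

theorem free_of_prime {q : ℕ} [hq : Fact q.Prime] (Q : Sylow q G) (hQ : Nat.card Q = q) : Free Q := by
  have hQ' : Nat.card ↥(Q : Subgroup G) = q := hQ
  have : IsCyclic ↥(Q : Subgroup G) := isCyclic_of_prime_card hQ'
  refine ⟨IsCyclic.isMulCommutative, fun y hy hy1 => le_antisymm (fun n hn => ?_) fun n hn =>
    ⟨Subgroup.mem_centralizer_singleton_iff.mpr (Subgroup.mem_centralizer_iff.mp hn y hy).symm,
      cen_le_nor hn⟩⟩
  have hgen : Subgroup.zpowers y = (Q : Subgroup G) := by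
    refine Subgroup.eq_of_le_of_card_ge (Subgroup.zpowers_le.mpr hy) ?_
    rw [hQ', Nat.card_zpowers]
    exact le_of_eq (((Nat.dvd_prime hq.out).mp (hQ' ▸ Subgroup.orderOf_dvd_natCard _ hy)).resolve_left
      fun e => hy1 (orderOf_eq_one_iff.mp e)).symm
  refine Subgroup.mem_centralizer_iff.mpr fun w hw => ?_
  rw [SetLike.mem_coe, ← hgen] at hw
  obtain ⟨j, rfl⟩ := Subgroup.mem_zpowers_iff.mp hw
  have hh : Commute n y := Subgroup.mem_centralizer_singleton_iff.mp hn.1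
  exact hh.symm.zpow_left j

theorem mersenne_false (hG : ¬ IsMulCommutative G) {q a i : ℕ} [hq : Fact q.Prime] (hi : 7 ≤ i)
    (hqi : q + 1 = 2 ^ i) (hcard : Nat.card G = 9 * 2 ^ a * q) {χ : IrrCharacter G}
    (hdeg : charDegree (χ : G → ℂ) = q) : False := by
  classical
  have h128 : 128 ≤ 2 ^ i := le_trans (by norm_num) (Nat.pow_le_pow_right (by norm_num) hi)
  have hq2 : q ≠ 2 := by omega
  have hq3 : q ≠ 3 := by omega
  obtain ⟨Q⟩ : Nonempty (Sylow q G) := inferInstance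
  obtain ⟨hQ, -, x, y, hy, hmod, hediv, hord⟩ := sylow_data hG hq2 hq3 hcard hdeg Q
  obtain rfl : y = 0 := ((mersenne_residue hi hqi hy x).2.2 hmod).1
  set e := (cen Q).relIndex (nor Q) with hedef
  rw [pow_zero, one_mul] at hord
  have he918 : e = 9 ∨ e = 18 := by
    have h1 : e * 2 ^ x = 9 * 2 ^ a := by
      refine Nat.eq_of_mul_eq_mul_left hq.out.pos ?_
      rw [← mul_assoc, ← hord, hcard]; ring
    obtain ⟨w, hw⟩ : 9 ∣ e :=
      (Nat.Coprime.pow_right x (show Nat.Coprime 9 2 by norm_num)).dvd_of_dvd_mul_right ⟨2 ^ a, h1⟩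
    obtain ⟨j, -, hj⟩ := (Nat.dvd_prime_pow Nat.prime_two).mp (show w ∣ 2 ^ a from ⟨2 ^ x,
      Nat.eq_of_mul_eq_mul_left (show 0 < 9 by norm_num) (by rw [← h1, hw]; ring)⟩)
    obtain ⟨i', hi'⟩ : ∃ i', i = i' + 2 := ⟨i - 2, by omega⟩
    rw [hi', pow_succ, pow_succ] at hqi
    rcases j with _ | _ | j
    · left; rw [hw, hj, pow_zero, mul_one]
    · right; rw [hw, hj]; norm_num
    · exfalso
      have h4 : 4 ∣ q - 1 := (Dvd.intro_left (9 * 2 ^ j) (by rw [hw, hj]; ring)).trans hediv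
      omega
  obtain ⟨M, hM⟩ := exists_pModular hq.out
  have := hM.2.1
  have hfree := free_of_prime Q hQ
  have := Fintype.ofFinite ↥(Q : Subgroup G)
  have := Fintype.ofFinite (IrrCharacter G)
  have : Finite (Lin Q) := inferInstance
  have := Fintype.ofFinite (Lin Q)
  have hm : (cen Q).relIndex (nor Q) + 1 < Nat.card Q := by rw [hQ, ← hedef]; omega
  have hP1 : Nat.card Q ≠ 1 := by omega
  obtain ⟨E⟩ := hfree.exists_coherent hM hm
  have : Nontrivial (Lin Q) := Fintype.one_lt_card_iff_nontrivial.mp (by rw [hfree.card_lin]; omega)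
  obtain ⟨ψ, hψ⟩ := exists_ne (1 : Lin Q)
  have hcY := E.card_Y hfree
  rw [← hedef, hQ] at hcY
  have hm7 : 7 ≤ E.Y.card := by
    by_contra hlt
    have : E.Y.card * e ≤ 6 * e := Nat.mul_le_mul_right e (by omega)
    omega
  have hn := E.norm_eq hfree hM hP1 hψ
  rw [← hedef] at hn
  set d := E.base (E.ζ ψ) with hd
  have hXsum0 : (0 : ℤ) ≤ ∑ θ ∈ E.X, E.base θ ^ 2 := Finset.sum_nonneg fun θ _ => sq_nonneg _
  have he18 : (e : ℤ) ≤ 18 := by omega
  have hd2 : ((E.Y.card : ℤ) - 1) * d ^ 2 ≤ (e : ℤ) + 1 := by nlinarith [sq_nonneg (d - E.δ)]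
  have hdabs : -1 ≤ d ∧ d ≤ 1 := by
    have h6 : (6 : ℤ) * d ^ 2 ≤ 19 := by
      have : (6 : ℤ) * d ^ 2 ≤ ((E.Y.card : ℤ) - 1) * d ^ 2 :=
        mul_le_mul_of_nonneg_right (by omega) (sq_nonneg d)
      linarith
    constructor <;> nlinarith
  obtain ⟨u, hu⟩ : ∃ u : ↥(Q : Subgroup G), u ≠ 1 := by
    have : Nontrivial ↥(Q : Subgroup G) := Finite.one_lt_card_iff_nontrivial.mp (by
      rw [show Nat.card ↥(Q : Subgroup G) = q from hQ]; exact hq.out.one_lt)
    exact exists_ne _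
  have hdvd : ∀ θ : IrrCharacter G, ¬ q ∣ charDegree (θ : G → ℂ) →
      ∃ y' x', y' ≤ 2 ∧ charDegree (θ : G → ℂ) = 3 ^ y' * 2 ^ x' := by
    intro θ hθ
    have h1 : charDegree (θ : G → ℂ) ∣ 9 * 2 ^ a :=
      (hq.out.coprime_iff_not_dvd.mpr hθ).symm.dvd_of_dvd_mul_right (hcard ▸ charDegree_dvd θ)
    obtain ⟨u', v', hu', hv', heq⟩ := dvd_mul.mp h1
    obtain ⟨y', hy', rfl⟩ := (Nat.dvd_prime_pow Nat.prime_three).mp (show u' ∣ 3 ^ 2 by simpa using hu')
    obtain ⟨x', -, rfl⟩ := (Nat.dvd_prime_pow Nat.prime_two).mp hv'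
    exact ⟨y', x', hy', heq⟩
  -- the non-exceptional characters other than the trivial one have positive base and even degree
  have hX : ∀ θ ∈ E.X, θ ≠ oneChar G → 0 < E.base θ ∧ 2 ∣ charDegree (θ : G → ℂ) ∧
      q ≤ charDegree (θ : G → ℂ) := by
    intro θ hθ hθ1
    obtain ⟨hB, hnot⟩ := E.mem_X.mp hθ
    have hb19 : E.base θ ^ 2 ≤ 19 := by
      have := Finset.single_le_sum (fun i _ => sq_nonneg (E.base i)) hθ
      nlinarith [sq_nonneg (d - E.δ)]
    have hb : -4 ≤ E.base θ ∧ E.base θ ≤ 4 := ⟨by nlinarith, by nlinarith⟩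
    have hb0 := E.base_ne_zero hfree hM hP1 hθ
    have hD := E.degree_eq hfree hB
    rw [Finset.filter_eq_empty_iff.mpr fun χ' _ hχ' => hnot χ' hχ'.1 hχ'.2, Finset.card_empty, hQ,
      Nat.cast_zero, mul_zero, add_zero] at hD
    have hndvd : ¬ q ∣ charDegree (θ : G → ℂ) := fun h => by
      have h2 : (q : ℤ) ∣ E.base θ := by
        have := Int.natCast_dvd_natCast.mpr h
        rw [hD] at this
        exact (dvd_add_right (dvd_mul_right _ _)).mp this
      have h3 := Int.le_of_dvd (show 0 < |E.base θ| from abs_pos.mpr hb0) ((dvd_abs _ _).mpr h2)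
      rcases abs_cases (E.base θ) with e' | e' <;> omega
    obtain ⟨y', x', hy', heq⟩ := hdvd θ hndvd
    obtain ⟨-, hres, -⟩ := mersenne_residue hi hqi hy' x'
    rw [← heq] at hres
    have hdm : (charDegree (θ : G → ℂ) : ℤ) % q = ((charDegree (θ : G → ℂ) % q : ℕ) : ℤ) :=
      (Int.natCast_mod _ _).symm
    have hpos : 0 < E.base θ := by
      by_contra hneg
      rw [hD, add_comm, Int.add_mul_emod_self_left, ← Int.add_emod_right,
        Int.emod_eq_of_lt (by omega) (by omega)] at hdm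
      omega
    have hbig : q ≤ charDegree (θ : G → ℂ) := by
      by_contra hlt
      have hc : E.c θ = 0 := by
        rcases lt_trichotomy (E.c θ) 0 with h | h | h
        · nlinarith [Int.add_one_le_iff.mpr h]
        · exact h
        · nlinarith [Int.add_one_le_iff.mpr h]
      have hval := E.value_X hfree hM hθ (z := (u : G)) (y := (u : G))
        (isPPart_one_mul (hfree.orderOf_mem u.2) hq.out.ne_one) u.2 fun e' => hu (Subtype.ext e')
      rw [hc, mul_zero, zero_add] at hD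
      refine hu (Subtype.ext (eq_one_of_value' hθ1 ?_))
      rw [hval, ← hD, (charDegree_eq θ).1]
      simp
    refine ⟨hpos, ?_, hbig⟩
    rcases x' with _ | x'
    · rw [heq, pow_zero, mul_one] at hbig
      have : 3 ^ y' ≤ 3 ^ 2 := Nat.pow_le_pow_right (by norm_num) hy'
      omega
    · exact ⟨3 ^ y' * 2 ^ x', by rw [heq]; ring⟩
  -- the relation at the identity
  have hrel := E.regular_relation hfree hM hP1 hψ (g := (1 : G)) (by simp [hq.out.ne_one])
  have h1X := E.one_mem_X hfree hM hm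
  rw [← Finset.add_sum_erase _ _ h1X, E.base_one hfree hM hm, (charDegree_eq (E.ζ ψ)).1,
    Finset.sum_congr rfl fun θ _ => by rw [(charDegree_eq θ).1], ← hd] at hrel
  simp only [oneChar, Int.cast_one, one_mul] at hrel
  set D := charDegree (E.ζ ψ : G → ℂ) with hDdef
  have hrelZ : ((E.Y.card : ℤ) * d - E.δ) * (D : ℤ) +
      (1 + ∑ θ ∈ E.X.erase (oneChar G), E.base θ * (charDegree (θ : G → ℂ) : ℤ)) = 0 := by
    exact_mod_cast hrel
  have hR2 : (2 : ℤ) ∣ ∑ θ ∈ E.X.erase (oneChar G), E.base θ * (charDegree (θ : G → ℂ) : ℤ) :=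
    Finset.dvd_sum fun θ hθ => dvd_mul_of_dvd_right (by
      exact_mod_cast (hX θ (Finset.mem_of_mem_erase hθ) (Finset.ne_of_mem_erase hθ)).2.1) _
  have hDodd : D % 2 = 1 := by
    by_contra hh
    obtain ⟨D', hD'⟩ : (2 : ℤ) ∣ (D : ℤ) := by omega
    obtain ⟨R', hR'⟩ := hR2
    rw [hR', hD'] at hrelZ
    have : ((E.Y.card : ℤ) * d - E.δ) * (2 * D') = 2 * (((E.Y.card : ℤ) * d - E.δ) * D') := by ring
    omega
  have hDeq := E.degree_eq hfree (E.mem ψ hψ)
  rw [E.filter_eq_rel hψ, hfree.card_rel hψ, ← hd, ← hDdef, ← hedef, hQ] at hDeq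
  have hDq : ¬ q ∣ D := fun h => by
    have h2 : (q : ℤ) ∣ d + E.δ * (e : ℤ) := by
      have := Int.natCast_dvd_natCast.mpr h
      rw [hDeq, add_assoc] at this
      exact (dvd_add_right (dvd_mul_right _ _)).mp this
    have h3 : d + E.δ * (e : ℤ) ≠ 0 := by rcases E.sign with s | s <;> rw [s] <;> omega
    have h4 := Int.le_of_dvd (show 0 < |d + E.δ * (e : ℤ)| from abs_pos.mpr h3) ((dvd_abs _ _).mpr h2)
    rcases abs_cases (d + E.δ * (e : ℤ)) with e' | e' <;> rcases E.sign with s | s <;> rw [s] at e' h4 <;> omega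
  obtain ⟨y', x', hy', heq⟩ := hdvd _ hDq
  rw [← hDdef] at heq
  obtain rfl : x' = 0 := by
    rcases x' with _ | x'
    · rfl
    · rw [heq, pow_succ, ← mul_assoc] at hDodd; omega
  rw [pow_zero, mul_one] at heq
  have hD9 : D = 9 ∧ E.δ = 1 ∧ d = 0 := by
    have h3y : 3 ^ y' = 1 ∨ 3 ^ y' = 3 ∨ 3 ^ y' = 9 := by interval_cases y' <;> norm_num
    have hD' : (D : ℤ) ≤ 9 := by omega
    have hqZ : (127 : ℤ) ≤ (q : ℤ) := by omega
    have hc : E.c (E.ζ ψ) = 0 := by
      rcases lt_trichotomy (E.c (E.ζ ψ)) 0 with h | h | h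
      · exfalso; rcases E.sign with s | s <;> rw [s] at hDeq <;> nlinarith [Int.add_one_le_iff.mpr h]
      · exact h
      · exfalso; rcases E.sign with s | s <;> rw [s] at hDeq <;> nlinarith [Int.add_one_le_iff.mpr h]
    rw [hc, mul_zero, zero_add] at hDeq
    rcases E.sign with s | s <;> rw [s] at hDeq <;> rcases he918 with h | h <;> rw [h] at hDeq <;>
      push_cast at hDeq <;> omega
  obtain ⟨hD, hδ, hd0⟩ := hD9
  rw [hd0, hδ, hD, mul_zero] at hrelZ
  rcases (E.X.erase (oneChar G)).eq_empty_or_nonempty with he0 | ⟨θ, hθ⟩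
  · rw [he0, Finset.sum_empty] at hrelZ; norm_num at hrelZ
  · have hle := Finset.single_le_sum (f := fun θ => E.base θ * (charDegree (θ : G → ℂ) : ℤ))
      (fun θ' hθ' => mul_nonneg (hX θ' (Finset.mem_of_mem_erase hθ') (Finset.ne_of_mem_erase hθ')).1.le
        (Int.natCast_nonneg _)) hθ
    obtain ⟨hb, -, hbig⟩ := hX θ (Finset.mem_of_mem_erase hθ) (Finset.ne_of_mem_erase hθ)
    have hqZ : (127 : ℤ) ≤ (charDegree (θ : G → ℂ) : ℤ) := by omega
    have := mul_le_mul_of_nonneg_right (show (1 : ℤ) ≤ E.base θ by omega)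
      (Int.natCast_nonneg (charDegree (θ : G → ℂ)))
    push_cast at hrelZ
    linarith

end CfsgLib.NineTwoPrime
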