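import Cfsg.Agent.Lib.SmallSimple.NineTwoPrime.Bound
import Cfsg.Agent.Lib.SmallSimple.NineTwoPrime.Mersenne
import Cfsg.Agent.Lib.Block.PrincipalCoreInflation
import Cfsg.Agent.Lib.Classical.ProjLine
import Cfsg.Agent.Lib.Perm.SelfNormNonab.Converse
import Cfsg.Agent.S0496
import Cfsg.Agent.S0999
import Cfsg.Agent.S1011

/-!
# The free case: `PSL₂(8)` and `PSL₂(17)`
-/

set_option autoImplicit false
set_option linter.unusedSectionVars false
set_option linter.style.haveILetI false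

namespace CfsgLib.NineTwoPrime

open scoped ComplexConjugate
open Cfsg CfsgLib.Char CfsgLib.Block CfsgLib.Block.AbelianFree

universe u

variable {G : Type u} [Group G] [Fintype G] [IsSimpleGroup G]

theorem exists_central_involution (h2 : 2 ∣ Nat.card G) :
    ∃ z : G, orderOf z = 2 ∧
      2 ^ (Nat.card G).factorization 2 ∣ Nat.card (Subgroup.centralizer ({z} : Set G)) := by
  classical
  haveI := Fact.mk Nat.prime_two
  obtain ⟨S⟩ : Nonempty (Sylow 2 G) := inferInstance
  have hpos : 1 < Nat.card ↥(S : Subgroup G) := by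
    rw [Sylow.card_eq_multiplicity]
    exact Nat.one_lt_two_pow (Nat.Prime.factorization_pos_of_dvd Nat.prime_two Nat.card_pos.ne' h2).ne'
  have : Nontrivial ↥(S : Subgroup G) := Finite.one_lt_card_iff_nontrivial.mp hpos
  have : Nontrivial (Subgroup.center ↥(S : Subgroup G)) := S.2.center_nontrivial
  obtain ⟨k, hk⟩ := IsPGroup.iff_card.mp (S.2.to_subgroup (Subgroup.center ↥(S : Subgroup G)))
  have hk0 : k ≠ 0 := by
    rintro rfl
    rw [pow_zero] at hk
    exact absurd hk (Finite.one_lt_card.ne')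
  obtain ⟨z, hz⟩ := exists_prime_orderOf_dvd_card' 2 (hk ▸ dvd_pow_self 2 hk0)
  refine ⟨((z : ↥(S : Subgroup G)) : G), by rw [Subgroup.orderOf_coe, Subgroup.orderOf_coe, hz], ?_⟩
  rw [← S.card_eq_multiplicity]
  refine Subgroup.card_dvd_of_le fun x hx => Subgroup.mem_centralizer_singleton_iff.mpr ?_
  exact congrArg Subtype.val (Subgroup.mem_center_iff.mp z.2 ⟨x, hx⟩)

/-- Values of nontrivial characters at involutions are smaller than the degree. -/
theorem abs_lt_degree (hG : ¬ IsMulCommutative G) {χ : IrrCharacter G} (hχ : χ ≠ oneChar G) {z : G}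
    (hz : orderOf z = 2) {T : ℤ} (hT : (χ : G → ℂ) z = (T : ℂ)) :
    -(charDegree (χ : G → ℂ) : ℤ) < T ∧ T < (charDegree (χ : G → ℂ) : ℤ) := by
  have h1 := one_lt_degree hG hχ
  have hz1 : z ≠ 1 := fun e => by rw [e, orderOf_one] at hz; omega
  obtain ⟨φ, d, ρ, hρ, hφ⟩ := χ
  have hd : charDegree φ = d := by
    have := (charDegree_eq ⟨φ, d, ρ, hρ, hφ⟩).1
    have h' : φ 1 = (d : ℂ) := by rw [← hφ, Representation.char_one, Module.finrank_fin_fun]
    exact_mod_cast this.symm.trans h'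
  change φ z = (T : ℂ) at hT
  change 1 < charDegree φ at h1
  show -(charDegree φ : ℤ) < T ∧ T < (charDegree φ : ℤ)
  rw [hd] at h1 ⊢
  have hle := norm_char_le ρ z
  rw [Module.finrank_fin_fun, hφ, hT, Complex.norm_intCast] at hle
  have hne : |(T : ℝ)| ≠ (d : ℝ) := fun e => by
    obtain ⟨ω, hω⟩ := (norm_char_eq_iff ρ z).mp (by
      rw [Module.finrank_fin_fun, hφ, hT, Complex.norm_intCast]; exact e)
    exact hz1 (PrimeDegrees.scalar_eq_one (not_comm_forall hG) ρ hρ h1 hω)
  have hlt : |(T : ℝ)| < (d : ℝ) := lt_of_le_of_ne hle hne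
  rw [abs_lt] at hlt
  exact ⟨by exact_mod_cast hlt.1, by exact_mod_cast hlt.2⟩

theorem free_main (hG : ¬ IsMulCommutative G) (q a b : ℕ) (hq : q.Prime) (hq2 : q ≠ 2) (hq3 : q ≠ 3)
    (hcard : Nat.card G = 9 * 2 ^ a * q ^ b) (hqG : q ∣ Nat.card G) (P : Sylow 3 G) (h9 : Nat.card P = 9)
    (h : Free P) (h2 : (cen P).relIndex (nor P) = 2) :
    (∃ (F : Type) (_ : Field F) (_ : Fintype F), Fintype.card F = 8 ∧
        Nonempty (G ≃* Matrix.ProjectiveSpecialLinearGroup (Fin 2) F)) ∨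
      Nonempty (G ≃* Matrix.ProjectiveSpecialLinearGroup (Fin 2) (ZMod 17)) := by
  classical
  haveI := Fact.mk hq
  have hq5 : 5 ≤ q := hq.five_le_of_ne_two_of_ne_three hq2 hq3
  obtain ⟨M, hM⟩ := exists_pModular Nat.prime_three
  haveI := hM.2.1
  have := Fintype.ofFinite (IrrCharacter G)
  obtain ⟨S⟩ := exists_freeShape hG hM h h9 h2
  obtain ⟨θ₀, hθ₀⟩ := S.nonempty
  set f := charDegree (S.X : G → ℂ) with hf
  set e := charDegree (θ₀ : G → ℂ) with he
  have hef : (e : ℤ) = f + S.β := S.degY θ₀ hθ₀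
  have hf1 : 1 < f := one_lt_degree hG S.hX1
  have he1 : 1 < e := one_lt_degree hG (S.hY θ₀ hθ₀).2.1
  obtain ⟨c, hc⟩ := S.degMod
  have hf3 : ¬ 3 ∣ f := by rcases S.hβ with hb | hb <;> rw [hb] at hc <;> omega
  have he3 : ¬ 3 ∣ e := by rcases S.hβ with hb | hb <;> rw [hb] at hc hef <;> omega
  have hdiv : ∀ θ : IrrCharacter G, charDegree (θ : G → ℂ) ∣ 9 * 2 ^ a * q ^ b := fun θ =>
    hcard ▸ charDegree_dvd θ
  -- `X` is fixed by all power twists
  have hrat : ∀ m : ℕ, (Nat.card G).Coprime m → ∀ x : G,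
      (S.X : G → ℂ) (x ^ m) = (S.X : G → ℂ) x := by
    intro m hm x
    have hB := PrincipalCore.powTwist_mem_principalBlock hM hm S.hX
    set X' : IrrCharacter G := ⟨_, isIrrCharacter_powMap hm S.X⟩
    have hd : charDegree (X' : G → ℂ) = f := by
      have h' : (X' : G → ℂ) 1 = (S.X : G → ℂ) 1 := by
        show (S.X : G → ℂ) (1 ^ m) = _
        rw [one_pow]
      rw [(charDegree_eq X').1, (charDegree_eq S.X).1] at h'
      exact_mod_cast h'
    rcases S.cover X' hB with e' | e' | e'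
    · rw [e'] at hd
      simp [charDegree, oneChar] at hd
      omega
    · exact congrFun (congrArg Subtype.val e') x
    · have := S.degY X' e'
      rw [hd] at this
      rcases S.hβ with hb | hb <;> rw [hb] at this <;> omega
  have hdeg := free_degrees hq hq2 hq3 (f := f) (e := e)
    (by rcases S.hβ with hb | hb <;> rw [hb] at hc <;> omega)
    (smooth_of_dvd hq hq3 (hdiv S.X) hf3) (smooth_of_dvd hq hq3 (hdiv θ₀) he3)
    (by rcases S.hβ with hb | hb <;> rw [hb] at hc hef <;> omega)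
  have hb1 : b = 1 := by
    have hle : f ≤ q + 1 := by
      rcases hdeg with h' | h' | ⟨i, h'⟩ | ⟨i, h'⟩ <;> omega
    have h1 := not_sq_dvd hq5 S.hX1 hle hrat
    have hb0 : b ≠ 0 := fun e0 => by
      rw [hcard, e0, pow_zero, mul_one] at hqG
      rcases (Nat.Prime.dvd_mul hq).mp hqG with d | d
      · exact hq3 ((Nat.prime_dvd_prime_iff_eq hq Nat.prime_three).mp (hq.dvd_of_dvd_pow (show q ∣ 3 ^ 2 by simpa using d)))
      · exact hq2 ((Nat.prime_dvd_prime_iff_eq hq Nat.prime_two).mp (hq.dvd_of_dvd_pow d))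
    by_contra hne
    exact h1 (hcard ▸ (Nat.pow_dvd_pow q (by omega : 2 ≤ b)).trans (dvd_mul_left _ _))
  rw [hb1, pow_one] at hcard
  have hqG' : ¬ q ^ 2 ∣ Nat.card G := by
    rw [hcard, sq]
    intro hd
    rcases (Nat.Prime.dvd_mul hq).mp (Nat.dvd_of_mul_dvd_mul_right hq.pos hd) with d | d
    · exact hq3 ((Nat.prime_dvd_prime_iff_eq hq Nat.prime_three).mp (hq.dvd_of_dvd_pow (show q ∣ 3 ^ 2 by simpa using d)))
    · exact hq2 ((Nat.prime_dvd_prime_iff_eq hq Nat.prime_two).mp (hq.dvd_of_dvd_pow d))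
  have hfac : (Nat.card G).factorization 2 = a := by
    have h9q : ¬ 2 ∣ 9 * q := by
      rw [Nat.Prime.dvd_mul Nat.prime_two]
      rintro (d | d)
      · omega
      · exact hq2 ((Nat.prime_dvd_prime_iff_eq Nat.prime_two hq).mp d).symm
    rw [show Nat.card G = 2 ^ a * (9 * q) by rw [hcard]; ring,
      Nat.factorization_mul (by positivity) (Nat.mul_ne_zero (by norm_num) hq.ne_zero), Finsupp.add_apply,
      Nat.prime_two.factorization_pow, Finsupp.single_eq_same,
      Nat.factorization_eq_zero_of_not_dvd h9q, add_zero]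
  -- an element of order three
  obtain ⟨g₀, hg₀⟩ := exists_prime_orderOf_dvd_card' (G := ↥(P : Subgroup G)) 3
    (by rw [show Nat.card ↥(P : Subgroup G) = 9 from h9]; norm_num)
  set g : G := (g₀ : G) with hg
  have hgP : g ∈ (P : Subgroup G) := g₀.2
  have hg3 : orderOf g = 3 := by rw [hg, Subgroup.orderOf_coe, hg₀]
  have hg1 : g ≠ 1 := fun e => by rw [e, orderOf_one] at hg3; omega
  -- the bound on the Sylow 2-subgroup
  have hbound : ∀ (hqfe : q = f ∨ q = e), ∃ d k l : ℕ, 3 * d + k = f ∧ 9 * (l : ℤ) = k + 8 * S.β ∧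
      ∃ R D c' L : ℕ, R ∣ 2 ^ SchurBound.bound 2 d ∧ 0 < D ∧ D < 2 * f ∧ D < 2 * e ∧ c' ≠ 0 ∧
        9 * q * R * D ^ 2 = L * c' * 2 ^ a * (f * e) := by
    intro hqfe
    have h2pow : ∀ x : G, x ∈ Subgroup.centralizer ({g} : Set G) → ¬ 3 ∣ orderOf x →
        ∃ j, orderOf x = 2 ^ j := by
      intro x hx hx3
      have hcop : Nat.Coprime (orderOf x) 9 := by
        have : Nat.Coprime (orderOf x) 3 := (Nat.prime_three.coprime_iff_not_dvd.mpr hx3).symm
        simpa using this.pow_right 2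
      have hdvd : orderOf x ∣ 2 ^ a * q := hcop.dvd_of_dvd_mul_left (by
        rw [← mul_assoc, ← hcard]; exact orderOf_dvd_natCard x)
      by_cases hqx : q ∣ orderOf x
      · exfalso
        have hgx : Commute g x :=
          (show Commute x g from Subgroup.mem_centralizer_singleton_iff.mp hx).symm
        have hord : orderOf (g * x) = 3 * orderOf x := by
          rw [hgx.orderOf_mul_eq_mul_orderOf_of_coprime (hg3 ▸ Nat.prime_three.coprime_iff_not_dvd.mpr hx3), hg3]
        have hz : IsPPart 3 (g * x) g := ⟨x, rfl, hgx, ⟨1, by rw [hg3, pow_one]⟩, hx3⟩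
        have hqgx : q ∣ orderOf (g * x) := hord ▸ hqx.mul_left 3
        have hvan : ∀ θ : IrrCharacter G, charDegree (θ : G → ℂ) = q → (θ : G → ℂ) (g * x) = 0 := fun θ hθ =>
          char_defect_zero_vanishes θ (p := q) (n := 1) (d := q) (by rwa [pow_one]) hqG'
            (by rw [(charDegree_eq θ).1, hθ]) (by rw [pow_one]) hqgx
        rcases hqfe with hqf | hqe
        · have h1 := S.valX (g * x) g hz hgP hg1
          rw [hvan S.X hqf.symm] at h1
          rcases S.hβ with hb | hb <;> rw [hb] at h1 <;> norm_num at h1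
        · have h1 := S.valY (g * x) g hz hgP hg1
          rw [Finset.sum_eq_zero fun θ hθ => hvan θ (by have := S.degY θ hθ; omega)] at h1
          rcases S.hβ with hb | hb <;> rw [hb] at h1 <;> norm_num at h1
      · obtain ⟨j, -, hj⟩ := (Nat.dvd_prime_pow Nat.prime_two).mp
          (((hq.coprime_iff_not_dvd.mpr hqx).symm).dvd_of_dvd_mul_right hdvd)
        exact ⟨j, hj⟩
    obtain ⟨d, k, l, hdk, hkl, hK⟩ := S.centralizer_bound hG hM h h9 hrat hgP hg3 h2pow
    refine ⟨d, k, l, hdk, hkl, ?_⟩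
    have ha0 : 2 ∣ Nat.card G := by
      have hodd : e % 2 = 0 ∨ f % 2 = 0 := by rcases S.hβ with hb | hb <;> rw [hb] at hef <;> omega
      rcases hodd with ho | ho
      · exact (Nat.dvd_of_mod_eq_zero ho).trans (charDegree_dvd θ₀)
      · exact (Nat.dvd_of_mod_eq_zero ho).trans (charDegree_dvd S.X)
    obtain ⟨z, hz, hzc⟩ := exists_central_involution ha0
    rw [hfac] at hzc
    obtain ⟨c', hc'⟩ := hzc
    obtain ⟨T, hT⟩ := exists_int_involution hz S.X
    obtain ⟨L, hL⟩ := S.class_equation hM h hgP hg1 (z := z) (by rw [hz]; norm_num)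
    have hθz : (θ₀ : G → ℂ) z = ((S.β + T : ℤ) : ℂ) := by
      rw [S.reg θ₀ hθ₀ z (by rw [hz]; norm_num), hT]; push_cast; rfl
    have hT1 := abs_lt_degree hG S.hX1 hz hT
    have hT2 := abs_lt_degree hG (S.hY θ₀ hθ₀).2.1 hz hθz
    obtain ⟨D, hD⟩ : ∃ D : ℕ, (D : ℤ) = (f : ℤ) - T := ⟨((f : ℤ) - T).toNat, by omega⟩
    set C := Subgroup.centralizer ({g} : Set G)
    set R := (Finset.univ.filter fun c : C => ¬ 3 ∣ orderOf c).card with hR
    refine ⟨R, D, c', L * c', ?_, by omega, by omega, by omega, ?_, ?_⟩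
    · have := Fintype.ofFinite (IrrCharacter C)
      have hRK : R = Nat.card (Cfsg.pResidual 3 C) := by
        rw [hR, Nat.card_eq_fintype_card, Fintype.card_subtype]
        congr 1
        ext c
        simp only [Finset.mem_filter, Finset.mem_univ, true_and]
        exact (mem_pResidual_iff_regular (h.hasNormalPComplement hgP hg1)).symm
      rw [hRK]; exact hK
    · rintro rfl
      rw [mul_zero] at hc'
      exact Nat.card_pos.ne' hc'
    · have hfe : ((S.X : G → ℂ) 1 + (S.β : ℂ)) = (e : ℂ) := by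
        rw [(charDegree_eq S.X).1]
        exact_mod_cast hef.symm
      rw [hfe, hT, (charDegree_eq S.X).1, hc', hcard] at hL
      have hDc : (D : ℂ) = (f : ℂ) - (T : ℂ) := by exact_mod_cast congrArg (Int.cast : ℤ → ℂ) hD
      rw [← hDc] at hL
      have hL' : 9 * 2 ^ a * q * R * D ^ 2 = L * (2 ^ a * c') ^ 2 * (f * e) := by exact_mod_cast hL
      refine Nat.eq_of_mul_eq_mul_left (show 0 < 2 ^ a by positivity) ?_
      calc 2 ^ a * (9 * q * R * D ^ 2) = 9 * 2 ^ a * q * R * D ^ 2 := by ring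
        _ = L * (2 ^ a * c') ^ 2 * (f * e) := hL'
        _ = _ := by ring
  have key2 : ∀ n m : ℕ, 2 ^ n ∣ 9 * m → 2 ^ n ∣ m := fun n m hd =>
    (Nat.Coprime.pow_left n (show Nat.Coprime 2 9 by norm_num)).dvd_of_dvd_mul_left hd
  have key : ∀ (n R B D : ℕ), R ∣ 2 ^ B → 2 ^ n ∣ R * D ^ 2 → 2 ^ n ∣ 2 ^ B * D ^ 2 := fun n R B D h1 h2 =>
    h2.trans (Nat.mul_dvd_mul_right h1 _)
  have small7 : ∀ D, D < 16 → 0 < D → ¬ 2 ^ 7 ∣ D ^ 2 := by decide
  have small17 : ∀ D, D < 32 → 0 < D → ¬ 2 ^ 9 ∣ D ^ 2 := by decide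
  rcases hdeg with ⟨rfl, hf8, he7⟩ | ⟨rfl, hf17, he16⟩ | ⟨i, hi, -, hfq, -, hqi⟩ | ⟨i, hi, hfq, hefq, hqi⟩
  · left
    obtain ⟨d, k, l, hdk, hkl, R, D, c', L, hR, hD0, hDf, hDe, -, hEq⟩ := hbound (Or.inr he7.symm)
    have hβ : S.β = -1 := by omega
    rw [hβ] at hkl
    have hd0 : d = 0 := by omega
    subst hd0
    rw [show SchurBound.bound 2 0 = 0 from rfl, pow_zero, Nat.dvd_one] at hR
    rw [hR, hf8, he7] at hEq
    have h2a : 2 ^ (a + 3) ∣ 9 * D ^ 2 := by
      refine (show Nat.Coprime (2 ^ (a + 3)) 7 from Nat.Coprime.pow_left _ (by norm_num)).dvd_of_dvd_mul_left ?_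
      exact ⟨L * c' * 7, by rw [pow_add]; linarith⟩
    have h2a' := key2 _ _ h2a
    have ha : a ≤ 3 := by
      by_contra hgt
      exact small7 D (by omega) hD0 ((Nat.pow_dvd_pow 2 (by omega)).trans h2a')
    have h8 : 2 ^ a ≤ 2 ^ 3 := Nat.pow_le_pow_right (by norm_num) ha
    have hle : Nat.card G ≤ 1092 := by rw [hcard]; omega
    have h504 : Nat.card G = 504 := by
      rcases Cfsg.Agent.S0496.result hG hle with h' | h' | h' | h' | h' | h' <;>
        rw [hcard] at h' <;> interval_cases a <;> norm_num at h' <;> (rw [hcard]; norm_num)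
    haveI : Fact (Nat.Prime 2) := ⟨Nat.prime_two⟩
    letI : Fintype (GaloisField 2 3) := Fintype.ofFinite _
    have hc8 : Fintype.card (GaloisField 2 3) = 8 := by
      rw [← Nat.card_eq_fintype_card, GaloisField.card 2 3 (by norm_num)]; norm_num
    exact ⟨GaloisField 2 3, inferInstance, inferInstance, hc8, Cfsg.Agent.S1011.result h504 hc8⟩
  · right
    obtain ⟨d, k, l, hdk, hkl, R, D, c', L, hR, hD0, hDf, hDe, -, hEq⟩ := hbound (Or.inl hf17.symm)
    have hβ : S.β = -1 := by omega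
    rw [hβ] at hkl
    have hd3 : d ≤ 3 := by omega
    rw [hf17, he16] at hEq
    have h2a : 2 ^ (a + 4) ∣ 9 * (R * D ^ 2) := by
      refine (show Nat.Coprime (2 ^ (a + 4)) 17 from Nat.Coprime.pow_left _ (by norm_num)).dvd_of_dvd_mul_left ?_
      exact ⟨L * c' * 17, by rw [pow_add]; linarith⟩
    have hbd : SchurBound.bound 2 d ≤ 4 := (SchurBound.bound_mono hd3).trans (by decide)
    have h2a' : 2 ^ a ∣ D ^ 2 := by
      have h' := key _ _ _ _ (hR.trans (Nat.pow_dvd_pow 2 hbd)) (key2 _ _ h2a)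
      rw [pow_add, mul_comm (2 ^ a)] at h'
      exact Nat.dvd_of_mul_dvd_mul_left (by norm_num) h'
    have ha : a ≤ 8 := by
      by_contra hgt
      exact small17 D (by omega) hD0 ((Nat.pow_dvd_pow 2 (by omega)).trans h2a')
    obtain ⟨Q⟩ : Nonempty (Sylow 17 G) := inferInstance
    obtain ⟨-, -, x, y, hy, hmod, hediv, hord⟩ := sylow_data hG hq2 hq3 hcard (χ := S.X) hf17 Q
    set en := (cen Q).relIndex (nor Q)
    rw [hcard] at hord
    have hen : en ∣ 16 := hediv
    rcases seventeen_residue hy x hmod with rfl | ⟨rfl, hx8⟩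
    · exfalso
      rw [pow_zero, one_mul] at hord
      have h9e : 9 ∣ en * 2 ^ x := ⟨2 ^ a, by linarith⟩
      have := Nat.Coprime.dvd_of_dvd_mul_right
        (Nat.Coprime.pow_right x (show Nat.Coprime 9 2 by norm_num)) h9e
      exact absurd (this.trans hen) (by norm_num)
    · have hxa : en * 2 ^ x = 2 ^ a := by linarith
      have hxle : x ≤ a := (Nat.pow_dvd_pow_iff_le_right (by norm_num : 1 < 2)).mp ⟨en, by rw [← hxa]; ring⟩
      obtain rfl : x = 1 := by omega
      have hen16 : en ≤ 16 := Nat.le_of_dvd (by norm_num) hen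
      have hbig : Nat.card G < 17 ^ 3 := by rw [hcard]; omega
      have hncyc : ¬ IsCyclic G := fun hcyc => hG (IsCyclic.isMulCommutative (α := G))
      rcases Cfsg.Agent.S0999.result hncyc 17 (by norm_num) hqG hbig with
        ⟨F, _, _, hF, -, ⟨e'⟩⟩ | ⟨m, F, _, _, hF, h17, -, ⟨e'⟩⟩
      · exact ⟨e'.trans (CfsgLib.SelfNormNonab.pslCongr
          ((FiniteField.ringEquivOfCardEq (by rw [hF, ZMod.card])) : F ≃+* ZMod 17))⟩
      · exfalso
        have hdv := Dvd.intro_left _ (CfsgLib.Classical.card_psl2 (F := F))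
        rw [← Nat.card_congr e'.toEquiv, hcard, hF, show 2 ^ m = 16 by omega] at hdv
        exact absurd (((dvd_mul_right 9 (2 ^ a)).mul_right 17).trans hdv) (by norm_num)
  · exact (mersenne_false hG hi hqi hcard (χ := S.X) hfq).elim
  · exfalso
    obtain ⟨Q⟩ : Nonempty (Sylow q G) := inferInstance
    obtain ⟨-, -, x, y, hy, hmod, hediv, hord⟩ := sylow_data hG hq2 hq3 hcard (χ := S.X) hfq Q
    obtain rfl := fermat_residue hi hqi hy x hmod
    rw [pow_zero, one_mul, hcard] at hord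
    have h9e : 9 ∣ (cen Q).relIndex (nor Q) * 2 ^ x := ⟨2 ^ a,
      Nat.eq_of_mul_eq_mul_left hq.pos (by linarith)⟩
    have := (Nat.Coprime.dvd_of_dvd_mul_right
      (Nat.Coprime.pow_right x (show Nat.Coprime 9 2 by norm_num)) h9e).trans hediv
    rw [hqi, Nat.add_sub_cancel] at this
    have h1 := Nat.Coprime.eq_one_of_dvd (Nat.Coprime.pow_right i (show Nat.Coprime 9 2 by norm_num)) this
    omega

end CfsgLib.NineTwoPrime
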