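import Mathlib
import Cfsg.Agent.Lib.SmallSimple.NineTwoPrime.Arith

/-!
# The Klein four automizer case: no degree pattern

Two triples of orthogonal integer vectors of norm three, with all mixed products one, cannot be
orthogonal to a degree vector with all degrees dividing `9 * 2 ^ a * q ^ b`.
-/

set_option autoImplicit false

namespace CfsgLib.NineTwoPrime

variable {ι : Type*} [Fintype ι]

/-- The entries of an integer vector of norm three are at most one in absolute value. -/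
theorem klein_entry (W : ι → ℤ) (h : ∑ t, W t * W t = 3) (t : ι) :
    W t = 0 ∨ W t = 1 ∨ W t = -1 := by
  have h1 : W t * W t ≤ 3 :=
    h ▸ Finset.single_le_sum (fun u _ => mul_self_nonneg (W u)) (Finset.mem_univ t)
  have h2 : -1 ≤ W t := by nlinarith
  have h3 : W t ≤ 1 := by nlinarith
  omega

/-- The support of an integer vector of norm three through a given point. -/
theorem klein_support (W : ι → ℤ) (h : ∑ t, W t * W t = 3) (p : ι) (hp : W p ≠ 0) :
    ∃ x y : ι, x ≠ p ∧ y ≠ p ∧ x ≠ y ∧ W x ≠ 0 ∧ W y ≠ 0 ∧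
      (∀ t, W t ≠ 0 → t = p ∨ t = x ∨ t = y) ∧
      (∀ f : ι → ℤ, ∑ t, W t * f t = W p * f p + W x * f x + W y * f y) := by
  classical
  set S := Finset.univ.filter fun t => W t ≠ 0 with hS
  have hcard : (S.card : ℤ) = 3 := by
    rw [← h, Finset.card_filter, Nat.cast_sum]
    refine Finset.sum_congr rfl fun t _ => ?_
    rcases klein_entry W h t with e | e | e <;> simp [e]
  have hpS : p ∈ S := by simp [hS, hp]
  have h2 : (S.erase p).card = 2 := by
    rw [Finset.card_erase_of_mem hpS]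
    omega
  obtain ⟨x, y, hxy, he⟩ := Finset.card_eq_two.mp h2
  have hmem : ∀ t, t ∈ S.erase p ↔ t = x ∨ t = y := fun t => by simp [he]
  have hx := (hmem x).2 (Or.inl rfl)
  have hy := (hmem y).2 (Or.inr rfl)
  simp only [hS, Finset.mem_erase, Finset.mem_filter, Finset.mem_univ, true_and] at hx hy
  have hsupp : ∀ t, W t ≠ 0 → t = p ∨ t = x ∨ t = y := by
    intro t ht
    by_cases htp : t = p
    · exact Or.inl htp
    · exact Or.inr ((hmem t).1 (by simp [hS, htp, ht]))
  refine ⟨x, y, hx.1, hy.1, hxy, hx.2, hy.2, hsupp, fun f => ?_⟩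
  rw [← Finset.sum_subset (s₁ := {p, x, y}) (Finset.subset_univ _)]
  · rw [Finset.sum_insert (by simp [hx.1.symm, hy.1.symm]), Finset.sum_pair hxy]
    ring
  · intro t _ ht
    simp only [Finset.mem_insert, Finset.mem_singleton] at ht
    have : W t = 0 := by
      by_contra hne
      exact ht (hsupp t hne)
    simp [this]

/-- Splitting a sum over three indices at a nonzero one. -/
theorem klein_other (j : Fin 3) (hj : j ≠ 0) :
    ∃ k : Fin 3, k ≠ 0 ∧ k ≠ j ∧ ∀ f : Fin 3 → ℤ, ∑ i, f i = f 0 + f j + f k := by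
  fin_cases j
  · simp at hj
  · exact ⟨2, by decide, by decide, fun f => Fin.sum_univ_three f⟩
  · exact ⟨1, by decide, by decide, fun f => by
      show ∑ i, f i = f 0 + f 2 + f 1
      rw [Fin.sum_univ_three]; ring⟩

/-- The first vector of a triple: degrees `q` and a power of two, avoided by the two others. -/
theorem klein_first (q a b : ℕ) (hq : q.Prime) (hq2 : q ≠ 2) (hq3 : q ≠ 3)
    (one : ι) (D : ι → ℕ) (hone : D one = 1) (hnt : ∀ t, t ≠ one → 1 < D t)
    (U : Fin 3 → ι → ℤ)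
    (hUU : ∀ i j, ∑ t, U i t * U j t = if i = j then 3 else 0)
    (hU0 : ∀ i, U i one = if i = 0 then 1 else 0)
    (hUD : ∀ i, ∑ t, U i t * (D t : ℤ) = 0)
    (hdiv : ∀ t, D t ∣ 9 * 2 ^ a * q ^ b)
    (hmod : ∀ t, 3 ∣ D t ↔ (3 : ℤ) ∣ ∑ i, U i t)
    (hlow : ∀ t, t ≠ one → U 0 t ≠ 0 → q ≤ D t + 1)
    (hb : ∀ t, t ≠ one → U 0 t ≠ 0 → D t ≤ q + 1 → b ≤ 1) :
    b ≤ 1 ∧ ∃ (P R : ι) (s : ℤ) (i : ℕ), (s = 1 ∨ s = -1) ∧ P ≠ one ∧ R ≠ one ∧ P ≠ R ∧
      U 0 P = s ∧ U 0 R = -s ∧ (∀ t, U 0 t ≠ 0 → t = one ∨ t = P ∨ t = R) ∧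
      (∀ f : ι → ℤ, ∑ t, U 0 t * f t = f one + s * f P - s * f R) ∧
      (∀ j, j ≠ 0 → U j P = 0 ∧ U j R = 0) ∧
      D P = q ∧ D R = 2 ^ i ∧ s * (q : ℤ) - s * 2 ^ i = -1 := by
  have hq5 : 5 ≤ q := hq.five_le_of_ne_two_of_ne_three hq2 hq3
  have hval : ∀ i t, U i t = 0 ∨ U i t = 1 ∨ U i t = -1 := fun i t =>
    klein_entry (U i) (by simpa using hUU i i) t
  obtain ⟨x, y, hx, hy, hxy, hxne, hyne, hsupp, hsum⟩ :=
    klein_support (U 0) (by simpa using hUU 0 0) one (by simp [hU0])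
  have hD := hsum (fun t => (D t : ℤ))
  simp only [hUD, hU0, if_pos, hone, Nat.cast_one, one_mul] at hD
  -- orient the pair
  obtain ⟨X, Y, hX1, hY1, hXY, hUX, hUY, hsuppXY, hsumXY, hDY⟩ : ∃ X Y, X ≠ one ∧ Y ≠ one ∧
      X ≠ Y ∧ U 0 X = 1 ∧ U 0 Y = -1 ∧ (∀ t, U 0 t ≠ 0 → t = one ∨ t = X ∨ t = Y) ∧
      (∀ f : ι → ℤ, ∑ t, U 0 t * f t = f one + f X - f Y) ∧ D Y = D X + 1 := by
    have := hnt x hx
    have := hnt y hy
    rcases hval 0 x with ex | ex | ex
    · exact absurd ex hxne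
    · rcases hval 0 y with ey | ey | ey
      · exact absurd ey hyne
      · rw [ex, ey] at hD; exfalso; omega
      · refine ⟨x, y, hx, hy, hxy, ex, ey, hsupp, fun f => ?_, ?_⟩
        · rw [hsum f, hU0, ex, ey, if_pos rfl]; ring
        · rw [ex, ey] at hD; omega
    · rcases hval 0 y with ey | ey | ey
      · exact absurd ey hyne
      · refine ⟨y, x, hy, hx, hxy.symm, ey, ex, fun t ht => ?_, fun f => ?_, ?_⟩
        · rcases hsupp t ht with h | h | h <;> tauto
        · rw [hsum f, hU0, ex, ey, if_pos rfl]; ring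
        · rw [ex, ey] at hD; omega
      · rw [ex, ey] at hD; exfalso; omega
  clear hsum hsupp hD hxne hyne
  have hX2 := hnt X hX1
  have hUXY : ∀ j, j ≠ 0 → U j X = U j Y := by
    intro j hj
    have h := hsumXY (U j)
    rw [hUU, if_neg (Ne.symm hj), hU0, if_neg hj] at h
    omega
  have hz : ∀ j, j ≠ 0 → U j X = 0 := by
    intro j hj
    by_contra hne
    obtain ⟨k, hk0, hkj, hsum3⟩ := klein_other j hj
    obtain ⟨u, v, hu, hv, huv, hune, hvne, hs, hsj⟩ :=
      klein_support (U j) (by simpa using hUU j j) X hne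
    have hYne : U j Y ≠ 0 := hUXY j hj ▸ hne
    obtain ⟨w, hwX, hwY, hwne, hsw⟩ : ∃ w, w ≠ X ∧ w ≠ Y ∧ U j w ≠ 0 ∧
        ∀ f : ι → ℤ, ∑ t, U j t * f t = U j X * (f X + f Y) + U j w * f w := by
      rcases hs Y hYne with h | h | h
      · exact absurd h hXY.symm
      · refine ⟨v, hv, h ▸ huv.symm, hvne, fun f => ?_⟩
        rw [hsj f, ← h, ← hUXY j hj]; ring
      · refine ⟨u, hu, h ▸ huv, hune, fun f => ?_⟩
        rw [hsj f, ← h, ← hUXY j hj]; ring
    have hw1 : w ≠ one := by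
      rintro rfl
      simp [hU0, hj] at hwne
    have hw2 := hnt w hw1
    have hU0w : U 0 w = 0 := by
      by_contra h
      rcases hsuppXY w h with e | e | e
      exacts [hw1 e, hwX e, hwY e]
    have hDw := hsw (fun t => (D t : ℤ))
    rw [hUD] at hDw
    have hk := hsw (U k)
    rw [hUU, if_neg hkj.symm, ← hUXY k hk0] at hk
    have hcX : ∑ i, U i X = 1 + U j X + U k X := by rw [hsum3 fun i => U i X, hUX]
    have hcY : ∑ i, U i Y = -1 + U j X + U k X := by
      rw [hsum3 fun i => U i Y, hUY, ← hUXY j hj, ← hUXY k hk0]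
    have hcw : ∑ i, U i w = U j w + U k w := by rw [hsum3 fun i => U i w, hU0w, zero_add]
    have hkz : U k X = 0 ∧ U k w = 0 := by
      rcases hval j X with e | e | e
      · exact absurd e hne
      all_goals
        rcases hval j w with e' | e' | e'
        · exact absurd e' hwne
        all_goals
          rw [e, e'] at hk
          rcases hval k X with g | g | g <;> rcases hval k w with g' | g' | g' <;>
            rw [g, g'] at hk ⊢ <;> omega
    rw [hkz.1, add_zero] at hcX hcY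
    rw [hkz.2, add_zero] at hcw
    have h3w : ¬ 3 ∣ D w := by
      rw [hmod, hcw]
      rcases hval j w with e | e | e <;> rw [e] at hwne ⊢ <;> omega
    have hDw' : D w = D X + D Y := by
      rcases hval j X with e | e | e
      · exact absurd e hne
      all_goals
        rw [e] at hDw
        rcases hval j w with e' | e' | e' <;> rw [e'] at hDw hwne <;> omega
    obtain ⟨k', hk'⟩ := (smooth_of_dvd hq hq3 (hdiv w) h3w).odd_eq (by omega)
    have hk'0 : k' ≠ 0 := by rintro rfl; simp at hk'; omega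
    have hqw : q ∣ D X + D Y := hDw' ▸ hk' ▸ dvd_pow_self q hk'0
    have hqX : ¬ q ∣ D X := fun h => by
      have h' : q ∣ D Y := (Nat.dvd_add_right h).mp hqw
      rw [hDY] at h'
      exact hq.not_dvd_one ((Nat.dvd_add_right h).mp h')
    have hqY : ¬ q ∣ D Y := fun h => hqX ((Nat.dvd_add_left h).mp hqw)
    have hpow : ∀ t, ¬ q ∣ D t → ¬ 3 ∣ D t → ∃ i, D t = 2 ^ i := by
      intro t h1 h2
      obtain ⟨i, l, hil⟩ := smooth_of_dvd hq hq3 (hdiv t) h2
      rcases l with _ | l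
      · exact ⟨i, by simpa using hil⟩
      · exact absurd (hil ▸ (dvd_pow_self q (Nat.succ_ne_zero l)).mul_left _) h1
    have hnine : ∀ t, ¬ q ∣ D t → 3 ∣ D t → D t % 2 = 1 → D t = 3 ∨ D t = 9 := by
      intro t h1 h2 h3
      have hcop : Nat.Coprime (D t) (2 ^ a * q ^ b) := Nat.Coprime.mul_right
        ((Nat.Coprime.symm ((Nat.prime_two.coprime_iff_not_dvd).mpr (by omega))).pow_right a)
        ((Nat.Coprime.symm (hq.coprime_iff_not_dvd.mpr h1)).pow_right b)
      have h9 : D t ∣ 9 := hcop.dvd_of_dvd_mul_right (by rw [← mul_assoc]; exact hdiv t)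
      have := Nat.le_of_dvd (by norm_num) h9
      interval_cases (D t) <;> omega
    have hUXne : U 0 X ≠ 0 := by rw [hUX]; norm_num
    have hUYne : U 0 Y ≠ 0 := by rw [hUY]; norm_num
    rcases hval j X with e | e | e
    · exact absurd e hne
    · have h3Y : 3 ∣ D Y := by rw [hmod, hcY, e]; norm_num
      have h3X : ¬ 3 ∣ D X := by omega
      obtain ⟨i, hi⟩ := hpow X hqX h3X
      rcases i with _ | i
      · simp at hi; omega
      · have hl := hlow Y hY1 hUYne
        rcases hnine Y hqY h3Y (by rw [hDY, hi, pow_succ']; omega) with h | h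
        · omega
        · have hprime : q = 17 := (Nat.prime_dvd_prime_iff_eq hq (by norm_num)).mp
            (by rwa [show D X + D Y = 17 by omega] at hqw)
          omega
    · have h3X : 3 ∣ D X := by rw [hmod, hcX, e]; norm_num
      have h3Y : ¬ 3 ∣ D Y := by omega
      obtain ⟨i, hi⟩ := hpow Y hqY h3Y
      rcases i with _ | i
      · simp at hi; omega
      · have hl := hlow X hX1 hUXne
        rcases hnine X hqX h3X (by rw [pow_succ'] at hi; omega) with h | h
        · omega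
        · exfalso
          rw [hDY, h] at hi
          rcases i with _ | _ | _ | i
          all_goals simp [pow_succ'] at hi
          have := Nat.one_le_two_pow (n := i)
          omega
  have hzY : ∀ j, j ≠ 0 → U j Y = 0 := fun j hj => hUXY j hj ▸ hz j hj
  obtain ⟨k, hk0, -, hsum3⟩ := klein_other 1 (by decide)
  have h3X : ¬ 3 ∣ D X := by
    rw [hmod, hsum3 fun i => U i X, hUX, hz 1 (by decide), hz k hk0]; norm_num
  have h3Y : ¬ 3 ∣ D Y := by
    rw [hmod, hsum3 fun i => U i Y, hUY, hzY 1 (by decide), hzY k hk0]; norm_num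
  have hsX := smooth_of_dvd hq hq3 (hdiv X) h3X
  have hsY := smooth_of_dvd hq hq3 (hdiv Y) h3Y
  rw [hDY] at hsY
  obtain ⟨i, ⟨h1, h2⟩ | ⟨h1, h2⟩⟩ := consecutive hq hq2 hq3 hX2 hsX hsY
  · refine ⟨hb X hX1 (by rw [hUX]; norm_num) (by omega), X, Y, 1, i, Or.inl rfl, hX1, hY1, hXY,
      hUX, hUY, hsuppXY, fun f => by rw [hsumXY f]; ring, fun j hj => ⟨hz j hj, hzY j hj⟩,
      h1, by omega, ?_⟩
    rw [show ((2 : ℤ) ^ i) = ((2 ^ i : ℕ) : ℤ) by push_cast; rfl, ← h2]
    push_cast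
    omega
  · refine ⟨hb Y hY1 (by rw [hUY]; norm_num) (by omega), Y, X, -1, i, Or.inr rfl, hY1, hX1,
      hXY.symm, hUY, by rw [hUX]; norm_num, fun t ht => ?_, fun f => by rw [hsumXY f]; ring,
      fun j hj => ⟨hzY j hj, hz j hj⟩, by omega, h1, ?_⟩
    · rcases hsuppXY t ht with h | h | h <;> tauto
    · rw [show ((2 : ℤ) ^ i) = ((2 ^ i : ℕ) : ℤ) by push_cast; rfl, ← h1]
      omega

/-- The Klein four automizer case is impossible. -/
theorem klein_kill {ι : Type*} [Fintype ι] (q a b : ℕ) (hq : q.Prime) (hq2 : q ≠ 2) (hq3 : q ≠ 3)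
    (one : ι) (D : ι → ℕ) (hone : D one = 1) (hnt : ∀ t, t ≠ one → 1 < D t)
    (U V : Fin 3 → ι → ℤ)
    (hUU : ∀ i j, ∑ t, U i t * U j t = if i = j then 3 else 0)
    (hVV : ∀ i j, ∑ t, V i t * V j t = if i = j then 3 else 0)
    (hUV : ∀ i j, ∑ t, U i t * V j t = 1)
    (hC : ∀ t, ∑ i, U i t = ∑ j, V j t)
    (hU0 : ∀ i, U i one = if i = 0 then 1 else 0)
    (hV0 : ∀ i, V i one = if i = 0 then 1 else 0)
    (hUD : ∀ i, ∑ t, U i t * (D t : ℤ) = 0)
    (hVD : ∀ i, ∑ t, V i t * (D t : ℤ) = 0)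
    (hdiv : ∀ t, D t ∣ 9 * 2 ^ a * q ^ b)
    (hmod : ∀ t, 3 ∣ D t ↔ (3 : ℤ) ∣ ∑ i, U i t)
    (hlowU : ∀ t, t ≠ one → U 0 t ≠ 0 → q ≤ D t + 1)
    (hlowV : ∀ t, t ≠ one → V 0 t ≠ 0 → q ≤ D t + 1)
    (hb : ∀ t, t ≠ one → U 0 t ≠ 0 → D t ≤ q + 1 → b ≤ 1) : False := by
  have hq5 : 5 ≤ q := hq.five_le_of_ne_two_of_ne_three hq2 hq3
  obtain ⟨hb1, P, R, s, i, hs, hP1, hR1, hPR, hUP, hUR, hsuppU, hsumU, hzU, hDP, hDR, hrel⟩ :=
    klein_first q a b hq hq2 hq3 one D hone hnt U hUU hU0 hUD hdiv hmod hlowU hb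
  obtain ⟨-, P', R', s', i', hs', hP1', hR1', hPR', hVP, hVR, hsuppV, hsumV, hzV, hDP', hDR',
      hrel'⟩ := klein_first q a b hq hq2 hq3 one D hone hnt V hVV hV0 hVD hdiv
    (fun t => by rw [hmod, hC]) hlowV (fun _ _ _ _ => hb1)
  have hpos : ((2 : ℤ) ^ i) = ((2 ^ i : ℕ) : ℤ) := by push_cast; rfl
  have hpos' : ((2 : ℤ) ^ i') = ((2 ^ i' : ℕ) : ℤ) := by push_cast; rfl
  have hi2 : 2 ≤ i := by
    rcases i with _ | _ | i
    · rcases hs with rfl | rfl <;> simp at hrel <;> omega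
    · rcases hs with rfl | rfl <;> simp at hrel <;> omega
    · omega
  have hi2' : 2 ≤ i' := by
    rcases i' with _ | _ | i'
    · rcases hs' with rfl | rfl <;> simp at hrel' <;> omega
    · rcases hs' with rfl | rfl <;> simp at hrel' <;> omega
    · omega
  obtain ⟨e, he⟩ : (4 : ℕ) ∣ 2 ^ i := pow_dvd_pow 2 hi2
  obtain ⟨e', he'⟩ : (4 : ℕ) ∣ 2 ^ i' := pow_dvd_pow 2 hi2'
  have hss : s' = s ∧ (2 : ℤ) ^ i' = 2 ^ i := by
    rcases hs with rfl | rfl <;> rcases hs' with rfl | rfl <;> omega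
  obtain ⟨rfl, hii⟩ := hss
  have hqodd : q % 2 = 1 := hq.eq_two_or_odd.resolve_left hq2
  have hDne : D P ≠ D R := by rw [hDP, hDR]; omega
  have hDR2 : D R' = D R := by rw [hDR, hDR']; omega
  have hvalU : ∀ j t, U j t = 0 ∨ U j t = 1 ∨ U j t = -1 := fun j t =>
    klein_entry (U j) (by simpa using hUU j j) t
  have hvalV : ∀ j t, V j t = 0 ∨ V j t = 1 ∨ V j t = -1 := fun j t =>
    klein_entry (V j) (by simpa using hVV j j) t
  -- the two first vectors meet only in `one`
  have hVPR : V 0 P = 0 ∧ V 0 R = 0 := by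
    have h := hsumU (V 0)
    rw [hUV, hV0, if_pos rfl] at h
    have hP : V 0 P ≠ 0 → V 0 P = s' := fun hne => by
      rcases hsuppV P hne with h | h | h
      · exact absurd h hP1
      · rw [h, hVP]
      · exact absurd (by rw [h, hDR2]) hDne
    have hR : V 0 R ≠ 0 → V 0 R = -s' := fun hne => by
      rcases hsuppV R hne with h | h | h
      · exact absurd h hR1
      · exact absurd (by rw [h, hDP', hDP]) hDne.symm
      · rw [h, hVR]
    rcases hs with rfl | rfl <;> omega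
  have hU0P' : U 0 P' = 0 := by
    by_contra hne
    rcases hsuppU P' hne with h | h | h
    · exact hP1' h
    · rw [← h, hVP] at hVPR; rcases hs with rfl | rfl <;> omega
    · exact hDne (by rw [← hDP'.trans hDP.symm, h])
  have hU0R' : U 0 R' = 0 := by
    by_contra hne
    rcases hsuppU R' hne with h | h | h
    · exact hR1' h
    · exact hDne (by rw [← hDR2, h])
    · rw [← h, hVR] at hVPR; rcases hs with rfl | rfl <;> omega
  have hCU : ∀ t, U 0 t + U 1 t + U 2 t = V 0 t + V 1 t + V 2 t := fun t => by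
    have := hC t
    rwa [Fin.sum_univ_three, Fin.sum_univ_three] at this
  -- the index of the vector through `P'`
  obtain ⟨j, k, hj0, hk0, hjk, hsum3, hjP, hjR, hkP, hkR⟩ : ∃ j k : Fin 3, j ≠ 0 ∧ k ≠ 0 ∧ j ≠ k ∧
      (∀ f : Fin 3 → ℤ, ∑ i, f i = f 0 + f j + f k) ∧
      U j P' = s' ∧ U j R' = 0 ∧ U k P' = 0 ∧ U k R' = -s' := by
    have h1 := hCU P'
    have h2 := hCU R'
    rw [hU0P', hVP, (hzV 1 (by decide)).1, (hzV 2 (by decide)).1] at h1
    rw [hU0R', hVR, (hzV 1 (by decide)).2, (hzV 2 (by decide)).2] at h2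
    have d1 := hsumV (U 1)
    have d2 := hsumV (U 2)
    rw [Finset.sum_congr rfl fun t _ => mul_comm (V 0 t) (U 1 t), hUV, hU0, if_neg (by decide)]
      at d1
    rw [Finset.sum_congr rfl fun t _ => mul_comm (V 0 t) (U 2 t), hUV, hU0, if_neg (by decide)]
      at d2
    rcases hvalU 1 P' with e1 | e1 | e1 <;> rcases hvalU 2 P' with e2 | e2 | e2 <;>
      rcases hvalU 1 R' with e3 | e3 | e3 <;> rcases hvalU 2 R' with e4 | e4 | e4 <;>
      rcases hs with rfl | rfl <;> rw [e1, e3] at d1 <;> rw [e2, e4] at d2 <;>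
      rw [e1, e2] at h1 <;> rw [e3, e4] at h2 <;>
      first
      | omega
      | exact ⟨1, 2, by decide, by decide, by decide, fun f => Fin.sum_univ_three f, e1, e3, e2, e4⟩
      | exact ⟨2, 1, by decide, by decide, by decide,
          fun f => by rw [Fin.sum_univ_three]; ring, e2, e4, e1, e3⟩
  have hsne : s' ≠ 0 := by rcases hs with rfl | rfl <;> norm_num
  obtain ⟨z0, w0, hz0, hw0, hzw0, hz0n, hw0n, -, hsum0⟩ :=
    klein_support (U j) (by simpa using hUU j j) P' (by rw [hjP]; exact hsne)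
  -- orient by parity
  obtain ⟨z, w, hzP, hwP, hzw, hzn, hwn, hsumj, hzodd⟩ : ∃ z w, z ≠ P' ∧ w ≠ P' ∧ z ≠ w ∧ U j z ≠ 0 ∧ U j w ≠ 0 ∧
      (∀ f : ι → ℤ, ∑ t, U j t * f t = s' * f P' + U j z * f z + U j w * f w) ∧ D z % 2 = 1 := by
    by_cases hpar : D z0 % 2 = 1
    · exact ⟨z0, w0, hz0, hw0, hzw0, hz0n, hw0n, fun f => by rw [hsum0 f, hjP], hpar⟩
    · refine ⟨w0, z0, hw0, hz0, hzw0.symm, hw0n, hz0n, fun f => by rw [hsum0 f, hjP]; ring, ?_⟩
      have h := hsum0 (fun t => (D t : ℤ))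
      rw [hUD, hjP] at h
      simp only [hDP'] at h
      rcases hvalU j z0 with e1 | e1 | e1 <;> rcases hvalU j w0 with e2 | e2 | e2 <;>
        rcases hs with rfl | rfl <;> rw [e1, e2] at h <;> omega
  have hDj := hsumj (fun t => (D t : ℤ))
  rw [hUD] at hDj
  simp only [hDP'] at hDj
  have out : ∀ u, U j u ≠ 0 → u ≠ one ∧ u ≠ R' ∧ U 0 u = 0 := by
    intro u hu
    refine ⟨fun h => hu (by rw [h, hU0, if_neg hj0]), fun h => hu (h ▸ hjR), ?_⟩
    by_contra hne
    rcases hsuppU u hne with h | h | h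
    · exact hu (by rw [h, hU0, if_neg hj0])
    · exact hu (h ▸ (hzU j hj0).1)
    · exact hu (h ▸ (hzU j hj0).2)
  obtain ⟨hz1, hzR, hU0z⟩ := out z hzn
  obtain ⟨hw1, hwR, hU0w⟩ := out w hwn
  have hjk0 := hsumj (U k)
  rw [hUU, if_neg hjk, hkP] at hjk0
  have hkzero : U k z = 0 ∧ U k w = 0 := by
    by_cases hkz : U k z = 0
    · rw [hkz] at hjk0
      refine ⟨hkz, ?_⟩
      simpa [hwn] using hjk0
    exfalso
    have hkw : U k w ≠ 0 := fun h => by
      rw [h] at hjk0
      simp [hzn, hkz] at hjk0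
    have hneg : U k R' ≠ 0 := by rw [hkR]; omega
    obtain ⟨u, v, hu, hv, huv, -, -, hsk, hsumk⟩ :=
      klein_support (U k) (by simpa using hUU k k) R' hneg
    have hDk := hsumk (fun t => (D t : ℤ))
    rw [hUD, hkR] at hDk
    simp only [hDR'] at hDk
    rcases hsk z hkz with h | h | h
    · exact hzR h
    · rcases hsk w hkw with h' | h' | h'
      · exact hwR h'
      · exact hzw (h.trans h'.symm)
      · rw [← h, ← h'] at hDk
        rcases hvalU j z with e1 | e1 | e1 <;> rcases hvalU j w with e2 | e2 | e2 <;>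
          rcases hvalU k z with e3 | e3 | e3 <;> rcases hvalU k w with e4 | e4 | e4 <;>
          rcases hs with rfl | rfl <;> rw [e1, e2] at hDj <;> rw [e3, e4] at hDk <;> omega
    · rcases hsk w hkw with h' | h' | h'
      · exact hwR h'
      · rw [← h, ← h'] at hDk
        rcases hvalU j z with e1 | e1 | e1 <;> rcases hvalU j w with e2 | e2 | e2 <;>
          rcases hvalU k z with e3 | e3 | e3 <;> rcases hvalU k w with e4 | e4 | e4 <;>
          rcases hs with rfl | rfl <;> rw [e1, e2] at hDj <;> rw [e3, e4] at hDk <;> omega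
      · exact hzw (h.trans h'.symm)
  -- the degree of `z`
  have h3z : ¬ 3 ∣ D z := by
    rw [hmod, hsum3 fun i => U i z, hU0z, hkzero.1]
    rcases hvalU j z with e | e | e <;> rw [e] at hzn ⊢ <;> omega
  have hDz : D z = q := by
    have hcop : Nat.Coprime (D z) (9 * 2 ^ a) := Nat.Coprime.mul_right
      (by simpa using ((Nat.Coprime.symm (Nat.prime_three.coprime_iff_not_dvd.mpr h3z)).pow_right 2))
      ((Nat.Coprime.symm (Nat.prime_two.coprime_iff_not_dvd.mpr (by omega))).pow_right a)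
    have hd : D z ∣ q ^ 1 := (hcop.dvd_of_dvd_mul_left (hdiv z)).trans (pow_dvd_pow q hb1)
    rw [pow_one] at hd
    rcases hq.eq_one_or_self_of_dvd _ hd with h | h
    · have := hnt z hz1; omega
    · exact h
  rw [hDz] at hDj
  have hz2 : U j z = s' ∧ U j w = -s' ∧ D w = 2 * q := by
    have := hnt w hw1
    rcases hvalU j z with e1 | e1 | e1 <;> rcases hvalU j w with e2 | e2 | e2 <;>
      rcases hs with rfl | rfl <;> rw [e1] at hzn hDj ⊢ <;> rw [e2] at hwn hDj ⊢ <;> omega
  obtain ⟨hjz, hjw, hDw⟩ := hz2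
  -- the vector through `R`
  have hV0z : V 0 z = 0 := by
    by_contra hne
    rcases hsuppV z hne with h | h | h
    exacts [hz1 h, hzP h, hzR h]
  have hV0w : V 0 w = 0 := by
    by_contra hne
    rcases hsuppV w hne with h | h | h
    exacts [hw1 h, hwP h, hwR h]
  obtain ⟨n, hn0, hnR⟩ : ∃ n : Fin 3, n ≠ 0 ∧ V n R = -s' := by
    have h2 := hCU R
    rw [hUR, hVPR.2, (hzU 1 (by decide)).2, (hzU 2 (by decide)).2] at h2
    rcases hvalV 1 R with e1 | e1 | e1 <;> rcases hvalV 2 R with e2 | e2 | e2 <;>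
      rcases hs with rfl | rfl <;> rw [e1, e2] at h2 <;>
      first
      | omega
      | exact ⟨1, by decide, e1⟩
      | exact ⟨2, by decide, e2⟩
  have hjn := hsumj (V n)
  rw [hUV, (hzV n hn0).1, hjz, hjw] at hjn
  obtain ⟨u, v, hu, hv, huv, hun, hvn, hsn, hsumn⟩ :=
    klein_support (V n) (by simpa using hVV n n) R (by rw [hnR]; omega)
  have hDn := hsumn (fun t => (D t : ℤ))
  rw [hVD, hnR] at hDn
  simp only [hDR] at hDn
  push_cast at hDn
  have hzR0 : z ≠ R := fun h => hzn (h ▸ (hzU j hj0).2)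
  have hwR0 : w ≠ R := fun h => hwn (h ▸ (hzU j hj0).2)
  -- the third point of that vector
  have fin : ∀ t m, V n m ≠ 0 → (V n m * (D m : ℤ) + V n t * (D t : ℤ) = s' * (2 : ℤ) ^ i) →
      V n t ≠ 0 → (m = z ∧ V n z = s') ∨ (m = w ∧ V n w = -s') → False := by
    intro t m hm hrow ht hcase
    have ht1 : t ≠ one := fun h => ht (by rw [h, hV0, if_neg hn0])
    have hDt := hnt t ht1
    rcases hcase with ⟨rfl, e⟩ | ⟨rfl, e⟩
    · rw [e, hDz] at hrow
      rcases hvalV n t with f | f | f <;> rcases hs with rfl | rfl <;> rw [f] at hrow ht <;> omega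
    · rw [e, hDw] at hrow
      have hDt' : D t = 2 * q + 2 ^ i := by
        rcases hvalV n t with f | f | f <;> rcases hs with rfl | rfl <;> rw [f] at hrow ht <;> omega
      have h3t : ¬ 3 ∣ D t := by
        rw [hDt']
        have h3p : ¬ 3 ∣ 2 ^ i := fun h => by
          have := Nat.prime_three.dvd_of_dvd_pow h
          omega
        rcases hs with rfl | rfl <;> omega
      obtain ⟨l, r, hlr⟩ := smooth_of_dvd hq hq3 (hdiv t) h3t
      have hr : r = 0 := by
        by_contra hr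
        have hqt : q ∣ D t := hlr ▸ (dvd_pow_self q hr).mul_left _
        rw [hDt', Nat.dvd_add_right (dvd_mul_left q 2)] at hqt
        exact hq2 ((Nat.prime_dvd_prime_iff_eq hq Nat.prime_two).mp (hq.dvd_of_dvd_pow hqt))
      subst hr
      simp only [pow_zero, mul_one] at hlr
      rcases l with _ | _ | l
      · omega
      · omega
      · rw [hlr, pow_succ', pow_succ'] at hDt'
        omega
  by_cases hnz : V n z = 0
  · rw [hnz] at hjn
    have hnw : V n w = -s' := by rcases hs with rfl | rfl <;> omega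
    have hne : V n w ≠ 0 := by rw [hnw]; omega
    rcases hsn w hne with h | h | h
    · exact hwR0 h
    · exact fin v u (by rw [← h]; exact hne) (by rw [← h] at hDn ⊢; linarith) (by assumption) (Or.inr ⟨h.symm, hnw⟩)
    · exact fin u v (by rw [← h]; exact hne) (by rw [← h] at hDn ⊢; linarith) (by assumption) (Or.inr ⟨h.symm, hnw⟩)
  · have hnz' : V n z = s' := by
      by_contra hne
      have hne' : V n z = -s' := by
        rcases hvalV n z with f | f | f <;> rcases hs with rfl | rfl <;> omega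
      rw [hne'] at hjn
      rcases hvalV n w with f | f | f <;> rcases hs with rfl | rfl <;> rw [f] at hjn <;> omega
    rcases hsn z hnz with h | h | h
    · exact hzR0 h
    · exact fin v u (by rw [← h]; exact hnz) (by rw [← h] at hDn ⊢; linarith) (by assumption) (Or.inl ⟨h.symm, hnz'⟩)
    · exact fin u v (by rw [← h]; exact hnz) (by rw [← h] at hDn ⊢; linarith) (by assumption) (Or.inl ⟨h.symm, hnz'⟩)

end CfsgLib.NineTwoPrime
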