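import Cfsg.Agent.Lib.SmallSimple.NineTwoPrime.Setup
import Cfsg.Agent.Lib.Char.DefectZero
import Cfsg.Agent.Lib.Char.SchurRationalBound

/-!
# The prime `q`: order, self-centralization and Sylow counting
-/

set_option autoImplicit false
set_option linter.unusedSectionVars false
set_option linter.style.haveILetI false

namespace CfsgLib.NineTwoPrime

open scoped ComplexConjugate
open Cfsg CfsgLib.Char CfsgLib.Block CfsgLib.Block.AbelianFree

universe u

variable {G : Type u} [Group G] [Fintype G] [IsSimpleGroup G]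

/-- A faithful character fixed by all power twists bounds the `q`-part of `|G|`. -/
theorem factorization_le {q : ℕ} [hq : Fact q.Prime] {χ : IrrCharacter G} (hχ : χ ≠ oneChar G)
    (hrat : ∀ m : ℕ, (Nat.card G).Coprime m → ∀ g : G, (χ : G → ℂ) (g ^ m) = (χ : G → ℂ) g) :
    (Nat.card G).factorization q ≤ SchurBound.bound q (charDegree (χ : G → ℂ)) := by
  obtain ⟨S⟩ : Nonempty (Sylow q G) := inferInstance
  have : Fintype ↥(S : Subgroup G) := Fintype.ofFinite _
  set f := charDegree (χ : G → ℂ) with hf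
  obtain ⟨C, hC, hbound⟩ := SchurBound.exists_bound (A := ↥(S : Subgroup G)) (p := q) (m := f)
    (ψ := fun x : ↥(S : Subgroup G) => (χ : G → ℂ) x)
    (isCharacter_comp (isCharacter_irr χ) (S : Subgroup G).subtype)
    (by show (χ : G → ℂ) ((1 : ↥(S : Subgroup G)) : G) = _; rw [OneMemClass.coe_one]; exact (charDegree_eq χ).1)
    S.2 fun g a ha => by
      show (χ : G → ℂ) ((g ^ a : ↥(S : Subgroup G)) : G) = (χ : G → ℂ) g
      rw [SubmonoidClass.coe_pow]
      set k := (Nat.card G).factorization q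
      have hcop : Nat.Coprime (q ^ k) (Nat.card G / q ^ k) :=
        Nat.Coprime.pow_left k (Nat.coprime_ordCompl hq.out Nat.card_pos.ne')
      obtain ⟨m, hm1, hm2⟩ := Nat.chineseRemainder hcop a 1
      have hmG : (Nat.card G).Coprime m := by
        rw [← Nat.ordProj_mul_ordCompl_eq_self (Nat.card G) q]
        refine Nat.Coprime.mul_left ?_ ?_
        · by_cases hk : (Nat.card G).factorization q = 0
          · rw [hk, pow_zero]; exact Nat.coprime_one_left _
          refine Nat.Coprime.pow_left _ (hq.out.coprime_iff_not_dvd.mpr fun hdm => ?_)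
          · have h1 : Nat.ModEq q m a := hm1.of_dvd (dvd_pow_self q hk)
            have h2 : q ∣ a := (Nat.ModEq.dvd_iff h1 dvd_rfl).mp hdm
            exact hq.out.not_dvd_one (ha ▸ Nat.dvd_gcd h2 dvd_rfl)
        · have := hm2.gcd_eq
          rw [Nat.gcd_one_left] at this
          exact Nat.coprime_comm.mp this
      rw [← hrat m hmG (g : G)]
      have hdo := Subgroup.orderOf_dvd_natCard (S : Subgroup G) g.2
      rw [Sylow.card_eq_multiplicity] at hdo
      rw [show (g : G) ^ m = (g : G) ^ a from pow_eq_pow_iff_modEq.mpr (hm1.of_dvd hdo)]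
  have hCbot : C = ⊥ := (Subgroup.eq_bot_iff_forall _).mpr fun x hx =>
    Subtype.ext (eq_one_of_value' hχ (hC x hx))
  rw [hCbot, Subgroup.index_bot, Sylow.card_eq_multiplicity, hq.out.factorization_pow,
    Finsupp.single_eq_same] at hbound
  exact hbound

/-- A faithful character of small degree, fixed by all power twists, forces `q ^ 2 ∤ |G|`. -/
theorem not_sq_dvd {q : ℕ} [hq : Fact q.Prime] (hq5 : 5 ≤ q)
    {χ : IrrCharacter G} (hχ : χ ≠ oneChar G) (hdeg : charDegree (χ : G → ℂ) ≤ q + 1)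
    (hrat : ∀ m : ℕ, (Nat.card G).Coprime m → ∀ g : G, (χ : G → ℂ) (g ^ m) = (χ : G → ℂ) g) :
    ¬ q ^ 2 ∣ Nat.card G := by
  intro hd
  have hbound := factorization_le (q := q) hχ hrat
  set f := charDegree (χ : G → ℂ)
  have h2 : 2 ≤ (Nat.card G).factorization q := (hq.out.pow_dvd_iff_le_factorization Nat.card_pos.ne').mp hd
  have hb : SchurBound.bound q f ≤ 1 := by
    refine (SchurBound.bound_mono hdeg).trans ?_
    rw [SchurBound.bound, Finset.sum_range_succ']
    have h0 : ∀ x ∈ Finset.range (q + 1), (q + 1) / ((q - 1) * q ^ (x + 1)) = 0 := by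
      intro x _
      refine Nat.div_eq_of_lt ?_
      have : q ≤ q ^ (x + 1) := Nat.le_self_pow (by omega) q
      have : 2 * q ^ (x + 1) ≤ (q - 1) * q ^ (x + 1) := Nat.mul_le_mul_right _ (by omega)
      omega
    rw [Finset.sum_eq_zero h0, zero_add, pow_zero, mul_one]
    exact (Nat.div_lt_iff_lt_mul (by omega)).mpr (by omega) |> Nat.lt_succ_iff.mp
  omega

/-- A faithful character fixed by all power twists has degree at least `q - 1`. -/
theorem le_degree {q : ℕ} [hq : Fact q.Prime] (hd : q ∣ Nat.card G) {χ : IrrCharacter G}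
    (hχ : χ ≠ oneChar G)
    (hrat : ∀ m : ℕ, (Nat.card G).Coprime m → ∀ g : G, (χ : G → ℂ) (g ^ m) = (χ : G → ℂ) g) :
    q ≤ charDegree (χ : G → ℂ) + 1 := by
  by_contra hlt
  have hbound := factorization_le (q := q) hχ hrat
  have h0 : SchurBound.bound q (charDegree (χ : G → ℂ)) = 0 := Finset.sum_eq_zero fun i _ => by
    refine Nat.div_eq_of_lt ?_
    have : (q - 1) * 1 ≤ (q - 1) * q ^ i := Nat.mul_le_mul_left _ (Nat.one_le_pow _ _ hq.out.pos)
    omega
  have := Nat.Prime.factorization_pos_of_dvd hq.out Nat.card_pos.ne' hd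
  omega

/-- With an irreducible character of degree `q` the Sylow `q`-subgroup is self-centralizing. -/
theorem cen_eq (hG : ¬ IsMulCommutative G) {q : ℕ} [hq : Fact q.Prime]
    (hd : q ∣ Nat.card G) (hsq : ¬ q ^ 2 ∣ Nat.card G) {χ : IrrCharacter G}
    (hdeg : charDegree (χ : G → ℂ) = q) (Q : Sylow q G) {u x : G} (hu : u ∈ (Q : Subgroup G))
    (hu1 : u ≠ 1) (hux : Commute u x) (hx : ¬ q ∣ orderOf x) : x = 1 := by
  classical
  have hQ : Nat.card Q = q := by
    rw [Sylow.card_eq_multiplicity]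
    have h1 := (Nat.Prime.factorization_pos_of_dvd hq.out Nat.card_pos.ne' hd)
    have h2 : ¬ 2 ≤ (Nat.card G).factorization q := fun h =>
      hsq ((hq.out.pow_dvd_iff_le_factorization Nat.card_pos.ne').mpr h)
    rw [show (Nat.card G).factorization q = 1 by omega, pow_one]
  have huo : orderOf u = q :=
    ((Nat.dvd_prime hq.out).mp (hQ ▸ Subgroup.orderOf_dvd_natCard _ hu)).resolve_left
      (fun e => hu1 (orderOf_eq_one_iff.mp e))
  have hvan : ∀ g : G, q ∣ orderOf g → (χ : G → ℂ) g = 0 := fun g hg =>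
    char_defect_zero_vanishes χ (p := q) (n := 1) (d := q) (by rwa [pow_one]) hsq
      (by rw [(charDegree_eq χ).1, hdeg]) (by rw [pow_one]) hg
  set n := orderOf x with hn
  have hord : orderOf (u * x) = q * n := by
    rw [hux.orderOf_mul_eq_mul_orderOf_of_coprime (huo ▸ hq.out.coprime_iff_not_dvd.mpr hx), huo]
  set C := Subgroup.zpowers (u * x) with hC
  have : Fintype C := Fintype.ofFinite _
  have : Fintype (IrrCharacter C) := Fintype.ofFinite _
  have hcC : Nat.card C = q * n := by rw [hC, Nat.card_zpowers, hord]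
  set r : C → ℂ := fun c => (χ : G → ℂ) c
  have hchar : IsCharacter C r := isCharacter_comp (isCharacter_irr χ) C.subtype
  choose m hm using fun η : IrrCharacter C => classInner_char_irr_nat hchar η
  have hcomm : ∀ a b : C, a * b = b * a := fun a b => Subtype.ext (by
    obtain ⟨i, hi⟩ := Subgroup.mem_zpowers_iff.mp a.2
    obtain ⟨j, hj⟩ := Subgroup.mem_zpowers_iff.mp b.2
    show (a : G) * b = b * a
    rw [← hi, ← hj]
    exact ((Commute.refl _).zpow_zpow i j).eq)
  have hexp := classFun_expand (f := r) fun a b => by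
    show (χ : G → ℂ) ((b * a * b⁻¹ : C) : G) = _
    rw [hcomm b a, mul_inv_cancel_right]
  have hsum : (∑ η : IrrCharacter C, (m η : ℂ)) = q := by
    have e := congrFun hexp 1
    rw [Finset.sum_apply] at e
    rw [show r 1 = (q : ℂ) by show (χ : G → ℂ) ((1 : C) : G) = _; rw [OneMemClass.coe_one, (charDegree_eq χ).1, hdeg]] at e
    rw [e]
    refine Finset.sum_congr rfl fun η _ => ?_
    rw [Pi.smul_apply, smul_eq_mul, hm η, degree_one_of_comm hcomm η, mul_one]
  have hnorm : classInner r r = ((∑ η : IrrCharacter C, m η * m η : ℕ) : ℂ) := by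
    conv_lhs => arg 1; rw [hexp]
    rw [classInner_sum_left, Nat.cast_sum]
    refine Finset.sum_congr rfl fun η _ => ?_
    rw [classInner_smul_left, hm η, Nat.cast_mul]
    congr 1
    rw [← classInner_conj, hm η, map_natCast]
  have hle : q ≤ ∑ η : IrrCharacter C, m η * m η :=
    le_trans (le_of_eq (by exact_mod_cast hsum.symm)) (Finset.sum_le_sum fun η _ => Nat.le_mul_self (m η))
  rw [classInner_self] at hnorm
  have hnormR : (Nat.card C : ℝ)⁻¹ * ∑ c : C, ‖r c‖ ^ 2 = ((∑ η : IrrCharacter C, m η * m η : ℕ) : ℝ) := by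
    exact_mod_cast hnorm
  set T := Finset.univ.filter fun c : C => c ^ n = 1
  have hT : T.card ≤ n := by
    have : IsCyclic C := by rw [hC]; infer_instance
    exact IsCyclic.card_pow_eq_one_le (orderOf_pos x)
  have hzero : ∀ c : C, c ∉ T → r c = 0 := by
    intro c hc
    refine hvan _ (by_contra fun hqc => hc ?_)
    simp only [T, Finset.mem_filter, Finset.mem_univ, true_and]
    have h1 : orderOf (c : G) ∣ q * n := hcC ▸ Subgroup.orderOf_dvd_natCard C c.2
    have h2 : orderOf (c : G) ∣ n := (hq.out.coprime_iff_not_dvd.mpr hqc).symm.dvd_of_dvd_mul_left h1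
    exact Subtype.ext (by rw [SubmonoidClass.coe_pow, OneMemClass.coe_one]; exact orderOf_dvd_iff_pow_eq_one.mp h2)
  have hnb : ∀ c : C, ‖r c‖ ≤ (q : ℝ) := fun c => by
    obtain ⟨φ, d, ρ, hρ, hφ⟩ := χ
    have hdq : (d : ℂ) = q := by
      have := (charDegree_eq ⟨φ, d, ρ, hρ, hφ⟩).1
      rw [hdeg] at this
      rw [← this]
      show _ = φ 1
      rw [← hφ, Representation.char_one, Module.finrank_fin_fun]
    show ‖φ c‖ ≤ _
    rw [← hφ]
    refine (norm_char_le ρ c).trans ?_
    rw [Module.finrank_fin_fun, Nat.cast_inj.mp hdq]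
  have hxC : x ∈ C := by
    have h1 : (u * x) ^ q = x ^ q := by
      rw [hux.mul_pow, ← huo, pow_orderOf_eq_one, one_mul]
    obtain ⟨v, hv⟩ := exists_pow_eq_self_of_coprime
      (hq.out.coprime_iff_not_dvd.mpr hx : Nat.Coprime q (orderOf x))
    have h2 := pow_mem (pow_mem (Subgroup.mem_zpowers (u * x)) q) v
    rwa [h1, hv] at h2
  have hxT : (⟨x, hxC⟩ : C) ∈ T := by
    simp only [T, Finset.mem_filter, Finset.mem_univ, true_and]
    exact Subtype.ext (by simp [hn, pow_orderOf_eq_one])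
  have hxq : ‖(χ : G → ℂ) x‖ = (q : ℝ) := by
    refine le_antisymm (hnb ⟨x, hxC⟩) (not_lt.mp fun hlt => ?_)
    have h1 : ∑ c : C, ‖r c‖ ^ 2 < (n : ℝ) * (q : ℝ) ^ 2 := by
      rw [← Finset.sum_subset (Finset.subset_univ T) fun c _ hc => by rw [hzero c hc, norm_zero]; ring]
      calc ∑ c ∈ T, ‖r c‖ ^ 2 < ∑ c ∈ T, (q : ℝ) ^ 2 :=
            Finset.sum_lt_sum (fun c _ => pow_le_pow_left₀ (norm_nonneg _) (hnb c) 2)
              ⟨_, hxT, pow_lt_pow_left₀ hlt (norm_nonneg _) two_ne_zero⟩
        _ ≤ _ := by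
          rw [Finset.sum_const, nsmul_eq_mul]
          exact mul_le_mul_of_nonneg_right (by exact_mod_cast hT) (by positivity)
    have hn0 : (0 : ℝ) < n := by exact_mod_cast orderOf_pos x
    have hq0 : (0 : ℝ) < q := by exact_mod_cast hq.out.pos
    rw [hcC, inv_mul_eq_iff_eq_mul₀ (by push_cast; exact (mul_pos hq0 hn0).ne')] at hnormR
    rw [hnormR] at h1
    push_cast at h1
    have : ((q : ℕ) : ℝ) ≤ ((∑ η : IrrCharacter C, m η * m η : ℕ) : ℝ) := by exact_mod_cast hle
    push_cast at this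
    nlinarith [mul_le_mul_of_nonneg_left this (mul_nonneg hq0.le hn0.le)]
  obtain ⟨φ, d, ρ, hρ, hφ⟩ := χ
  have hdq : d = q := by
    have := (charDegree_eq ⟨φ, d, ρ, hρ, hφ⟩).1
    rw [hdeg] at this
    have h' : φ 1 = (d : ℂ) := by rw [← hφ, Representation.char_one, Module.finrank_fin_fun]
    exact_mod_cast h'.symm.trans this
  obtain ⟨ω, hω⟩ := (norm_char_eq_iff ρ x).mp (by
    rw [Module.finrank_fin_fun, hφ]
    subst hdq
    exact hxq)
  exact PrimeDegrees.scalar_eq_one (not_comm_forall hG) ρ hρ (hdq ▸ hq.out.two_le) hω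

/-- The Sylow data at `q`. -/
theorem sylow_data (hG : ¬ IsMulCommutative G) {q a : ℕ} [hq : Fact q.Prime] (hq2 : q ≠ 2) (hq3 : q ≠ 3)
    (hcard : Nat.card G = 9 * 2 ^ a * q) {χ : IrrCharacter G} (hdeg : charDegree (χ : G → ℂ) = q)
    (Q : Sylow q G) :
    Nat.card Q = q ∧ cen Q = (Q : Subgroup G) ∧
      ∃ x y : ℕ, y ≤ 2 ∧ (3 ^ y * 2 ^ x) % q = 1 ∧ (cen Q).relIndex (nor Q) ∣ q - 1 ∧
        Nat.card G = q * (cen Q).relIndex (nor Q) * (3 ^ y * 2 ^ x) := by
  classical
  have hq5 : 5 ≤ q := hq.out.five_le_of_ne_two_of_ne_three hq2 hq3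
  have hcop : Nat.Coprime q (9 * 2 ^ a) :=
    Nat.Coprime.mul_right ((Nat.coprime_primes hq.out Nat.prime_three).mpr hq3 |>.pow_right 2 |> fun h => by simpa using h)
      (((Nat.coprime_primes hq.out Nat.prime_two).mpr hq2).pow_right a)
  have hd : q ∣ Nat.card G := hcard ▸ dvd_mul_left _ _
  have hsq : ¬ q ^ 2 ∣ Nat.card G := by
    rw [hcard, sq]
    intro h
    have h1 := Nat.dvd_of_mul_dvd_mul_right hq.out.pos h
    exact hq.out.not_dvd_one (hcop ▸ Nat.dvd_gcd dvd_rfl h1)
  have hQ : Nat.card Q = q := by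
    rw [Sylow.card_eq_multiplicity, hcard, mul_comm]
    rw [Nat.factorization_mul hq.out.ne_zero (by positivity), Finsupp.add_apply, hq.out.factorization_self,
      Nat.factorization_eq_zero_of_not_dvd (fun h => hq.out.not_dvd_one (hcop ▸ Nat.dvd_gcd dvd_rfl h)),
      add_zero, pow_one]
  obtain ⟨u, hu1⟩ : ∃ u : ↥(Q : Subgroup G), u ≠ 1 := by
    have : Nontrivial ↥(Q : Subgroup G) := Finite.one_lt_card_iff_nontrivial.mp (by rw [hQ]; exact hq.out.one_lt)
    exact exists_ne _
  have hcyc : IsCyclic ↥(Q : Subgroup G) := isCyclic_of_prime_card hQ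
  have hQcomm : ∀ v w : G, v ∈ (Q : Subgroup G) → w ∈ (Q : Subgroup G) → v * w = w * v := fun v w hv hw =>
    congrArg Subtype.val ((IsCyclic.isMulCommutative (α := ↥(Q : Subgroup G))).is_comm.comm ⟨v, hv⟩ ⟨w, hw⟩)
  have hQle : (Q : Subgroup G) ≤ cen Q := fun w hw =>
    Subgroup.mem_centralizer_iff.mpr fun v hv => hQcomm v w hv hw
  have hcen : cen Q = (Q : Subgroup G) := by
    refine le_antisymm (fun x hx => ?_) hQle
    have hux : Commute (u : G) x := Subgroup.mem_centralizer_iff.mp hx u u.2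
    have hxq : x ^ q = 1 := by
      refine cen_eq hG hd hsq hdeg Q u.2 (fun e => hu1 (Subtype.ext e)) (hux.pow_right q) fun hh => ?_
      have h1 : orderOf (x ^ q) * q ∣ Nat.card G := by
        by_cases hqx : q ∣ orderOf x
        · rw [orderOf_pow_of_dvd hq.out.ne_zero hqx, Nat.div_mul_cancel hqx]
          exact orderOf_dvd_natCard x
        · rw [(Nat.Coprime.orderOf_pow (hq.out.coprime_iff_not_dvd.mpr hqx).symm)] at hh
          exact absurd hh hqx
      exact hsq (by rw [sq]; exact (Nat.mul_dvd_mul_right hh q).trans h1)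
    have hp : IsPGroup q (Subgroup.zpowers x) := fun z => ⟨1, by
      obtain ⟨j, hj⟩ := Subgroup.mem_zpowers_iff.mp z.2
      refine Subtype.ext ?_
      rw [pow_one, SubmonoidClass.coe_pow, ← hj, ← zpow_natCast, ← zpow_mul, mul_comm, zpow_mul,
        zpow_natCast, hxq, one_zpow]
      rfl⟩
    have := hp.inf_normalizer_sylow Q
    exact (Subgroup.mem_inf.mp (this ▸ Subgroup.mem_inf.mpr
      ⟨Subgroup.mem_zpowers x, cen_le_nor hx⟩)).2
  set e := (cen Q).relIndex (nor Q) with he
  have hprod : q * e * (nor Q).index = Nat.card G := by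
    have h1 : (cen Q).relIndex (nor Q) * (nor Q).index = (cen Q).index :=
      Subgroup.relIndex_mul_index cen_le_nor
    rw [mul_assoc, h1, hcen]
    calc q * (Q : Subgroup G).index = Nat.card Q * (Q : Subgroup G).index := by rw [hQ]
      _ = _ := Subgroup.card_mul_index _
  have hdvd : (nor Q).index ∣ 9 * 2 ^ a := by
    refine Nat.dvd_of_mul_dvd_mul_left hq.out.pos ?_
    rw [mul_comm q (9 * 2 ^ a), ← hcard, ← hprod, mul_assoc]
    exact Nat.mul_dvd_mul_left q (dvd_mul_left _ _)
  obtain ⟨u', v', hu', hv', heq⟩ := dvd_mul.mp hdvd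
  obtain ⟨y, hy, rfl⟩ := (Nat.dvd_prime_pow Nat.prime_three).mp (show u' ∣ 3 ^ 2 by simpa using hu')
  obtain ⟨x, -, rfl⟩ := (Nat.dvd_prime_pow Nat.prime_two).mp hv'
  refine ⟨hQ, hcen, x, y, hy, ?_, ?_, ?_⟩
  · rw [← heq, show (nor Q).index = Nat.card (Sylow q G) from (Sylow.card_eq_index_normalizer Q).symm]
    have := card_sylow_modEq_one q G
    rw [Nat.ModEq, Nat.one_mod_eq_one.mpr (by omega)] at this
    exact this
  · let f := (Q : Subgroup G).normalizerMonoidHom
    have hk : f.ker = (cen Q).subgroupOf (nor Q) := Subgroup.normalizerMonoidHom_ker _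
    rw [he, Subgroup.relIndex, ← hk, Subgroup.index_ker]
    calc Nat.card f.range ∣ Nat.card (MulAut ↥(Q : Subgroup G)) := Subgroup.card_subgroup_dvd_card _
      _ = q - 1 := by rw [IsCyclic.card_mulAut, hQ, Nat.totient_prime hq.out]
  · rw [← heq, hprod]

end CfsgLib.NineTwoPrime
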