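import Cfsg.Agent.Lib.SmallSimple.NineTwoPrime.KleinVec
import Cfsg.Agent.Lib.SmallSimple.NineTwoPrime.KleinKill
import Cfsg.Agent.Lib.SmallSimple.NineTwoPrime.Prime
import Cfsg.Agent.Lib.Block.PrincipalCoreInflation

/-!
# The four-group automizer does not occur
-/

set_option autoImplicit false
set_option linter.unusedSectionVars false
set_option linter.style.haveILetI false

namespace CfsgLib.NineTwoPrime

open scoped ComplexConjugate
open Cfsg CfsgLib.Char CfsgLib.Block CfsgLib.Block.AbelianFree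

universe u

variable {G : Type u} [Group G] [Fintype G] [IsSimpleGroup G] {P : Sylow 3 G}

/-- `3` divides the degree iff it divides the integral value at a `3`-element. -/
theorem three_dvd_iff {M : Ideal AlgInt} [M.IsMaximal] (hM : IsPModular 3 M) {θ : IrrCharacter G}
    {x : G} (hx : x ^ 3 = 1) {v : ℤ} (hv : (θ : G → ℂ) x = (v : ℂ)) :
    3 ∣ charDegree (θ : G → ℂ) ↔ (3 : ℤ) ∣ v := by
  classical
  have h := res_irr_mul_pElement hM θ (Commute.one_right x) (k := 1) (by rwa [pow_one])
  rw [mul_one] at h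
  have hx0 : irrLoc M θ x = (v : locRing M) := Subtype.ext (by
    rw [coe_irrLoc, hv, SubringClass.coe_intCast])
  have h1 : irrLoc M θ 1 = (charDegree (θ : G → ℂ) : locRing M) := Subtype.ext (by
    rw [coe_irrLoc, (charDegree_eq θ).1]; norm_cast)
  rw [hx0, h1, map_intCast, map_natCast] at h
  have := charP_resField hM
  rw [← CharP.cast_eq_zero_iff (ResField M) 3, ← h, CharP.intCast_eq_zero_iff (ResField M) 3]
  norm_num

theorem klein_false (hG : ¬ IsMulCommutative G) (q a b : ℕ) (hq : q.Prime) (hq2 : q ≠ 2) (hq3 : q ≠ 3)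
    (hcard : Nat.card G = 9 * 2 ^ a * q ^ b) (hqG : q ∣ Nat.card G) (h9 : Nat.card P = 9)
    (D : Klein P) : False := by
  classical
  haveI := Fact.mk hq
  have hq5 : 5 ≤ q := hq.five_le_of_ne_two_of_ne_three hq2 hq3
  obtain ⟨M, hM⟩ := exists_pModular Nat.prime_three
  haveI := hM.2.1
  have := Fintype.ofFinite (IrrCharacter G)
  obtain ⟨L⟩ := exists_loc D h9 hM
  obtain ⟨L'⟩ := exists_loc (D.swap h9) h9 hM
  haveI := L.normal
  haveI := L'.normal
  have := Fintype.ofFinite L.N
  have := Fintype.ofFinite L'.N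
  have := Fintype.ofFinite (IrrCharacter L.N)
  have := Fintype.ofFinite (IrrCharacter L'.N)
  let ι := {θ : IrrCharacter G // θ ∈ principalBlock M G}
  choose UZ hUZ using fun (j : Fin 3) (t : ι) => L.exists_int j t.1
  choose VZ hVZ using fun (j : Fin 3) (t : ι) => L'.exists_int j t.1
  let one : ι := ⟨oneChar G, one_mem_principalBlock⟩
  have hsub : ∀ f : IrrCharacter G → ℂ,
      ∑ θ ∈ Finset.univ.filter (· ∈ principalBlock M G), f θ = ∑ t : ι, f t.1 := fun f =>
    Finset.sum_subtype _ (fun θ => by simp) f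
  have hUU : ∀ i j, ∑ t, UZ i t * UZ j t = if i = j then 3 else 0 := by
    intro i j
    have h := L.gram h9 hM i j
    rw [hsub, Finset.sum_congr rfl fun t _ => by rw [hUZ i t, hUZ j t, map_intCast, ← Int.cast_mul],
      ← Int.cast_sum] at h
    split_ifs at h ⊢ with he
    · exact_mod_cast h
    · exact_mod_cast h
  have hVV : ∀ i j, ∑ t, VZ i t * VZ j t = if i = j then 3 else 0 := by
    intro i j
    have h := L'.gram h9 hM i j
    rw [hsub, Finset.sum_congr rfl fun t _ => by rw [hVZ i t, hVZ j t, map_intCast, ← Int.cast_mul],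
      ← Int.cast_sum] at h
    split_ifs at h ⊢ with he
    · exact_mod_cast h
    · exact_mod_cast h
  have hUV : ∀ i j, ∑ t, UZ i t * VZ j t = 1 := by
    intro i j
    have h := L.gram_cross h9 hM L' i j
    rw [hsub, Finset.sum_congr rfl fun t _ => by rw [hUZ i t, hVZ j t, map_intCast, ← Int.cast_mul],
      ← Int.cast_sum] at h
    exact_mod_cast h
  have hUsum : ∀ t : ι, ((∑ i, UZ i t : ℤ) : ℂ) = (t.1 : G → ℂ) (D.a * D.b) := fun t => by
    rw [← L.sum_vec h9 hM t.2, Int.cast_sum]
    exact Finset.sum_congr rfl fun i _ => (hUZ i t).symm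
  have hC : ∀ t, ∑ i, UZ i t = ∑ j, VZ j t := fun t => by
    have h : ((∑ j, VZ j t : ℤ) : ℂ) = (t.1 : G → ℂ) (D.a * D.b) := by
      rw [← D.swap_ab h9, ← L'.sum_vec h9 hM t.2, Int.cast_sum]
      exact Finset.sum_congr rfl fun i _ => (hVZ i t).symm
    exact_mod_cast (hUsum t).trans h.symm
  have hU0 : ∀ i, UZ i one = if i = 0 then 1 else 0 := fun i => by
    have h := L.vec_one i
    rw [hUZ i one] at h
    split_ifs at h ⊢ <;> exact_mod_cast h
  have hV0 : ∀ i, VZ i one = if i = 0 then 1 else 0 := fun i => by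
    have h := L'.vec_one i
    rw [hVZ i one] at h
    split_ifs at h ⊢ <;> exact_mod_cast h
  set deg : ι → ℕ := fun t => charDegree (t.1 : G → ℂ) with hdeg
  have hUD : ∀ i, ∑ t, UZ i t * (deg t : ℤ) = 0 := fun i => by
    have h := L.sum_vec_degree hM i
    rw [hsub, Finset.sum_congr rfl fun t _ => by
      rw [hUZ i t, (charDegree_eq t.1).1, ← Int.cast_natCast, ← Int.cast_mul], ← Int.cast_sum] at h
    exact_mod_cast h
  have hVD : ∀ i, ∑ t, VZ i t * (deg t : ℤ) = 0 := fun i => by
    have h := L'.sum_vec_degree hM i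
    rw [hsub, Finset.sum_congr rfl fun t _ => by
      rw [hVZ i t, (charDegree_eq t.1).1, ← Int.cast_natCast, ← Int.cast_mul], ← Int.cast_sum] at h
    exact_mod_cast h
  have hone : deg one = 1 := by simp [hdeg, one, charDegree, oneChar]
  have hnt : ∀ t, t ≠ one → 1 < deg t := fun t ht =>
    one_lt_degree hG fun e => ht (Subtype.ext e)
  have hmod : ∀ t, 3 ∣ deg t ↔ (3 : ℤ) ∣ ∑ i, UZ i t := fun t =>
    three_dvd_iff hM (D.exp _ D.ab_mem) (hUsum t).symm
  -- the supports of the first vectors consist of characters fixed by all power twists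
  have hrat : ∀ (W : ι → ℤ), (∑ t, W t * W t = 3) → W one = 1 → (∑ t, W t * (deg t : ℤ) = 0) →
      (∀ (t t' : ι) (m : ℕ), (Nat.card G).Coprime m →
        (∀ g : G, (t'.1 : G → ℂ) g = (t.1 : G → ℂ) (g ^ m)) → W t' = W t) →
      ∀ t, t ≠ one → W t ≠ 0 → ∀ m : ℕ, (Nat.card G).Coprime m → ∀ g : G,
        (t.1 : G → ℂ) (g ^ m) = (t.1 : G → ℂ) g := by
    intro W hWW hW1 hWD htw t ht hWt m hm g
    set t' : ι := ⟨⟨_, isIrrCharacter_powMap hm t.1⟩, PrincipalCore.powTwist_mem_principalBlock hM hm t.2⟩ with ht'def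
    have hd : deg t' = deg t := by
      have h : (t'.1 : G → ℂ) 1 = (t.1 : G → ℂ) 1 := by
        show (t.1 : G → ℂ) (1 ^ m) = _
        rw [one_pow]
      rw [(charDegree_eq t'.1).1, (charDegree_eq t.1).1] at h
      exact_mod_cast h
    have hW' : W t' = W t := htw t t' m hm fun _ => rfl
    by_cases he : t' = t
    · exact congrFun (congrArg (fun s : ι => (s.1 : G → ℂ)) he) g
    exfalso
    have ht1 : t' ≠ one := fun e => by
      have := hnt t ht
      rw [← hd, e, hone] at this
      omega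
    have hsq : ∀ s, W s ≠ 0 → 1 ≤ W s * W s := fun s hs => by
      have := mul_self_pos.mpr hs
      omega
    set S : Finset ι := {one, t, t'}
    have hsumS : ∑ s ∈ S, W s * W s = W one * W one + (W t * W t + W t' * W t') := by
      rw [Finset.sum_insert (by simp [Ne.symm ht, Ne.symm ht1]), Finset.sum_pair (Ne.symm he)]
    have hle : ∑ s ∈ S, W s * W s ≤ ∑ s, W s * W s :=
      Finset.sum_le_sum_of_subset_of_nonneg (Finset.subset_univ S) fun i _ _ => mul_self_nonneg _
    rw [hsumS, hWW, hW1, hW'] at hle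
    have h1 := hsq t hWt
    have hu : W t * W t = 1 := by omega
    have hout : ∀ s ∉ S, W s = 0 := by
      intro s hs
      by_contra hs0
      have h2 := Finset.sum_le_sum_of_subset_of_nonneg (f := fun s => W s * W s)
        (Finset.subset_univ (insert s S)) fun i _ _ => mul_self_nonneg _
      rw [Finset.sum_insert hs, hsumS, hWW, hW1, hW', hu] at h2
      have := hsq s hs0
      omega
    rw [← Finset.sum_subset (Finset.subset_univ S) (fun s _ hs => by rw [hout s hs, zero_mul]),
      Finset.sum_insert (by simp [Ne.symm ht, Ne.symm ht1]), Finset.sum_pair (Ne.symm he), hW1, hW', hd,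
      hone] at hWD
    rcases mul_self_eq_one_iff.mp hu with e | e <;> rw [e] at hWD <;> push_cast at hWD <;> omega
  have hUt : ∀ (t t' : ι) (m : ℕ), (Nat.card G).Coprime m →
      (∀ g : G, (t'.1 : G → ℂ) g = (t.1 : G → ℂ) (g ^ m)) → UZ 0 t' = UZ 0 t := fun t t' m hm h => by
    have e := L.vec_twist hm h
    rw [hUZ, hUZ] at e
    exact_mod_cast e
  have hVt : ∀ (t t' : ι) (m : ℕ), (Nat.card G).Coprime m →
      (∀ g : G, (t'.1 : G → ℂ) g = (t.1 : G → ℂ) (g ^ m)) → VZ 0 t' = VZ 0 t := fun t t' m hm h => by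
    have e := L'.vec_twist hm h
    rw [hVZ, hVZ] at e
    exact_mod_cast e
  have hratU := hrat (UZ 0) (by rw [hUU, if_pos rfl]) (by rw [hU0, if_pos rfl]) (hUD 0) hUt
  have hratV := hrat (VZ 0) (by rw [hVV, if_pos rfl]) (by rw [hV0, if_pos rfl]) (hVD 0) hVt
  refine klein_kill q a b hq hq2 hq3 one deg hone hnt UZ VZ hUU hVV hUV hC hU0 hV0 hUD hVD
    (fun t => hcard ▸ charDegree_dvd t.1) hmod
    (fun t ht hW => le_degree hqG (fun e => ht (Subtype.ext e)) (hratU t ht hW))
    (fun t ht hW => le_degree hqG (fun e => ht (Subtype.ext e)) (hratV t ht hW))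
    (fun t ht hW hle => ?_)
  have h := not_sq_dvd hq5 (fun e => ht (Subtype.ext e)) hle (hratU t ht hW)
  by_contra hb
  exact h (hcard ▸ (Nat.pow_dvd_pow q (by omega : 2 ≤ b)).trans (dvd_mul_left _ _))

end CfsgLib.NineTwoPrime
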