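import Cfsg.Agent.Lib.SmallSimple.NineTwoPrime.Free
import Cfsg.Agent.Lib.SmallSimple.NineTwoPrime.Prime
import Cfsg.Agent.Lib.Block.PairSolvable.Basic
import Cfsg.Agent.Lib.Char.ClassMul

/-!
# Bounds from class multiplication and from the centralizer of an element of order three
-/

set_option autoImplicit false
set_option linter.unusedSectionVars false
set_option linter.style.haveILetI false

namespace CfsgLib.NineTwoPrime

open scoped ComplexConjugate
open Cfsg CfsgLib.Char CfsgLib.Block CfsgLib.Block.AbelianFree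

universe u

variable {G : Type u} [Group G] [Fintype G]

/-- An exponent prime to the group order with given residue on a `p`-part. -/
theorem exists_coprime_lift {p : ℕ} (hp : p.Prime) {a : ℕ} (ha : a.Coprime p) :
    ∃ m : ℕ, (Nat.card G).Coprime m ∧
      Nat.ModEq (p ^ (Nat.card G).factorization p) m a := by
  set k := (Nat.card G).factorization p
  have hcop : Nat.Coprime (p ^ k) (Nat.card G / p ^ k) :=
    Nat.Coprime.pow_left k (Nat.coprime_ordCompl hp Nat.card_pos.ne')
  obtain ⟨m, hm1, hm2⟩ := Nat.chineseRemainder hcop a 1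
  refine ⟨m, ?_, hm1⟩
  rw [← Nat.ordProj_mul_ordCompl_eq_self (Nat.card G) p]
  refine Nat.Coprime.mul_left ?_ ?_
  · by_cases hk : (Nat.card G).factorization p = 0
    · rw [hk, pow_zero]; exact Nat.coprime_one_left _
    · refine Nat.Coprime.pow_left _ (hp.coprime_iff_not_dvd.mpr fun hdm => ?_)
      have h1 : Nat.ModEq p m a := hm1.of_dvd (dvd_pow_self p hk)
      exact hp.not_dvd_one (ha ▸ Nat.dvd_gcd ((Nat.ModEq.dvd_iff h1 dvd_rfl).mp hdm) dvd_rfl)
  · have := hm2.gcd_eq
    rw [Nat.gcd_one_left] at this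
    exact Nat.coprime_comm.mp this

variable {P : Sylow 3 G} {M : Ideal AlgInt}

namespace FreeShape

variable (S : FreeShape P M)

/-- `X` has the value `β` at every 3-singular element. -/
theorem valX_singular {z : G} (hz : 3 ∣ orderOf z) : (S.X : G → ℂ) z = (S.β : ℂ) := by
  obtain ⟨x, hx⟩ := exists_isPPart Nat.prime_three z
  have hx1 : x ≠ 1 := fun e => by
    rw [e] at hx
    exact not_dvd_of_isPPart_one hx hz
  obtain ⟨b, -, -, ⟨k, hk⟩, -⟩ := id hx
  have hp : IsPGroup 3 (Subgroup.zpowers x) := IsPGroup.of_card (n := k) (by rw [Nat.card_zpowers, hk])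
  obtain ⟨T, hT⟩ := hp.exists_le_sylow
  obtain ⟨c, hc⟩ := MulAction.exists_smul_eq G T P
  have hcx : c * x * c⁻¹ ∈ (P : Subgroup G) := hc ▸ ⟨x, hT (Subgroup.mem_zpowers x), rfl⟩
  rw [← isClassFunction_irr S.X z c]
  exact S.valX _ _ (AbelianFree.isPPart_conj c hx) hcx fun e => hx1 (conj_eq_one_iff.mp e)

variable [IsSimpleGroup G]

open scoped Classical in
/-- Class multiplication averaged over a section. -/
theorem class_equation (hM : IsPModular 3 M) (h : Free P) {g : G} (hg : g ∈ (P : Subgroup G))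
    (hg1 : g ≠ 1) {z : G} (hz : ¬ 3 ∣ orderOf z) :
    ∃ L : ℕ, (Nat.card G : ℂ) *
        ((Finset.univ.filter fun c : Subgroup.centralizer ({g} : Set G) => ¬ 3 ∣ orderOf c).card : ℂ) *
        ((S.X : G → ℂ) 1 - (S.X : G → ℂ) z) ^ 2 =
      (L : ℂ) * (Nat.card (Subgroup.centralizer ({z} : Set G)) : ℂ) ^ 2 *
        ((S.X : G → ℂ) 1 * ((S.X : G → ℂ) 1 + S.β)) := by
  have := hM.2.1
  have := Fintype.ofFinite (IrrCharacter G)
  set C := Subgroup.centralizer ({g} : Set G) with hCdef
  set R := Finset.univ.filter fun c : C => ¬ 3 ∣ orderOf c with hR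
  have hC : ∀ t : G, t ∈ C ↔ Commute t g := fun t => Subgroup.mem_centralizer_singleton_iff
  have hn := h.hasNormalPComplement hg hg1
  obtain ⟨k, hk⟩ := h.orderOf_mem hg
  refine ⟨∑ c ∈ R, classConst z z (g * (c : G)), ?_⟩
  set f := (S.X : G → ℂ) 1 with hf
  set x := (S.X : G → ℂ) z with hx
  have hf0 : f ≠ 0 := irr_one_ne_zero _
  obtain ⟨θ₀, hθ₀⟩ := S.nonempty
  have he0 : f + (S.β : ℂ) ≠ 0 := by
    have e := S.reg θ₀ hθ₀ 1 (by simp)
    rw [add_comm] at e
    exact e ▸ irr_one_ne_zero θ₀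
  have hpart : ∀ c ∈ R, IsPPart 3 (g * (c : G)) g := fun c hc =>
    ⟨c, rfl, ((hC c).1 c.2).symm, ⟨k, hk⟩, by rw [Subgroup.orderOf_coe]; exact (Finset.mem_filter.1 hc).2⟩
  have hsum : ∑ χ : IrrCharacter G,
      (χ : G → ℂ) z * (χ : G → ℂ) z * conj (∑ c ∈ R, (χ : G → ℂ) (g * c)) / (χ : G → ℂ) 1 =
      (R.card : ℂ) * ((f - x) ^ 2 / (f * (f + S.β))) := by
    set F : IrrCharacter G → ℂ := fun χ =>
      (χ : G → ℂ) z * (χ : G → ℂ) z * conj (∑ c ∈ R, (χ : G → ℂ) (g * c)) / (χ : G → ℂ) 1 with hF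
    have hzero : ∀ χ : IrrCharacter G, χ ∉ insert (oneChar G) (insert S.X S.Y) → F χ = 0 := by
      intro χ hχ
      have hB : χ ∉ principalBlock M G := fun hB => hχ (by
        rcases S.cover χ hB with e | e | e <;> simp [e])
      simp only [hF]
      rw [PairSolvable.sum_section_eq_zero hM ⟨k, hk⟩ hC hn hB, map_zero, mul_zero, zero_div]
    rw [← Finset.sum_subset (Finset.subset_univ _) fun χ _ hχ => hzero χ hχ,
      Finset.sum_insert (by
        simp only [Finset.mem_insert, not_or]
        exact ⟨fun e => S.hX1 e.symm, fun e => (S.hY _ e).2.1 rfl⟩),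
      Finset.sum_insert fun e => (S.hY _ e).2.2 rfl]
    have h1 : F (oneChar G) = (R.card : ℂ) := by
      simp [hF, oneChar]
    have h2 : F S.X = (R.card : ℂ) * ((S.β : ℂ) * (x * x) / f) := by
      simp only [hF]
      rw [Finset.sum_congr rfl fun c hc => S.valX _ g (hpart c hc) hg hg1, Finset.sum_const, nsmul_eq_mul,
        map_mul, map_natCast, map_intCast]
      ring
    have h3 : ∑ θ ∈ S.Y, F θ = (R.card : ℂ) * (-(S.β : ℂ) * ((S.β : ℂ) + x) * ((S.β : ℂ) + x) / (f + S.β)) := by
      · have hval : ∀ θ ∈ S.Y, F θ = ((S.β : ℂ) + x) * ((S.β : ℂ) + x) / (f + S.β) *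
            conj (∑ c ∈ R, (θ : G → ℂ) (g * c)) := fun θ hθ => by
          simp only [hF]
          rw [S.reg θ hθ z hz, S.reg θ hθ 1 (by simp), ← hf, ← hx]
          ring
        rw [Finset.sum_congr rfl hval, ← Finset.mul_sum, ← map_sum, Finset.sum_comm,
          Finset.sum_congr rfl fun c hc => S.valY _ g (hpart c hc) hg hg1, Finset.sum_const, nsmul_eq_mul,
          map_mul, map_natCast, map_neg, map_intCast]
        ring
    rw [h1, h2, h3]
    have hβ2 : (S.β : ℂ) ^ 2 = 1 := by rcases S.hβ with e | e <;> rw [e] <;> norm_num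
    field_simp
    linear_combination (R.card : ℂ) * (x ^ 2 - 2 * f * x - (S.β : ℂ) * f) * hβ2
  have hcls : (Nat.card {x : G // IsConj z x} : ℂ) * Nat.card (Subgroup.centralizer ({z} : Set G)) =
      Nat.card G := by
    rw [card_isConj, ← Nat.cast_mul, Subgroup.index_mul_card]
  have hL : ((∑ c ∈ R, classConst z z (g * (c : G)) : ℕ) : ℂ) =
      (Nat.card {x : G // IsConj z x} : ℂ) * (Nat.card {x : G // IsConj z x} : ℂ) / (Nat.card G : ℂ) *
        ((R.card : ℂ) * ((f - x) ^ 2 / (f * (f + S.β)))) := by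
    rw [Nat.cast_sum, ← hsum]
    simp only [classConst_formula]
    rw [← Finset.mul_sum]
    congr 1
    simp only [finsum_eq_sum_of_fintype]
    rw [Finset.sum_comm]
    refine Finset.sum_congr rfl fun χ _ => ?_
    rw [map_sum, Finset.mul_sum, Finset.sum_div]
  rw [hL]
  have hG0 : (Nat.card G : ℂ) ≠ 0 := Nat.cast_ne_zero.mpr Nat.card_pos.ne'
  field_simp
  rw [← hcls]
  ring

/-- What the centralizer of an element of order three tells us. -/
theorem centralizer_bound (hG : ¬ IsMulCommutative G) (hM : IsPModular 3 M) (h : Free P)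
    (h9 : Nat.card P = 9) (hrat : ∀ m : ℕ, (Nat.card G).Coprime m → ∀ x : G,
      (S.X : G → ℂ) (x ^ m) = (S.X : G → ℂ) x)
    {g : G} (hg : g ∈ (P : Subgroup G)) (hg3 : orderOf g = 3)
    (h2 : ∀ x : G, x ∈ Subgroup.centralizer ({g} : Set G) → ¬ 3 ∣ orderOf x → ∃ j, orderOf x = 2 ^ j) :
    ∃ d k l : ℕ, 3 * d + k = charDegree (S.X : G → ℂ) ∧ (9 * (l : ℤ) = k + 8 * S.β) ∧
      Nat.card (Cfsg.pResidual 3 ↥(Subgroup.centralizer ({g} : Set G))) ∣ 2 ^ SchurBound.bound 2 d := by
  classical
  have := hM.2.1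
  have := Fact.mk Nat.prime_two
  have hg1 : g ≠ 1 := fun e => by rw [e, orderOf_one] at hg3; omega
  set C := Subgroup.centralizer ({g} : Set G) with hCdef
  have hn : Cfsg.HasNormalPComplement 3 C := h.hasNormalPComplement hg hg1
  set K := Cfsg.pResidual 3 C with hK
  have : Fintype C := Fintype.ofFinite _
  have := Fintype.ofFinite (IrrCharacter C)
  have : Fintype K := Fintype.ofFinite _
  set χ : G → ℂ := (S.X : G → ℂ) with hχ
  have hmem : ∀ c : C, c ∈ K ↔ ¬ 3 ∣ orderOf (c : G) := fun c => by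
    rw [hK, mem_pResidual_iff_regular hn, Subgroup.orderOf_coe]
  -- sums over `K` and over `C`
  have hkchar : IsCharacter K fun s : K => χ ((s : C) : G) :=
    isCharacter_comp (isCharacter_irr S.X) (C.subtype.comp K.subtype)
  have := Fintype.ofFinite (IrrCharacter K)
  obtain ⟨k, hk⟩ := classInner_char_irr_nat hkchar (oneChar K)
  obtain ⟨l, hl⟩ := classInner_char_irr_nat (isCharacter_comp (isCharacter_irr S.X) C.subtype) (oneChar C)
  simp only [classInner, oneChar, map_one, mul_one, Subgroup.coe_subtype] at hk hl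
  rw [inv_mul_eq_iff_eq_mul₀ (Nat.cast_ne_zero.mpr Nat.card_pos.ne')] at hk hl
  have hidx : Nat.card C = 9 * Nat.card K := by
    have h9' : (Nat.card C).factorization 3 = 2 := by
      have hcard : Nat.card ((P : Subgroup G).subgroupOf C) = 9 := by
        rw [Nat.card_congr (Subgroup.subgroupOfEquivOfLe (h.le_centralizer hg)).toEquiv, ← h9]
      have h1 := (P.subtype (h.le_centralizer hg)).card_eq_multiplicity
      rw [Sylow.coe_subtype, hcard] at h1
      have : 3 ^ 2 = 3 ^ (Nat.card C).factorization 3 := by simpa using h1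
      exact (Nat.pow_right_injective (by norm_num) this).symm
    obtain ⟨P', N, hN, hNP⟩ := id hn
    obtain ⟨S'⟩ : Nonempty (Sylow 3 C) := inferInstance
    have e := ((CfsgLib.Fusion.hasNormalPComplement_iff_forall_sylow).mp hn S').card_mul
    rw [S'.card_eq_multiplicity, h9', ← hK] at e
    omega
  have hsumC : ∑ c : C, χ (c : G) = ∑ s : K, χ ((s : C) : G) + (8 * Nat.card K : ℕ) * (S.β : ℂ) := by
    rw [← Finset.sum_filter_add_sum_filter_not Finset.univ (fun c : C => c ∈ K)]
    congr 1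
    · exact Finset.sum_subtype _ (fun c => by simp) _
    · rw [Finset.sum_congr rfl (g := fun _ => (S.β : ℂ)) fun c hc => by
        exact S.valX_singular (not_not.mp fun hh => (Finset.mem_filter.mp hc).2 ((hmem c).mpr hh)), Finset.sum_const, nsmul_eq_mul]
      congr 2
      rw [Finset.filter_not, Finset.card_sdiff_of_subset (Finset.filter_subset _ _), Finset.card_univ,
        ← Nat.card_eq_fintype_card, hidx, ← Fintype.card_subtype, ← Nat.card_eq_fintype_card]
      omega
  have hkl : (9 * (l : ℤ)) = k + 8 * S.β := by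
    rw [hl, hk, hidx] at hsumC
    push_cast at hsumC
    have hK0 : (Nat.card K : ℂ) ≠ 0 := Nat.cast_ne_zero.mpr Nat.card_pos.ne'
    have : (Nat.card K : ℂ) * (9 * (l : ℂ)) = (Nat.card K : ℂ) * ((k : ℂ) + 8 * (S.β : ℂ)) := by
      linear_combination hsumC
    exact_mod_cast mul_left_cancel₀ hK0 this
  -- the character of `K` on the fixed points of `g`, the trivial part removed
  have hcomm : ∀ (i : Subgroup.zpowers g) (s : K), Commute ((i : G)) ((s : C) : G) := fun i s => by
    obtain ⟨j, hj⟩ := Subgroup.mem_zpowers_iff.mp i.2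
    rw [← hj]
    have hh : Commute ((s : C) : G) g := Subgroup.mem_centralizer_singleton_iff.mp (s : C).2
    exact hh.symm.zpow_left j
  let φ : Subgroup.zpowers g × K →* G :=
    MonoidHom.noncommCoprod (Subgroup.zpowers g).subtype (C.subtype.comp K.subtype) hcomm
  set ν : K → ℂ := fun s => (χ ((s : C) : G) + 2 * (S.β : ℂ)) / 3 with hν
  have := Fintype.ofFinite (Subgroup.zpowers g)
  have hνsum : ∀ s : K, ∑ i : Subgroup.zpowers g, χ (φ (i, s)) = 3 * ν s := by
    intro s
    have h3 : Nat.card (Subgroup.zpowers g) = 3 := by rw [Nat.card_zpowers, hg3]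
    rw [← Finset.add_sum_erase _ _ (Finset.mem_univ (1 : Subgroup.zpowers g)),
      Finset.sum_congr rfl (g := fun _ => (S.β : ℂ)) fun i hi => ?_, Finset.sum_const,
      Finset.card_erase_of_mem (Finset.mem_univ _), Finset.card_univ, ← Nat.card_eq_fintype_card, h3]
    · rw [show φ (1, s) = ((s : C) : G) from one_mul _]
      simp [hν]
      ring
    · have hi1 : i ≠ 1 := (Finset.mem_erase.mp hi).1
      refine S.valX_singular ?_
      have hio : orderOf (i : G) = 3 := ((Nat.dvd_prime Nat.prime_three).mp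
        (hg3 ▸ orderOf_dvd_of_mem_zpowers i.2)).resolve_left
          fun e => hi1 (Subtype.ext (orderOf_eq_one_iff.mp e))
      show 3 ∣ orderOf ((i : G) * ((s : C) : G))
      rw [(hcomm i s).orderOf_mul_eq_mul_orderOf_of_coprime, hio]
      · exact dvd_mul_right 3 _
      · rw [hio]
        exact Nat.prime_three.coprime_iff_not_dvd.mpr ((hmem s).mp s.2)
  have hνnat : ∀ η : IrrCharacter K, ∃ m : ℕ, classInner ν (η : K → ℂ) = m := by
    intro η
    obtain ⟨m, hm⟩ := classInner_isCharacter (isCharacter_comp (isCharacter_irr S.X) φ)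
      (isCharacter_comp (isCharacter_irr η) (MonoidHom.snd (Subgroup.zpowers g) K))
    refine ⟨m, ?_⟩
    rw [← hm]
    simp only [classInner, MonoidHom.coe_snd, Fintype.sum_prod_type_right, ← Finset.sum_mul, ← hχ, hνsum,
      Nat.card_prod, Nat.card_zpowers, hg3]
    rw [Finset.mul_sum, Finset.mul_sum]
    refine Finset.sum_congr rfl fun s _ => ?_
    push_cast
    field_simp
  choose m hm using hνnat
  have hνcls : IsClassFunction K ν := fun a b => by
    simp only [hν]
    congr 2
    exact isClassFunction_irr S.X ((a : C) : G) ((b : C) : G)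
  have hν1 : classInner ν (oneChar K : K → ℂ) = ((k : ℂ) + 2 * (S.β : ℂ)) / 3 := by
    simp only [classInner, oneChar, map_one, mul_one, hν]
    rw [← Finset.sum_div, Finset.sum_add_distrib, hk, Finset.sum_const, Finset.card_univ, nsmul_eq_mul,
      ← Nat.card_eq_fintype_card]
    have hK0 : (Nat.card K : ℂ) ≠ 0 := Nat.cast_ne_zero.mpr Nat.card_pos.ne'
    field_simp
  set ν' : K → ℂ := ∑ η ∈ Finset.univ.erase (oneChar K), m η • (η : K → ℂ) with hν'
  have hν'char : IsCharacter K ν' :=
    isCharacter_sum _ _ fun η _ => isCharacter_natSmul (isCharacter_irr η) _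
  have hν'val : ∀ s : K, ν' s = (χ ((s : C) : G) - k) / 3 := by
    intro s
    have e := congrFun (classFun_expand hνcls) s
    rw [← Finset.add_sum_erase _ _ (Finset.mem_univ (oneChar K)), Pi.add_apply, Finset.sum_apply,
      Pi.smul_apply, smul_eq_mul, hν1] at e
    rw [hν', Finset.sum_apply]
    simp only [Pi.smul_apply, smul_eq_mul, hm, nsmul_eq_mul, Pi.natCast_apply, Pi.mul_apply] at e ⊢
    rw [show (oneChar K : K → ℂ) s = 1 from rfl, mul_one] at e
    simp only [hν] at e
    linear_combination -e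
  obtain ⟨d, hd⟩ : ∃ d : ℕ, ν' 1 = d := by
    refine ⟨∑ η ∈ Finset.univ.erase (oneChar K), m η * charDegree (η : K → ℂ), ?_⟩
    rw [hν', Finset.sum_apply]
    push_cast
    exact Finset.sum_congr rfl fun η _ => by
      simp [(charDegree_eq η).1]
  have hdk : 3 * d + k = charDegree (S.X : G → ℂ) := by
    have e := hν'val 1
    rw [hd, hχ] at e
    simp only [OneMemClass.coe_one, (charDegree_eq S.X).1] at e
    have : ((3 * d + k : ℕ) : ℂ) = (charDegree (S.X : G → ℂ) : ℂ) := by
      push_cast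
      linear_combination 3 * e
    exact_mod_cast this
  refine ⟨d, k, l, hdk, hkl, ?_⟩
  have hK2 : IsPGroup 2 K := fun s => by
    obtain ⟨j, hj⟩ := h2 _ (s : C).2 ((hmem s).mp s.2)
    rw [Subgroup.orderOf_coe, Subgroup.orderOf_coe] at hj
    exact ⟨j, by rw [← hj, pow_orderOf_eq_one]⟩
  obtain ⟨D, hD, hbd⟩ := SchurBound.exists_bound (p := 2) hν'char hd hK2 fun s a ha => by
    obtain ⟨n, hn', hna⟩ := exists_coprime_lift (G := G) Nat.prime_two ha
    rw [hν'val, hν'val]
    congr 2
    show χ (((s : C) : G) ^ a) = χ ((s : C) : G)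
    refine Eq.trans ?_ (hrat n hn' _)
    congr 1
    refine pow_eq_pow_iff_modEq.mpr (hna.of_dvd ?_).symm
    obtain ⟨j, hj⟩ := h2 _ (s : C).2 ((hmem s).mp s.2)
    rw [hj]
    exact Nat.pow_dvd_pow 2 ((Nat.prime_two.pow_dvd_iff_le_factorization Nat.card_pos.ne').mp
      (hj ▸ orderOf_dvd_natCard _))
  have hDbot : D = ⊥ := (Subgroup.eq_bot_iff_forall _).mpr fun s hs => by
    have e := hD s hs
    rw [hν'val, hν'val, div_left_inj' (by norm_num : (3 : ℂ) ≠ 0), sub_left_inj] at e
    simp only [OneMemClass.coe_one] at e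
    exact Subtype.ext (Subtype.ext (eq_one_of_value' S.hX1 e))
  obtain ⟨j, hj⟩ := IsPGroup.iff_card.mp hK2
  rw [hDbot, Subgroup.index_bot, hj, Nat.prime_two.factorization_pow, Finsupp.single_eq_same] at hbd
  rw [hj]
  exact Nat.pow_dvd_pow 2 hbd

end FreeShape

end CfsgLib.NineTwoPrime
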