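import Cfsg.Agent.Lib.Block.Rank
import Cfsg.Agent.Lib.Block.PrincipalResidual
import Cfsg.Agent.Lib.Block.Cyclic.PrincipalSq
import Cfsg.Agent.Lib.Char.Virtual

/-!
# The principal block over a normal complement of a central subgroup of order three
-/

set_option autoImplicit false
set_option linter.unusedSectionVars false
set_option linter.style.haveILetI false

namespace CfsgLib.NineTwoPrime

open scoped ComplexConjugate
open Cfsg CfsgLib.Char CfsgLib.Block

universe u

variable {C : Type u} [Group C] [Fintype C] {a : C} {N : Subgroup C} [N.Normal]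

theorem central_split (ha : a ∈ Subgroup.center C) (ha3 : a ^ 3 = 1) (haN : a ∉ N) (hidx : N.index = 3) :
    Function.Bijective (fun z : Fin 3 × N => a ^ (z.1 : ℕ) * (z.2 : C)) := by
  classical
  have hcard : Nat.card (Fin 3 × N) = Nat.card C := by
    rw [Nat.card_prod, Nat.card_eq_fintype_card (α := Fin 3), Fintype.card_fin, ← N.index_mul_card, hidx]
  refine (Nat.bijective_iff_injective_and_card _).mpr ⟨?_, hcard⟩
  rintro ⟨i, x⟩ ⟨j, y⟩ e
  simp only at e
  have hkey : ∀ k : ℕ, a ^ k ∈ N → k % 3 = 0 := by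
    intro k hk
    rw [← Nat.div_add_mod k 3, pow_add, pow_mul, ha3, one_pow, one_mul] at hk
    have := Nat.mod_lt k (show 0 < 3 by norm_num)
    interval_cases hm : k % 3
    · rfl
    · exact absurd (by simpa using hk) haN
    · refine absurd ?_ haN
      have := mul_mem hk hk
      rwa [← pow_add, show 2 + 2 = 3 + 1 by norm_num, pow_succ, ha3, one_mul] at this
  have hmem : a ^ ((i : ℕ) + (3 - (j : ℕ))) ∈ N := by
    have h2 : a ^ (i : ℕ) = a ^ (j : ℕ) * ((y : C) * (x : C)⁻¹) := by
      rw [← mul_assoc, ← e, mul_inv_cancel_right]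
    rw [add_comm, pow_add, h2, ← mul_assoc, ← pow_add, show 3 - (j : ℕ) + j = 3 by omega, ha3, one_mul]
    exact mul_mem y.2 (inv_mem x.2)
  have hij : i = j := Fin.ext (by have := hkey _ hmem; omega)
  subst hij
  exact Prod.ext rfl (Subtype.ext (mul_left_cancel e))

variable [Fintype N] [Fintype (IrrCharacter C)] [Fintype (IrrCharacter N)] {M : Ideal AlgInt} [M.IsMaximal]

open scoped Classical in
/-- Sums of products over the principal block of `C` in terms of that of `N`. -/
theorem sum_central_block (hM : IsPModular 3 M) (ha : a ∈ Subgroup.center C) (ha3 : a ^ 3 = 1)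
    (haN : a ∉ N) (hidx : N.index = 3) (x y : N) :
    ∑ᶠ ψ ∈ principalBlock M C, (ψ : C → ℂ) (x : C) * conj ((ψ : C → ℂ) (y : C)) =
      3 * ∑ η ∈ Finset.univ.filter (· ∈ principalBlock M N), (η : N → ℂ) x * conj ((η : N → ℂ) y) := by
  have hbij := central_split ha ha3 haN hidx
  have hNC : (Nat.card C : ℂ) = 3 * Nat.card N := by
    rw [← N.index_mul_card, hidx]; push_cast; ring
  have hN0 : (Nat.card N : ℂ) ≠ 0 := Nat.cast_ne_zero.mpr Nat.card_pos.ne'
  have hirr : ∀ ψ : IrrCharacter C, IsIrrCharacter N fun n : N => (ψ : C → ℂ) n := by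
    intro ψ
    obtain ⟨ω, hω, hmul⟩ := Cyclic.irr_central_mul ha ha3 ψ
    have hnorm : conj ω * ω = 1 := by
      rw [mul_comm, Complex.mul_conj', Complex.norm_eq_one_of_pow_eq_one hω (by norm_num)]
      norm_num
    have hpow : ∀ (i : ℕ) (z : C), (ψ : C → ℂ) (a ^ i * z) = ω ^ i * (ψ : C → ℂ) z := by
      intro i
      induction i with
      | zero => simp
      | succ i ih => intro z; rw [pow_succ, mul_assoc, ih, hmul, pow_succ]; ring
    refine isIrr_of_norm_one (isGeneralizedCharacter_of_isCharacter
      (isCharacter_comp (isCharacter_irr ψ) N.subtype)) ?_ ?_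
    · have h1 := classInner_irr_self ψ
      simp only [classInner] at h1 ⊢
      rw [← Fintype.sum_bijective _ hbij (fun z : Fin 3 × N => (ψ : C → ℂ) (z.2 : C) * conj ((ψ : C → ℂ) (z.2 : C)))
        _ fun z => by
          simp only [hpow, map_mul, map_pow]
          calc _ = (conj ω * ω) ^ (z.1 : ℕ) * ((ψ : C → ℂ) (z.2 : C) * conj ((ψ : C → ℂ) (z.2 : C))) := by
                rw [hnorm, one_pow, one_mul]
            _ = _ := by ring,
        Fintype.sum_prod_type] at h1
      simp only [Finset.sum_const, Finset.card_univ, Fintype.card_fin, hNC, nsmul_eq_mul] at h1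
      rw [← h1]
      push_cast
      field_simp
    · show 0 < ((ψ : C → ℂ) ((1 : N) : C)).re
      rw [OneMemClass.coe_one, (charDegree_eq ψ).1, Complex.natCast_re]
      exact_mod_cast (charDegree_eq ψ).2.bot_lt
  let r : IrrCharacter C → IrrCharacter N := fun ψ => ⟨_, hirr ψ⟩
  have hregN : ∀ g : C, ¬ 3 ∣ orderOf g → g ∈ N := by
    intro g hg
    rw [← QuotientGroup.eq_one_iff (N := N)]
    have h3 : orderOf (g : C ⧸ N) ∣ 3 := hidx ▸ orderOf_dvd_natCard _
    exact orderOf_eq_one_iff.mp (((Nat.dvd_prime Nat.prime_three).mp h3).resolve_right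
      fun e => hg (e ▸ orderOf_map_dvd (QuotientGroup.mk' N) g))
  have hiff : ∀ ψ : IrrCharacter C, ψ ∈ principalBlock M C ↔ r ψ ∈ principalBlock M N := fun ψ =>
    mem_principalBlock_iff_constituent hM N hregN (by
      show classInner (r ψ : N → ℂ) (r ψ : N → ℂ) ≠ 0
      rw [classInner_irr_self]; exact one_ne_zero)
  have hfib : ∀ η : IrrCharacter N,
      ((Finset.univ.filter fun ψ : IrrCharacter C => r ψ = η).card : ℂ) = 3 := by
    intro η
    set F : N → ℂ := fun n => ∑ ψ : IrrCharacter C, (ψ : C → ℂ) (n : C) * conj ((ψ : C → ℂ) 1) with hF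
    have hval : classInner F (η : N → ℂ) = (Nat.card N : ℂ)⁻¹ * ((Nat.card C : ℂ) * conj ((η : N → ℂ) 1)) := by
      rw [classInner, Finset.sum_eq_single (1 : N)]
      · simp only [hF]
        rw [sum_irr_mul_conj, if_pos (by rw [OneMemClass.coe_one]), OneMemClass.coe_one]
        congr 2
        rw [show Subgroup.centralizer ({(1 : C)} : Set C) = ⊤ from eq_top_iff.mpr fun w _ =>
          Subgroup.mem_centralizer_singleton_iff.mpr (by simp), Subgroup.card_top]
      · intro n _ hn
        simp only [hF]
        rw [sum_irr_mul_conj, if_neg (fun e => hn (Subtype.ext (isConj_one_left.mp e))), zero_mul]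
      · exact fun h => absurd (Finset.mem_univ _) h
    have hexp : classInner F (η : N → ℂ) =
        ((Finset.univ.filter fun ψ : IrrCharacter C => r ψ = η).card : ℂ) * conj ((η : N → ℂ) 1) := by
      rw [show F = ∑ ψ : IrrCharacter C, conj ((ψ : C → ℂ) 1) • (r ψ : N → ℂ) from funext fun n => by
          simp only [hF, Finset.sum_apply, Pi.smul_apply, smul_eq_mul]
          exact Finset.sum_congr rfl fun ψ _ => mul_comm _ _,
        classInner_sum_left]
      simp only [classInner_smul_left, classInner_irr, mul_ite, mul_one, mul_zero]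
      rw [← Finset.sum_filter, Finset.sum_congr rfl (g := fun _ => conj ((η : N → ℂ) 1)) fun ψ hψ => ?_,
        Finset.sum_const, nsmul_eq_mul]
      rw [← (Finset.mem_filter.mp hψ).2]
      show conj ((ψ : C → ℂ) 1) = conj ((ψ : C → ℂ) ((1 : N) : C))
      rw [OneMemClass.coe_one]
    rw [hval, hNC] at hexp
    have h10 : conj ((η : N → ℂ) 1) ≠ 0 := fun e => irr_one_ne_zero η (by simpa using e)
    refine mul_right_cancel₀ h10 (hexp.symm.trans ?_)
    field_simp
  rw [finsum_mem_eq_toFinset_sum,
    show (principalBlock M C).toFinset = Finset.univ.filter (fun ψ => r ψ ∈ principalBlock M N) from by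
      ext ψ; simp [hiff ψ],
    ← Finset.sum_fiberwise_of_maps_to (t := Finset.univ.filter (· ∈ principalBlock M N)) (g := r)
      (fun ψ hψ => by simpa using hψ), Finset.mul_sum]
  refine Finset.sum_congr rfl fun η hη => ?_
  rw [Finset.filter_filter, Finset.sum_congr rfl (g := fun _ => (η : N → ℂ) x * conj ((η : N → ℂ) y))
      fun ψ hψ => by rw [← (Finset.mem_filter.mp hψ).2.2],
    Finset.sum_const, nsmul_eq_mul]
  congr 1
  rw [← hfib η]
  congr 2
  ext ψ
  simp only [Finset.mem_filter, Finset.mem_univ, true_and]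
  exact ⟨fun h => h.2, fun h => ⟨h ▸ (Finset.mem_filter.mp hη).2, h⟩⟩

/-- An irreducible character vanishing at every singular element, other than the trivial one, is not
in the principal block. -/
theorem not_mem_of_vanish {p : ℕ} (hM : IsPModular p M) {θ : IrrCharacter C} (hθ : θ ≠ oneChar C)
    (hvan : ∀ g : C, p ∣ orderOf g → (θ : C → ℂ) g = 0) : θ ∉ principalBlock M C := by
  classical
  have := Fintype.ofFinite (ConjClasses C)
  intro hb
  refine omegaBar_regBar_ne_zero hM hb ?_
  obtain ⟨R, hR, hRres⟩ := exists_regN_lift (p := p) (M := M) θ (oneChar C)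
  have h1 := classInner_irr θ (oneChar C)
  rw [if_neg hθ] at h1
  have hreg : regInner p θ (oneChar C) = 0 := by
    rw [← h1, regInner]
    simp only [classInner, regFun]
    congr 1
    refine Finset.sum_congr rfl fun g _ => ?_
    split_ifs with hg
    · rw [hvan g hg]
    · rfl
  rw [hreg, mul_zero] at hR
  rw [omegaBar_regBar_eq_regN, ← hRres,
    show R = 0 from Subtype.ext ((mul_eq_zero.mp hR).resolve_right (irr_one_ne_zero θ)), map_zero]

/-- Automorphisms permute the principal block. -/
theorem comp_mem_principalBlock {p : ℕ} (hM : IsPModular p M) (φ : C ≃* C) {χ : IrrCharacter C}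
    (hχ : χ ∈ principalBlock M C) :
    (⟨_, isIrrCharacter_comp_surjective χ.2 φ.toMonoidHom φ.surjective⟩ : IrrCharacter C) ∈
      principalBlock M C := by
  classical
  have := Fintype.ofFinite (ConjClasses C)
  set χ' : IrrCharacter C := ⟨_, isIrrCharacter_comp_surjective χ.2 φ.toMonoidHom φ.surjective⟩
  obtain ⟨R, hR, hRres⟩ := exists_regN_lift (p := p) (M := M) χ (oneChar C)
  obtain ⟨R', hR', hR'res⟩ := exists_regN_lift (p := p) (M := M) χ' (oneChar C)
  have h1 : (χ' : C → ℂ) 1 = (χ : C → ℂ) 1 := congrArg (χ : C → ℂ) (map_one φ)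
  have hRR : R' = R := by
    refine Subtype.ext (mul_right_cancel₀ (Char.irr_one_ne_zero χ) ?_)
    rw [hR, ← h1, hR', card_mul_regInner, card_mul_regInner]
    simp only [oneChar, mul_one]
    refine Finset.sum_equiv φ.toEquiv (fun x => ?_) fun x _ => rfl
    simp [MulEquiv.orderOf_eq]
  rw [mem_principalBlock_iff hM, omegaBar_regBar_eq_regN] at hχ ⊢
  rwa [← hR'res, hRR, hRres]

end CfsgLib.NineTwoPrime
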