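import Cfsg.Agent.Lib.SmallSimple.NineTwoPrime.Classify

/-!
# The principal 3-block in the free case: six characters
-/

set_option autoImplicit false
set_option linter.unusedSectionVars false
set_option linter.style.haveILetI false

namespace CfsgLib.NineTwoPrime

open scoped ComplexConjugate
open Cfsg CfsgLib.Char CfsgLib.Block CfsgLib.Block.AbelianFree

universe u

variable {G : Type u} [Group G] [Fintype G]

/-- The principal block in the free case. -/
structure FreeShape (P : Sylow 3 G) (M : Ideal AlgInt) where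
  X : IrrCharacter G
  β : ℤ
  Y : Finset (IrrCharacter G)
  hX : X ∈ principalBlock M G
  hX1 : X ≠ oneChar G
  hβ : β = 1 ∨ β = -1
  hY : ∀ θ ∈ Y, θ ∈ principalBlock M G ∧ θ ≠ oneChar G ∧ θ ≠ X
  cover : ∀ θ ∈ principalBlock M G, θ = oneChar G ∨ θ = X ∨ θ ∈ Y
  nonempty : Y.Nonempty
  valX : ∀ z y : G, IsPPart 3 z y → y ∈ (P : Subgroup G) → y ≠ 1 → (X : G → ℂ) z = (β : ℂ)
  valY : ∀ z y : G, IsPPart 3 z y → y ∈ (P : Subgroup G) → y ≠ 1 →
    ∑ θ ∈ Y, (θ : G → ℂ) z = -(β : ℂ)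
  reg : ∀ θ ∈ Y, ∀ z : G, ¬ 3 ∣ orderOf z → (θ : G → ℂ) z = (β : ℂ) + (X : G → ℂ) z
  degY : ∀ θ ∈ Y, (charDegree (θ : G → ℂ) : ℤ) = charDegree (X : G → ℂ) + β
  degMod : (9 : ℤ) ∣ (charDegree (X : G → ℂ) : ℤ) - β

variable [IsSimpleGroup G] {P : Sylow 3 G} {M : Ideal AlgInt}

theorem exists_freeShape (hG : ¬ IsMulCommutative G) (hM : IsPModular 3 M) (h : Free P)
    (h9 : Nat.card P = 9) (h2 : (cen P).relIndex (nor P) = 2) : Nonempty (FreeShape P M) := by
  classical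
  have := hM.2.1
  have := Fintype.ofFinite ↥(P : Subgroup G)
  have := Fintype.ofFinite (IrrCharacter G)
  have : Finite (Lin P) := inferInstance
  have := Fintype.ofFinite (Lin P)
  have hm : (cen P).relIndex (nor P) + 1 < Nat.card P := by rw [h2, h9]; norm_num
  have hP1 : Nat.card P ≠ 1 := by omega
  obtain ⟨E⟩ := h.exists_coherent hM hm
  have : Nontrivial (Lin P) := Fintype.one_lt_card_iff_nontrivial.mp (by rw [h.card_lin]; omega)
  obtain ⟨a, ha⟩ := exists_ne (1 : Lin P)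
  have hY4 : E.Y.card = 4 := by
    have := E.card_Y h
    rw [h2, h9] at this
    omega
  have hn := E.norm_eq h hM hP1 ha
  rw [h2, hY4] at hn
  push_cast at hn
  have h1X := E.one_mem_X h hM hm
  have hb1 : E.base (oneChar G) = 1 := E.base_one h hM hm
  have hsq : ∀ θ ∈ E.X, 1 ≤ E.base θ ^ 2 := fun θ hθ =>
    Int.add_one_le_iff.mpr (lt_of_le_of_ne (sq_nonneg _) (pow_ne_zero 2 (E.base_ne_zero h hM hP1 hθ)).symm)
  have hS1 : (1 : ℤ) ≤ ∑ θ ∈ E.X, E.base θ ^ 2 :=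
    (hsq _ h1X).trans (Finset.single_le_sum (fun i _ => sq_nonneg (E.base i)) h1X)
  have hd0 : E.base (E.ζ a) = 0 := by
    by_contra h0
    have hd2 : 1 ≤ E.base (E.ζ a) ^ 2 :=
      Int.add_one_le_iff.mpr (lt_of_le_of_ne (sq_nonneg _) (pow_ne_zero 2 h0).symm)
    nlinarith [sq_nonneg (E.base (E.ζ a) - E.δ)]
  have h0 : ∀ ψ, ψ ≠ 1 → E.base (E.ζ ψ) = 0 := fun ψ hψ => (E.base_eq h hM hP1 hψ ha).trans hd0
  have hd : E.δ ^ 2 = 1 := by rcases E.sign with e | e <;> rw [e] <;> norm_num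
  rw [hd0, zero_sub, neg_sq, hd, ← Finset.add_sum_erase _ _ h1X, hb1] at hn
  have hrest : ∑ θ ∈ E.X.erase (oneChar G), E.base θ ^ 2 = 1 := by linarith
  obtain ⟨X, hXe, huniq⟩ : ∃ X ∈ E.X.erase (oneChar G), ∀ θ ∈ E.X.erase (oneChar G), θ = X := by
    obtain ⟨X, hX⟩ : (E.X.erase (oneChar G)).Nonempty := by
      rw [Finset.nonempty_iff_ne_empty]
      intro he
      rw [he, Finset.sum_empty] at hrest
      exact one_ne_zero hrest.symm
    refine ⟨X, hX, fun θ hθ => by_contra fun hne => ?_⟩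
    have hs := Finset.sum_le_sum_of_subset_of_nonneg (f := fun i => E.base i ^ 2)
      (show ({θ, X} : Finset _) ⊆ E.X.erase (oneChar G) by
        simp [Finset.insert_subset_iff, hθ, hX]) fun i _ _ => sq_nonneg _
    rw [Finset.sum_pair hne, hrest] at hs
    linarith [hsq θ (Finset.mem_of_mem_erase hθ), hsq X (Finset.mem_of_mem_erase hX)]
  obtain ⟨hX1, hXX⟩ := Finset.mem_erase.mp hXe
  have hXer : E.X.erase (oneChar G) = {X} := Finset.eq_singleton_iff_unique_mem.mpr ⟨hXe, huniq⟩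
  rw [hXer, Finset.sum_singleton] at hrest
  have hβ : E.base X = 1 ∨ E.base X = -1 := sq_eq_one_iff.mp hrest
  set β := E.base X with hβdef
  have hXB : X ∈ principalBlock M G := (E.mem_X.mp hXX).1
  have hrel : ∀ θ ∈ E.Y, ∀ z : G, ¬ 3 ∣ orderOf z →
      (θ : G → ℂ) z = (E.δ : ℂ) * (1 + (β : ℂ) * (X : G → ℂ) z) := by
    intro θ hθ z hz
    obtain ⟨b, hb, rfl⟩ := E.mem_Y.mp hθ
    have e := E.regular_relation h hM hP1 hb hz
    rw [h0 b hb, ← Finset.add_sum_erase _ _ h1X, hXer, Finset.sum_singleton, hb1, ← hβdef] at e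
    simp only [Int.cast_zero, mul_zero, zero_sub, Int.cast_one, one_mul, oneChar] at e
    have hdd : (E.δ : ℂ) * E.δ = 1 := by rw [← sq]; exact_mod_cast hd
    linear_combination (-(E.δ : ℂ)) * e - (E.ζ b : G → ℂ) z * hdd
  have hYne : E.Y.Nonempty := ⟨_, E.mem_Y.mpr ⟨a, ha, rfl⟩⟩
  have hθY : ∀ θ ∈ E.Y, θ ∈ principalBlock M G ∧ θ ≠ oneChar G ∧ θ ≠ X := fun θ hθ =>
    ⟨(mem_blk M).mp (E.Y_subset hθ), fun e => E.one_notMem_Y h hM hm (e ▸ hθ), fun e => by
      obtain ⟨b, hb, hbe⟩ := E.mem_Y.mp hθ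
      exact (E.mem_X.mp hXX).2 b hb (hbe.trans e)⟩
  have hf2 : 1 < charDegree (X : G → ℂ) := one_lt_degree hG hX1
  have hdeg : ∀ θ ∈ E.Y, (charDegree (θ : G → ℂ) : ℤ) = E.δ * (1 + β * charDegree (X : G → ℂ)) := by
    intro θ hθ
    have := hrel θ hθ 1 (by simp)
    rw [(charDegree_eq θ).1, (charDegree_eq X).1] at this
    exact_mod_cast this
  have hδβ : E.δ = β := by
    obtain ⟨θ, hθ⟩ := hYne
    have h5 := hdeg θ hθ
    have h6 := one_lt_degree hG (hθY θ hθ).2.1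
    rcases E.sign with e | e <;> rcases hβ with e' | e' <;> rw [e, e'] at h5 <;>
      rw [e, e'] <;> omega
  have hββ : (β : ℂ) * β = 1 := by rcases hβ with e | e <;> rw [e] <;> norm_num
  refine ⟨{ X := X, β := β, Y := E.Y, hX := hXB, hX1 := hX1, hβ := hβ, hY := hθY
            cover := fun θ hθ => ?_, nonempty := hYne
            valX := fun z y hz hy hy1 => E.value_X h hM hXX hz hy hy1
            valY := fun z y hz hy hy1 => ?_
            reg := fun θ hθ z hz => ?_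
            degY := fun θ hθ => ?_
            degMod := ?_ }⟩
  · by_cases hY : θ ∈ E.Y
    · exact Or.inr (Or.inr hY)
    · have hθX : θ ∈ E.X := by
        rw [Coherent.X, Finset.mem_sdiff]
        exact ⟨(mem_blk M).mpr hθ, hY⟩
      by_cases h1 : θ = oneChar G
      · exact Or.inl h1
      · exact Or.inr (Or.inl (huniq θ (Finset.mem_erase.mpr ⟨h1, hθX⟩)))
  · rw [Finset.sum_congr rfl fun θ hθ => h.value_eq hM (hθY θ hθ).1 hz hy hy1,
      ← hδβ]
    exact E.sum_Y_value h h0 (y := ⟨y, hy⟩) fun e => hy1 (congrArg Subtype.val e)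
  · rw [hrel θ hθ z hz, hδβ]
    linear_combination (X : G → ℂ) z * hββ
  · rw [hdeg θ hθ, hδβ]
    rcases hβ with e | e <;> rw [e] <;> ring
  · have e := E.degree_eq h hXB
    rw [Finset.filter_eq_empty_iff.mpr fun ψ _ hψ => (E.mem_X.mp hXX).2 ψ hψ.1 hψ.2, Finset.card_empty,
      h9, ← hβdef] at e
    exact ⟨E.c X, by push_cast at e; linarith⟩

end CfsgLib.NineTwoPrime
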