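import Cfsg.Agent.Lib.SmallSimple.NineTwoPrime.Setup
import Cfsg.Agent.Lib.SmallSimple.NineTwoPrime.CentralSplit
import Cfsg.Agent.Lib.Block.PairSolvable.Basic
import Cfsg.Agent.Lib.Block.LinearTwist

/-!
# The four-group automizer: the local data at a reflection axis
-/

set_option autoImplicit false
set_option linter.unusedSectionVars false
set_option linter.style.haveILetI false

namespace CfsgLib.NineTwoPrime

open scoped ComplexConjugate
open Cfsg CfsgLib.Char CfsgLib.Block CfsgLib.Block.AbelianFree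

universe u

variable {G : Type u} [Group G] [Fintype G] [IsSimpleGroup G] {P : Sylow 3 G}

/-- An inner product of a section function is a rational integer when it is fixed by inversion. -/
theorem section_int {G : Type u} [Group G] [Fintype G] {N : Type u} [Group N] [Fintype N] {a : G} (ha3 : a ^ 3 = 1) (ha1 : a ≠ 1)
    (ι : N →* G) (hc : ∀ x, Commute a (ι x)) {χ : G → ℂ} (hχ : IsCharacter G χ) {η : N → ℂ}
    (hη : IsCharacter N η)
    (hsym : classInner (fun x => χ (a ^ 2 * ι x)) η = classInner (fun x => χ (a * ι x)) η) :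
    ∃ k : ℤ, classInner (fun x => χ (a * ι x)) η = (k : ℂ) := by
  classical
  set Z := Subgroup.zpowers a
  have ho : orderOf a = 3 := orderOf_eq_prime ha3 ha1
  have : Fintype Z := Fintype.ofFinite _
  have hcom : ∀ (z : Z) (x : N), Commute (z : G) (ι x) := fun z x => by
    obtain ⟨j, hj⟩ := Subgroup.mem_zpowers_iff.mp z.2
    rw [← hj]
    exact (hc x).zpow_left j
  let φ : Z × N →* G := MonoidHom.noncommCoprod Z.subtype ι hcom
  set g : Z := ⟨a, Subgroup.mem_zpowers a⟩ with hg
  have hng : g ∉ commutator Z := by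
    intro h
    have : commutator Z = ⊥ := by
      rw [commutator_def, Subgroup.commutator_eq_bot_iff_le_centralizer]
      intro z _
      exact Subgroup.mem_centralizer_iff.mpr fun w _ => by
        have hz := (IsCyclic.isMulCommutative (α := Z)).is_comm.comm w z
        exact hz
    rw [this, Subgroup.mem_bot] at h
    exact ha1 (congrArg Subtype.val h)
  obtain ⟨lam, hlam⟩ := exists_linear_ne_one hng
  set ω : ℂ := (lam g : ℂ) with hω
  have hg3 : g ^ 3 = 1 := Subtype.ext (by simpa [hg] using ha3)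
  have hω3 : ω ^ 3 = 1 := by rw [hω, ← Units.val_pow_eq_pow_val, ← map_pow, hg3, map_one, Units.val_one]
  have hω1 : ω ≠ 1 := fun e => hlam (Units.ext e)
  have hω2 : ω ^ 2 + ω + 1 = 0 := by
    have h : (ω - 1) * (ω ^ 2 + ω + 1) = 0 := by linear_combination hω3
    exact (mul_eq_zero.mp h).resolve_left (sub_ne_zero.mpr hω1)
  have hnorm : conj ω = ω ^ 2 := by
    have h1 : ‖ω‖ = 1 := Complex.norm_eq_one_of_pow_eq_one hω3 (by norm_num)
    have h2 : ω * conj ω = 1 := by rw [Complex.mul_conj', h1]; norm_num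
    calc conj ω = ω ^ 3 * conj ω := by rw [hω3, one_mul]
      _ = ω ^ 2 * (ω * conj ω) := by ring
      _ = ω ^ 2 := by rw [h2, mul_one]
  have hbij : Function.Bijective (fun i : Fin 3 => g ^ (i : ℕ)) := by
    refine (Nat.bijective_iff_injective_and_card _).mpr ⟨fun i j e => Fin.ext ?_, ?_⟩
    · have e' : a ^ (i : ℕ) = a ^ (j : ℕ) := congrArg Subtype.val e
      exact pow_injOn_Iio_orderOf (by simp [ho, i.2]) (by simp [ho, j.2]) e'
    · rw [Nat.card_eq_fintype_card, Fintype.card_fin, Nat.card_zpowers, ho]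
  have hinner : ∀ μ : Z → ℂ, classInner (fun z : Z × N => χ (φ z)) (fun z => μ z.1 * η z.2) =
      3⁻¹ * (conj (μ 1) * classInner (fun x => χ (ι x)) η +
        (conj (μ g) + conj (μ (g ^ 2))) * classInner (fun x => χ (a * ι x)) η) := by
    intro μ
    have h : classInner (fun z : Z × N => χ (φ z)) (fun z => μ z.1 * η z.2) =
        3⁻¹ * ∑ i : Fin 3, conj (μ (g ^ (i : ℕ))) * classInner (fun x => χ (a ^ (i : ℕ) * ι x)) η := by
      simp only [classInner, Fintype.sum_prod_type, Nat.card_prod, Nat.card_zpowers, ho, Z]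
      rw [← Fintype.sum_bijective _ hbij _ _ fun _ => rfl, Finset.mul_sum, Finset.mul_sum]
      refine Finset.sum_congr rfl fun i _ => ?_
      rw [Finset.mul_sum, Finset.mul_sum, Finset.mul_sum, Finset.mul_sum]
      refine Finset.sum_congr rfl fun x _ => ?_
      rw [show φ (g ^ (i : ℕ), x) = a ^ (i : ℕ) * ι x from rfl, map_mul]
      push_cast
      field_simp
    rw [h, Fin.sum_univ_three]
    simp only [Fin.val_zero, Fin.val_one, Fin.val_two, pow_zero, pow_one, one_mul, hsym]
    ring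
  have hφ := isCharacter_comp hχ φ
  obtain ⟨m₀, hm₀⟩ := classInner_isCharacter hφ (isCharacter_mul
    (isCharacter_comp (isCharacter_of_isIrr (oneChar Z).2) (MonoidHom.fst Z N))
    (isCharacter_comp hη (MonoidHom.snd Z N)))
  obtain ⟨m₁, hm₁⟩ := classInner_isCharacter hφ (isCharacter_mul
    (isCharacter_comp (isCharacter_of_isIrr (isIrrCharacter_lin lam)) (MonoidHom.fst Z N))
    (isCharacter_comp hη (MonoidHom.snd Z N)))
  simp only [MonoidHom.coe_fst, MonoidHom.coe_snd] at hm₀ hm₁
  have e0 := (hinner (oneChar Z : Z → ℂ)).symm.trans hm₀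
  have e1 := (hinner fun z => (lam z : ℂ)).symm.trans hm₁
  simp only [oneChar, map_one] at e0
  simp only [map_one, Units.val_one, map_pow, Units.val_pow_eq_pow_val, ← hω, hnorm, one_mul] at e1
  refine ⟨(m₀ : ℤ) - m₁, ?_⟩
  push_cast
  rw [← e0, ← e1]
  have h4 : ω ^ 2 + (ω ^ 2) ^ 2 = -1 := by
    have : (ω ^ 2) ^ 2 = ω := by rw [show (ω ^ 2) ^ 2 = ω ^ 3 * ω by ring, hω3, one_mul]
    rw [this]
    linear_combination hω2
  rw [h4]
  ring

namespace Klein

variable (D : Klein P)

theorem commute_P {x y : G} (hP9 : Nat.card P = 9) (hx : x ∈ (P : Subgroup G)) (hy : y ∈ (P : Subgroup G)) :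
    Commute x y :=
  congrArg Subtype.val ((comm_of_nine P hP9).is_comm.comm ⟨x, hx⟩ ⟨y, hy⟩)

/-- Exchange of the two axes. -/
def swap (h9 : Nat.card P = 9) : Klein P where
  a := D.b
  b := D.a
  s := D.u
  u := D.s
  ha := D.hb
  hb := D.ha
  ha1 := D.hb1
  hb1 := D.ha1
  hab := by rw [(commute_P h9 D.hb D.ha).eq]; exact D.hab
  span x hx := by
    obtain ⟨i, j, hi, hj, rfl⟩ := D.span x hx
    exact ⟨j, i, hj, hi, ((commute_P h9 D.hb D.ha).pow_pow j i).eq.symm⟩
  inj i j k l hi hj hk hl e := by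
    rw [((commute_P h9 D.hb D.ha).pow_pow i j).eq, ((commute_P h9 D.hb D.ha).pow_pow k l).eq] at e
    exact (D.inj j i l k hj hi hl hk e).symm
  exp := D.exp
  hs := D.hu
  hsa := D.hub
  hsb := D.hua
  hu := D.hs
  hua := D.hsb
  hub := D.hsa
  diag n hn := (D.diag n hn).symm

theorem swap_ab (h9 : Nat.card P = 9) : (D.swap h9).a * (D.swap h9).b = D.a * D.b :=
  (commute_P h9 D.hb D.ha).eq

include D in
theorem inv_eq_sq {x : G} (hx : x ∈ (P : Subgroup G)) : x⁻¹ = x ^ 2 :=
  inv_eq_of_mul_eq_one_left (by rw [← pow_succ]; exact D.exp x hx)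

theorem ab_mem : D.a * D.b ∈ (P : Subgroup G) := mul_mem D.ha D.hb

theorem nor_fix_ab {n : G} (h9 : Nat.card P = 9) (hn : n ∈ nor P)
    (h : n * (D.a * D.b) * n⁻¹ = D.a * D.b) : n ∈ cen P := by
  rw [← conj_mul] at h
  obtain ⟨hA, hB⟩ := D.diag n hn
  have key : ∀ i j : ℕ, i < 3 → j < 3 → D.a ^ i * D.b ^ j = D.a * D.b → i = 1 ∧ j = 1 := fun i j hi hj e =>
    D.inj i j 1 1 hi hj (by norm_num) (by norm_num) (by rwa [pow_one, pow_one])
  have hAB : n * D.a * n⁻¹ = D.a ∧ n * D.b * n⁻¹ = D.b := by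
    rcases hA with e1 | e1 <;> rcases hB with e2 | e2 <;> rw [e1, e2] at h
    · exact ⟨e1, e2⟩
    · rw [D.inv_eq_sq D.hb, ← pow_one D.a] at h
      have := key 1 2 (by norm_num) (by norm_num) (by rwa [pow_one] at h ⊢)
      omega
    · rw [D.inv_eq_sq D.ha] at h
      have := key 2 1 (by norm_num) (by norm_num) (by rwa [pow_one])
      omega
    · rw [D.inv_eq_sq D.ha, D.inv_eq_sq D.hb] at h
      have := key 2 2 (by norm_num) (by norm_num) h
      omega
  refine Subgroup.mem_centralizer_iff.mpr fun x hx => ?_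
  obtain ⟨i, j, -, -, rfl⟩ := D.span x hx
  have h1 : Commute n D.a := mul_inv_eq_iff_eq_mul.mp hAB.1
  have h2 : Commute n D.b := mul_inv_eq_iff_eq_mul.mp hAB.2
  exact ((h1.pow_right i).mul_right (h2.pow_right j)).symm

theorem fusion_nor {h9 : Nat.card P = 9} {x g : G} (hx : x ∈ (P : Subgroup G))
    (hgx : g * x * g⁻¹ ∈ (P : Subgroup G)) : ∃ n ∈ nor P, n * x * n⁻¹ = g * x * g⁻¹ := by
  have := comm_of_nine P h9
  obtain ⟨n, hn, e⟩ := Sylow.conj_eq_normalizer_conj_of_mem P x g⁻¹ hx (by rw [inv_inv]; exact hgx)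
  exact ⟨n⁻¹, inv_mem hn, by simpa using e.symm⟩

theorem not_conj_a_ab (h9 : Nat.card P = 9) : ¬ IsConj D.a (D.a * D.b) := by
  intro h
  obtain ⟨g, hg⟩ := isConj_iff.mp h
  obtain ⟨n, hn, e⟩ := fusion_nor (h9 := h9) D.ha (hg ▸ D.ab_mem)
  rw [hg] at e
  rcases (D.diag n hn).1 with e' | e' <;> rw [e'] at e
  · have := D.inj 1 0 1 1 (by norm_num) (by norm_num) (by norm_num) (by norm_num) (by simpa using e)
    omega
  · rw [D.inv_eq_sq D.ha] at e
    have := D.inj 2 0 1 1 (by norm_num) (by norm_num) (by norm_num) (by norm_num) (by simpa using e)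
    omega

theorem not_conj_a_b (h9 : Nat.card P = 9) : ¬ IsConj D.a D.b := by
  intro h
  obtain ⟨g, hg⟩ := isConj_iff.mp h
  obtain ⟨n, hn, e⟩ := fusion_nor (h9 := h9) D.ha (hg ▸ D.hb)
  rw [hg] at e
  rcases (D.diag n hn).1 with e' | e' <;> rw [e'] at e
  · have := D.inj 1 0 0 1 (by norm_num) (by norm_num) (by norm_num) (by norm_num) (by simpa using e)
    omega
  · rw [D.inv_eq_sq D.ha] at e
    have := D.inj 2 0 0 1 (by norm_num) (by norm_num) (by norm_num) (by norm_num) (by simpa using e)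
    omega

theorem le_centralizer_of_mem (h9 : Nat.card P = 9) {y : G} (hy : y ∈ (P : Subgroup G)) :
    (P : Subgroup G) ≤ Subgroup.centralizer ({y} : Set G) := fun x hx =>
  Subgroup.mem_centralizer_singleton_iff.mpr (commute_P h9 hx hy)

theorem complement_ab (h9 : Nat.card P = 9) :
    Cfsg.HasNormalPComplement 3 ↥(Subgroup.centralizer ({D.a * D.b} : Set G)) := by
  have hle := le_centralizer_of_mem h9 D.ab_mem
  refine CfsgLib.Fusion.hasNormalPComplement_of_normalizer_le_centralizer (P.subtype hle) ?_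
  intro c hc
  have hcN : (c : G) ∈ nor P := by
    refine Subgroup.mem_normalizer_iff.mpr fun u => ⟨fun hu => ?_, fun hu => ?_⟩
    · have := (Subgroup.mem_normalizer_iff.mp hc ⟨u, hle hu⟩).mp
        (by rw [Sylow.coe_subtype, Subgroup.mem_subgroupOf]; exact hu)
      rwa [Sylow.coe_subtype, Subgroup.mem_subgroupOf] at this
    · have hmem : u ∈ Subgroup.centralizer ({D.a * D.b} : Set G) := by
        have h1 := mul_mem (mul_mem (inv_mem c.2) (hle hu)) c.2
        simpa [mul_assoc] using h1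
      have := (Subgroup.mem_normalizer_iff.mp hc ⟨u, hmem⟩).mpr
        (by rw [Sylow.coe_subtype, Subgroup.mem_subgroupOf]; exact hu)
      rwa [Sylow.coe_subtype, Subgroup.mem_subgroupOf] at this
  have hcc : (c : G) ∈ cen P := D.nor_fix_ab h9 hcN
    (mul_inv_eq_iff_eq_mul.mpr (Subgroup.mem_centralizer_singleton_iff.mp c.2))
  refine Subgroup.mem_centralizer_iff.mpr fun u hu => Subtype.ext ?_
  rw [SetLike.mem_coe, Sylow.coe_subtype, Subgroup.mem_subgroupOf] at hu
  exact Subgroup.mem_centralizer_iff.mp hcc u hu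

theorem complement_cen (h9 : Nat.card P = 9) : Cfsg.HasNormalPComplement 3 ↥(cen P) := by
  have hle : (P : Subgroup G) ≤ cen P := le_cen_of_nine P h9
  refine CfsgLib.Fusion.hasNormalPComplement_of_normalizer_le_centralizer (P.subtype hle) fun c _ => ?_
  refine Subgroup.mem_centralizer_iff.mpr fun u hu => Subtype.ext ?_
  rw [SetLike.mem_coe, Sylow.coe_subtype, Subgroup.mem_subgroupOf] at hu
  exact Subgroup.mem_centralizer_iff.mp c.2 u hu

variable {M : Ideal AlgInt} [M.IsMaximal] [Fintype (IrrCharacter G)]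

/-- Principal block characters on the section of `a * b`. -/
theorem value_ab (h9 : Nat.card P = 9) (hM : IsPModular 3 M) {θ : IrrCharacter G}
    (hθ : θ ∈ principalBlock M G) {z y : G} (hz : IsPPart 3 z y) (hy : IsConj y (D.a * D.b)) :
    (θ : G → ℂ) z = (θ : G → ℂ) (D.a * D.b) := by
  classical
  obtain ⟨c, hc⟩ := isConj_iff.mp hy
  obtain ⟨r, hr, hrc, hrk, hrr⟩ := AbelianFree.isPPart_conj c hz
  rw [hc] at hr hrc hrk
  set C := Subgroup.centralizer ({D.a * D.b} : Set G)
  have : Fintype C := Fintype.ofFinite _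
  have hC : ∀ t : G, t ∈ C ↔ Commute t (D.a * D.b) := fun t => Subgroup.mem_centralizer_singleton_iff
  have e := PairSolvable.principal_value_eq hM hrk hC (D.complement_ab h9) hθ
    (c := ⟨r, (hC r).mpr hrc.symm⟩) (by rwa [← Subgroup.orderOf_coe])
  rw [← isClassFunction_irr θ z c, ← hr]
  exact e

end Klein

/-- The local data at the axis `a`. -/
structure Loc (D : Klein P) (M : Ideal AlgInt) where
  N : Subgroup ↥(Subgroup.centralizer ({D.a} : Set G))
  [normal : N.Normal]
  index : N.index = 3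
  haN : (⟨D.a, Subgroup.mem_centralizer_singleton_iff.mpr rfl⟩ :
    ↥(Subgroup.centralizer ({D.a} : Set G))) ∉ N
  singG : ∀ x : N, 3 ∣ orderOf x → ∃ y : G,
    IsPPart 3 (D.a * ((x : Subgroup.centralizer ({D.a} : Set G)) : G)) y ∧ IsConj y (D.a * D.b)
  η : Fin 3 → IrrCharacter N
  inj : Function.Injective η
  cover : ∀ χ : IrrCharacter N, χ ∈ principalBlock M N ↔ ∃ j, η j = χ
  η0 : η 0 = oneChar N
  e : Fin 3 → ℤ
  he : ∀ j, e j = 1 ∨ e j = -1
  e0 : e 0 = 1
  sing : ∀ j (x : N), 3 ∣ orderOf x → (η j : N → ℂ) x = (e j : ℂ)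
  φ : N ≃* N
  hφ : ∀ x : N, ((φ x : Subgroup.centralizer ({D.a} : Set G)) : G) =
    D.s * ((x : Subgroup.centralizer ({D.a} : Set G)) : G) * D.s⁻¹
  hφη : ∀ j (x : N), (η j : N → ℂ) (φ x) = (η j : N → ℂ) x

open scoped Classical in
theorem exists_loc [Fintype (IrrCharacter G)] (D : Klein P) (h9 : Nat.card P = 9) {M : Ideal AlgInt}
    (hM : IsPModular 3 M) : Nonempty (Loc D M) := by
  have := hM.2.1
  set A := D.a with hAdef
  set C := Subgroup.centralizer ({A} : Set G) with hCdef
  have : Fintype C := Fintype.ofFinite _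
  have hle : (P : Subgroup G) ≤ C := Klein.le_centralizer_of_mem h9 D.ha
  set P' : Sylow 3 C := P.subtype hle with hP'
  set aC : C := ⟨A, Subgroup.mem_centralizer_singleton_iff.mpr rfl⟩ with haC
  have haZ : aC ∈ Subgroup.center C := Subgroup.mem_center_iff.mpr fun w =>
    Subtype.ext (Subgroup.mem_centralizer_singleton_iff.mp w.2)
  have hmemP' : ∀ x : C, x ∈ (P' : Subgroup C) ↔ (x : G) ∈ (P : Subgroup G) := fun x => by
    rw [hP', Sylow.coe_subtype, Subgroup.mem_subgroupOf]
  set bC : C := ⟨D.b, hle D.hb⟩ with hbC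
  have hu' : D.u ∈ C := Subgroup.mem_centralizer_singleton_iff.mpr (mul_inv_eq_iff_eq_mul.mp D.hua)
  have hPcomm : IsMulCommutative P' := ⟨⟨fun v w => Subtype.ext (Subtype.ext
    (Klein.commute_P h9 ((hmemP' v).mp v.2) ((hmemP' w).mp w.2)))⟩⟩
  obtain ⟨N, hN, ⟨iso⟩⟩ := Cfsg.Agent.S0105.result P' hPcomm
  have hD : ∀ x : C, x ∈ (P' : Subgroup C) ⊓
      Subgroup.centralizer (Subgroup.normalizer ((P' : Subgroup C) : Set C) : Set C) ↔
      x ∈ Subgroup.zpowers aC := by
    intro x
    refine ⟨fun hx => ?_, fun hx => ?_⟩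
    · obtain ⟨i, j, hi, hj, hij⟩ := D.span _ ((hmemP' x).mp hx.1)
      have huN : (⟨D.u, hu'⟩ : C) ∈ Subgroup.normalizer ((P' : Subgroup C) : Set C) := by
        refine Subgroup.mem_normalizer_iff.mpr fun w => ?_
        rw [hmemP', hmemP']
        exact Subgroup.mem_normalizer_iff.mp D.hu w
      have hcomm := congrArg Subtype.val (Subgroup.mem_centralizer_iff.mp hx.2 _ huN)
      have h1 : D.u * (x : G) * D.u⁻¹ = x := mul_inv_eq_iff_eq_mul.mpr hcomm
      rw [hij, ← conj_mul, ← conj_pow, ← conj_pow, D.hua, D.hub, D.inv_eq_sq D.hb, ← pow_mul,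
        pow_eq_pow_mod (2 * j) (D.exp _ D.hb)] at h1
      have := (D.inj i (2 * j % 3) i j hi (Nat.mod_lt _ (by norm_num)) hi hj h1).2
      obtain rfl : j = 0 := by omega
      rw [pow_zero, mul_one] at hij
      refine Subgroup.mem_zpowers_iff.mpr ⟨(i : ℤ), Subtype.ext ?_⟩
      rw [zpow_natCast, SubmonoidClass.coe_pow, hij]
    · obtain ⟨k, rfl⟩ := Subgroup.mem_zpowers_iff.mp hx
      exact ⟨Subgroup.zpow_mem _ ((hmemP' aC).mpr D.ha) k,
        Subgroup.zpow_mem _ (Subgroup.mem_centralizer_iff.mpr fun w _ =>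
          Subgroup.mem_center_iff.mp haZ w) k⟩
  have haC1 : aC ≠ 1 := fun e => D.ha1 (congrArg Subtype.val e)
  have haC3 : aC ^ 3 = 1 := Subtype.ext (by simpa [haC] using D.exp A D.ha)
  have hidx : N.index = 3 := by
    rw [Subgroup.index, Nat.card_congr iso.toEquiv]
    refine (Nat.card_congr (Equiv.subtypeEquivRight hD)).trans ?_
    rw [show Nat.card {x // x ∈ Subgroup.zpowers aC} = orderOf aC from Nat.card_zpowers aC,
      orderOf_eq_prime haC3 haC1]
  have hreg : ∀ g : C, ¬ 3 ∣ orderOf g → g ∈ N := by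
    intro g hg
    rw [← QuotientGroup.eq_one_iff (N := N)]
    have h3 : orderOf (g : C ⧸ N) ∣ 3 := hidx ▸ orderOf_dvd_natCard _
    exact orderOf_eq_one_iff.mp (((Nat.dvd_prime Nat.prime_three).mp h3).resolve_right
      fun e => hg (e ▸ orderOf_map_dvd (QuotientGroup.mk' N) g))
  have hcomN : ∀ x y : C, x * y * x⁻¹ * y⁻¹ ∈ N := fun x y => by
    rw [← QuotientGroup.eq_one_iff]
    have hc : IsCyclic (C ⧸ N) := isCyclic_of_prime_card (p := 3) hidx
    have := (IsCyclic.isMulCommutative (α := C ⧸ N)).is_comm.comm (x : C ⧸ N) (y : C ⧸ N)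
    rw [QuotientGroup.mk_mul, QuotientGroup.mk_mul, QuotientGroup.mk_mul, QuotientGroup.mk_inv,
      QuotientGroup.mk_inv, this]
    group
  have hbN : bC ∈ N := by
    have h := hcomN ⟨D.u, hu'⟩ bC
    rw [show (⟨D.u, hu'⟩ : C) * bC * (⟨D.u, hu'⟩ : C)⁻¹ * bC⁻¹ = bC from Subtype.ext (by
      show D.u * D.b * D.u⁻¹ * D.b⁻¹ = D.b
      rw [D.hub, D.inv_eq_sq D.hb, ← pow_add, show 2 + 2 = 3 + 1 by norm_num, pow_succ, D.exp _ D.hb,
        one_mul])] at h
    exact h
  have haN : aC ∉ N := by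
    intro h
    have hPN : (P' : Subgroup C) ≤ N := fun x hx => by
      obtain ⟨i, j, -, -, hij⟩ := D.span _ ((hmemP' x).mp hx)
      rw [show x = aC ^ i * bC ^ j from Subtype.ext (by simp [haC, hbC, hij]; rfl)]
      exact mul_mem (pow_mem h i) (pow_mem hbN j)
    exact P'.not_dvd_index ((hidx ▸ dvd_rfl : 3 ∣ N.index).trans (Subgroup.index_dvd_of_le hPN))
  have hsplit := central_split haZ haC3 haN hidx
  have : Fintype N := Fintype.ofFinite _
  -- three-elements of `N` are conjugate to `b` inside `N`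
  set bN : N := ⟨bC, hbN⟩ with hbNdef
  have hconj : ∀ y : N, y ≠ 1 → (∃ k : ℕ, orderOf y = 3 ^ k) → IsConj y bN := by
    rintro y hy1 ⟨k, hk⟩
    have hp : IsPGroup 3 (Subgroup.zpowers (y : C)) :=
      IsPGroup.of_card (n := k) (by rw [Nat.card_zpowers, Subgroup.orderOf_coe, hk])
    obtain ⟨T, hT⟩ := hp.exists_le_sylow
    obtain ⟨c, hc⟩ := MulAction.exists_smul_eq C T P'
    have hcy : c * (y : C) * c⁻¹ ∈ (P' : Subgroup C) := hc ▸ ⟨y, hT (Subgroup.mem_zpowers _), rfl⟩
    obtain ⟨i, j, hi, hj, hij⟩ := D.span _ ((hmemP' _).mp hcy)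
    have hcyN : c * (y : C) * c⁻¹ ∈ N := hN.conj_mem _ y.2 c
    have he : c * (y : C) * c⁻¹ = aC ^ i * bC ^ j := Subtype.ext (by simp [haC, hbC, hij]; rfl)
    have hi0 : i = 0 := by
      rw [he] at hcyN
      have hai : aC ^ i ∈ N := by
        have := mul_mem hcyN (inv_mem (pow_mem hbN j))
        rwa [mul_inv_cancel_right] at this
      rcases i with _ | _ | _ | i
      · rfl
      · exact absurd (by simpa using hai) haN
      · refine absurd ?_ haN
        have := mul_mem hai hai
        rwa [← pow_add, show 0 + 1 + 1 + (0 + 1 + 1) = 3 + 1 by norm_num, pow_succ, haC3, one_mul] at this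
      · omega
    subst hi0
    rw [pow_zero, one_mul] at he
    have hstep : ∀ d : C, d * (y : C) * d⁻¹ = bC → IsConj y bN := by
      intro d hd
      obtain ⟨⟨i', n⟩, hin⟩ := hsplit.surjective d
      simp only at hin
      refine isConj_iff.mpr ⟨n, Subtype.ext ?_⟩
      show (n : C) * (y : C) * (n : C)⁻¹ = bC
      rw [← hd, ← hin, mul_inv_rev]
      have hz := Subgroup.mem_center_iff.mp (pow_mem haZ (i' : ℕ))
      rw [show aC ^ (i' : ℕ) * (n : C) * (y : C) * ((n : C)⁻¹ * (aC ^ (i' : ℕ))⁻¹) =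
        aC ^ (i' : ℕ) * ((n : C) * (y : C) * (n : C)⁻¹) * (aC ^ (i' : ℕ))⁻¹ by group, ← hz]
      group
    rcases j with _ | _ | _ | j
    · exact absurd (conj_eq_one_iff.mp (by rw [he, pow_zero])) fun e => hy1 (Subtype.ext e)
    · exact hstep c (by rw [he, pow_one])
    · refine hstep (⟨D.u, hu'⟩ * c) ?_
      rw [show ⟨D.u, hu'⟩ * c * (y : C) * (⟨D.u, hu'⟩ * c)⁻¹ = ⟨D.u, hu'⟩ * (c * (y : C) * c⁻¹) *
        (⟨D.u, hu'⟩ : C)⁻¹ by group, he]
      refine Subtype.ext ?_
      show D.u * D.b ^ (0 + 1 + 1) * D.u⁻¹ = D.b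
      rw [← conj_pow, D.hub, inv_pow, show 0 + 1 + 1 = 2 from rfl, ← D.inv_eq_sq D.hb, inv_inv]
    · omega
  have hsingG : ∀ x : N, 3 ∣ orderOf x → ∃ y : G,
      IsPPart 3 (A * ((x : C) : G)) y ∧ IsConj y (A * D.b) := by
    intro x hx
    obtain ⟨y, hy⟩ := exists_isPPart Nat.prime_three x
    obtain ⟨r, hr, hrc, hrk, hrr⟩ := id hy
    have hy1 : y ≠ 1 := fun e => not_dvd_of_isPPart_one (e ▸ hy) hx
    obtain ⟨n, hn⟩ := isConj_iff.mp (hconj y hy1 hrk)
    refine ⟨A * ((y : C) : G), ⟨((r : C) : G), ?_, ?_, ?_, ?_⟩, isConj_iff.mpr ⟨((n : C) : G), ?_⟩⟩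
    · rw [← hr]; push_cast; group
    · exact (show Commute A ((r : C) : G) from (Subgroup.mem_centralizer_singleton_iff.mp (r : C).2).symm).mul_left
        ((hrc.map N.subtype).map C.subtype)
    · obtain ⟨k, hk⟩ := hrk
      have hy9 : ((y : C) : G) ^ 3 = 1 := by
        have h3 : (bN : N) ^ 3 = 1 := Subtype.ext (Subtype.ext (by simpa [hbNdef, hbC] using D.exp _ D.hb))
        have hy3 : y ^ 3 = 1 := conj_eq_one_iff.mp (by rw [← conj_pow, hn]; exact h3)
        exact congrArg (fun w : N => ((w : C) : G)) hy3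
      have hcomm : Commute A ((y : C) : G) := (Subgroup.mem_centralizer_singleton_iff.mp (y : C).2).symm
      have h3 : (A * ((y : C) : G)) ^ 3 = 1 := by rw [hcomm.mul_pow, D.exp A D.ha, hy9, one_mul]
      obtain ⟨k', -, hk'⟩ := (Nat.dvd_prime_pow Nat.prime_three).mp
        (show orderOf (A * ((y : C) : G)) ∣ 3 ^ 1 by simpa using orderOf_dvd_of_pow_eq_one h3)
      exact ⟨k', hk'⟩
    · rwa [Subgroup.orderOf_coe, Subgroup.orderOf_coe]
    · have hnA : Commute ((n : C) : G) A := Subgroup.mem_centralizer_singleton_iff.mp (n : C).2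
      rw [← conj_mul, mul_inv_eq_iff_eq_mul.mpr hnA]
      congr 1
      exact congrArg (fun w : N => ((w : C) : G)) hn
  -- the principal block of `N`
  have := Fintype.ofFinite (IrrCharacter N)
  set CN := Subgroup.centralizer ({bN} : Set N) with hCN
  have : Fintype CN := Fintype.ofFinite _
  have := Fintype.ofFinite (IrrCharacter CN)
  have := Fintype.ofFinite (ConjClasses CN)
  let toCen : CN →* cen P := ((C.subtype.comp N.subtype).comp CN.subtype).codRestrict (cen P) fun w => by
    refine Subgroup.mem_centralizer_iff.mpr fun v hv => ?_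
    obtain ⟨i, j, -, -, rfl⟩ := D.span v hv
    have h1 : Commute (((w : N) : C) : G) A := Subgroup.mem_centralizer_singleton_iff.mp ((w : N) : C).2
    have h2 : Commute (((w : N) : C) : G) D.b := by
      have := Subgroup.mem_centralizer_singleton_iff.mp w.2
      exact congrArg (fun z : N => ((z : C) : G)) this
    exact ((h1.pow_right i).mul_right (h2.pow_right j)).symm
  have hCNc : Cfsg.HasNormalPComplement 3 CN :=
    CfsgLib.Fusion.hasNormalPComplement_of_injective toCen (fun v w e => Subtype.ext (Subtype.ext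
      (Subtype.ext (congrArg (fun z : cen P => (z : G)) e)))) (Klein.complement_cen h9)
  have hbo : orderOf bN = 3 := orderOf_eq_prime
    (Subtype.ext (Subtype.ext (by simpa [hbNdef, hbC] using D.exp _ D.hb)))
    (fun e => D.hb1 (congrArg (fun w : N => ((w : C) : G)) e))
  have hxp : ∃ k : ℕ, orderOf bN = 3 ^ k := ⟨1, by rw [hbo, pow_one]⟩
  have hCNmem : ∀ t : N, t ∈ CN ↔ Commute t bN := fun t => Subgroup.mem_centralizer_singleton_iff
  have hv3 : (Nat.card CN).factorization 3 = 1 := by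
    have h1 : 1 ≤ (Nat.card CN).factorization 3 :=
      (Nat.prime_three.dvd_iff_one_le_factorization Nat.card_pos.ne').mp (by
        have := orderOf_dvd_natCard (⟨bN, (hCNmem bN).mpr (Commute.refl _)⟩ : CN)
        rwa [Subgroup.orderOf_mk, hbo] at this)
    have h2 : (Nat.card CN).factorization 3 ≤ (Nat.card N).factorization 3 :=
      (Nat.factorization_le_iff_dvd Nat.card_pos.ne' Nat.card_pos.ne').mpr CN.card_subgroup_dvd_card 3
    have h3 : (Nat.card N).factorization 3 + 1 = 2 := by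
      have hC9 : (Nat.card C).factorization 3 = 2 := by
        have hc := P'.card_eq_multiplicity
        rw [hP', Sylow.coe_subtype, Nat.card_congr (Subgroup.subgroupOfEquivOfLe hle).toEquiv,
          show Nat.card (P : Subgroup G) = 9 from h9] at hc
        exact (Nat.pow_right_injective (by norm_num : 2 ≤ 3) (show 3 ^ 2 = 3 ^ _ by simpa using hc)).symm
      rw [← N.card_mul_index, hidx, Nat.factorization_mul Nat.card_pos.ne' (by norm_num), Finsupp.add_apply,
        Nat.prime_three.factorization_self] at hC9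
      exact hC9
    omega
  have hval : ∀ χ ∈ principalBlock M N, ∀ x : N, 3 ∣ orderOf x →
      (χ : N → ℂ) x = (χ : N → ℂ) bN := by
    intro χ hχ x hx
    obtain ⟨y, hy⟩ := exists_isPPart Nat.prime_three x
    have hy1 : y ≠ 1 := fun e => not_dvd_of_isPPart_one (e ▸ hy) hx
    obtain ⟨r, hr, hrc, hrk, hrr⟩ := id hy
    obtain ⟨n, hn⟩ := isConj_iff.mp (hconj y hy1 hrk)
    obtain ⟨r', hr', hrc', -, hrr'⟩ := AbelianFree.isPPart_conj n hy
    rw [hn] at hr' hrc'
    rw [← isClassFunction_irr χ x n, ← hr']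
    exact PairSolvable.principal_value_eq hM hxp hCNmem hCNc hχ
      (c := ⟨r', (hCNmem r').mpr hrc'.symm⟩) (by rwa [← Subgroup.orderOf_coe])
  obtain ⟨n₀, hn₀⟩ : ∃ n : N, n * bN * n⁻¹ = bN⁻¹ := by
    obtain ⟨n, hn⟩ := isConj_iff.mp (hconj bN⁻¹ (fun e => by
      rw [inv_eq_one] at e; rw [e, orderOf_one] at hbo; omega) ⟨1, by rw [orderOf_inv, hbo, pow_one]⟩)
    refine ⟨n⁻¹, ?_⟩
    calc n⁻¹ * bN * n⁻¹⁻¹ = n⁻¹ * (n * bN⁻¹ * n⁻¹) * n⁻¹⁻¹ := by rw [hn]
      _ = bN⁻¹ := by group
  have hint : ∀ χ : IrrCharacter N, ∃ v : ℤ, (χ : N → ℂ) bN = (v : ℂ) := by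
    intro χ
    have hsq : bN ^ 2 = bN⁻¹ := (inv_eq_of_mul_eq_one_left (by
      rw [← pow_succ, show 2 + 1 = orderOf bN from hbo.symm, pow_orderOf_eq_one])).symm
    have hb1 : bN ≠ 1 := fun e => by rw [e, orderOf_one] at hbo; omega

    have : Fintype (⊥ : Subgroup N) := Fintype.ofFinite _
    have hone : ∀ f : (⊥ : Subgroup N) → ℂ,
        classInner f (oneChar (⊥ : Subgroup N) : (⊥ : Subgroup N) → ℂ) = f 1 := by
      intro f
      have huniv : (Finset.univ : Finset (⊥ : Subgroup N)) = {1} :=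
        Finset.eq_singleton_iff_unique_mem.mpr ⟨Finset.mem_univ _, fun x _ => Subsingleton.elim x 1⟩
      simp [classInner, oneChar]
      exact congrArg f (Subsingleton.elim _ _)
    obtain ⟨v, hv⟩ := section_int (G := N) (by rw [← hbo, pow_orderOf_eq_one]) hb1
      (⊥ : Subgroup N).subtype (fun x => by rw [show x = 1 from Subsingleton.elim x 1]; simp)
      (isCharacter_irr χ) (isCharacter_of_isIrr (oneChar (⊥ : Subgroup N)).2) (by
        rw [hone, hone]
        simp only [OneMemClass.coe_one, map_one, mul_one]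
        rw [hsq, ← hn₀, isClassFunction_irr χ bN n₀])
    refine ⟨v, ?_⟩
    rw [hone] at hv
    simpa using hv
  choose v hv using hint
  have hsum3 : ∑ χ ∈ Finset.univ.filter (· ∈ principalBlock M N), v χ * v χ = 3 := by
    have h := sum_principal_secFun (M := M) hM hxp hCNmem (y := (1 : CN)) (z := 1) (by simp) (by simp)
    simp only [OneMemClass.coe_one, mul_one, Char.conj_irr_one] at h
    rw [finsum_mem_eq_toFinset_sum, finsum_mem_eq_toFinset_sum] at h
    have h2 := sum_sq_principal_of_complement (M := M) hM hCNc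
    rw [hv3, pow_one] at h2
    have h3 : ∑ χ ∈ Finset.univ.filter (· ∈ principalBlock M N), ((v χ * v χ : ℤ) : ℂ) = (3 : ℂ) := by
      rw [show (3 : ℂ) = ((3 : ℕ) : ℂ) by norm_num, ← h2,
        show (principalBlock M CN).toFinite.toFinset = (principalBlock M CN).toFinset by ext; simp, ← h]
      refine Finset.sum_congr (by ext; simp) fun χ _ => ?_
      rw [hv χ, map_intCast]
      push_cast; rfl
    exact_mod_cast h3
  have hv0 : ∀ χ ∈ Finset.univ.filter (· ∈ principalBlock M N), v χ ≠ 0 := by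
    intro χ hχ h0
    have hB : χ ∈ principalBlock M N := (Finset.mem_filter.mp hχ).2
    refine not_mem_of_vanish hM (fun e => ?_) (fun g hg => ?_) hB
    · have := hv χ
      rw [h0, e] at this
      simp [oneChar] at this
    · rw [hval χ hB g hg, hv χ, h0, Int.cast_zero]
  have hv1 : ∀ χ ∈ Finset.univ.filter (· ∈ principalBlock M N), v χ = 1 ∨ v χ = -1 := by
    intro χ hχ
    have h1 := Finset.single_le_sum (f := fun χ => v χ * v χ) (fun i _ => mul_self_nonneg _) hχ
    rw [hsum3] at h1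
    have h2 := hv0 χ hχ
    have : -1 ≤ v χ ∧ v χ ≤ 1 := ⟨by nlinarith, by nlinarith⟩
    omega
  have hcard3 : (Finset.univ.filter (· ∈ principalBlock M N)).card = 3 := by
    rw [Finset.sum_congr rfl (g := fun _ => (1 : ℤ)) fun χ hχ => by
      rcases hv1 χ hχ with e | e <;> rw [e] <;> norm_num, Finset.sum_const, nsmul_eq_mul, mul_one] at hsum3
    exact_mod_cast hsum3
  obtain ⟨η₁, η₂, h12, hset⟩ := Finset.card_eq_two.mp (show
    ((Finset.univ.filter (· ∈ principalBlock M N)).erase (oneChar N)).card = 2 by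
      rw [Finset.card_erase_of_mem (Finset.mem_filter.mpr ⟨Finset.mem_univ _, one_mem_principalBlock⟩), hcard3])
  have hmem : ∀ χ, χ ∈ principalBlock M N ↔ χ = oneChar N ∨ χ = η₁ ∨ χ = η₂ := by
    intro χ
    have := congrArg (fun s : Finset _ => χ ∈ s) hset
    simp only [Finset.mem_erase, Finset.mem_filter, Finset.mem_univ, true_and, Finset.mem_insert,
      Finset.mem_singleton, eq_iff_iff] at this
    by_cases h : χ = oneChar N
    · simp [h, one_mem_principalBlock]
    · simp [h, ← this]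
  have h10 : oneChar N ≠ η₁ := fun e => by
    have : η₁ ∈ ({η₁, η₂} : Finset _) := Finset.mem_insert_self _ _
    rw [← hset] at this
    exact (Finset.mem_erase.mp this).1 e.symm
  have h20 : oneChar N ≠ η₂ := fun e => by
    have : η₂ ∈ ({η₁, η₂} : Finset _) := Finset.mem_insert_of_mem (Finset.mem_singleton_self _)
    rw [← hset] at this
    exact (Finset.mem_erase.mp this).1 e.symm
  -- the degrees are distinct
  have hdeg12 : charDegree (η₁ : N → ℂ) ≠ charDegree (η₂ : N → ℂ) := by
    intro he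
    have h0 := blockUnion_orthogonal_regular_singular hM
      (.of_isPBlock (isPBlock_principalBlock (M := M) (G := N))) (g := (1 : N)) (by simp) (h := bN)
      (by rw [hbo])
    rw [finsum_mem_eq_toFinset_sum, show (principalBlock M N).toFinset = {oneChar N, η₁, η₂} by
      ext χ; simp [hmem χ]] at h0
    rw [Finset.sum_insert (by simp [h10, h20]), Finset.sum_pair h12, hv η₁, hv η₂,
      (charDegree_eq η₁).1, (charDegree_eq η₂).1, he] at h0
    simp only [oneChar, map_one, mul_one, map_intCast] at h0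
    have h' : (1 : ℤ) + ((charDegree (η₂ : N → ℂ) : ℤ) * v η₁ + (charDegree (η₂ : N → ℂ) : ℤ) * v η₂) = 0 := by
      exact_mod_cast h0
    rcases hv1 η₁ (by simp [hmem]) with e1 | e1 <;> rcases hv1 η₂ (by simp [hmem]) with e2 | e2 <;>
      rw [e1, e2] at h' <;> omega
  -- the element `s` fixes the three characters
  have hs : ∀ x : C, D.s * (x : G) * D.s⁻¹ ∈ C := fun x => by
    refine Subgroup.mem_centralizer_singleton_iff.mpr ?_
    have hx : Commute (x : G) A⁻¹ :=
      (show Commute (x : G) A from Subgroup.mem_centralizer_singleton_iff.mp x.2).inv_right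
    show Commute (D.s * (x : G) * D.s⁻¹) A
    have hA : A = D.s * A⁻¹ * D.s⁻¹ := by rw [← conj_inv, D.hsa, inv_inv]
    rw [hA, commute_iff_eq, show D.s * (x : G) * D.s⁻¹ * (D.s * A⁻¹ * D.s⁻¹) = D.s * ((x : G) * A⁻¹) * D.s⁻¹ by group,
      show D.s * A⁻¹ * D.s⁻¹ * (D.s * (x : G) * D.s⁻¹) = D.s * (A⁻¹ * (x : G)) * D.s⁻¹ by group, hx.eq]
  let σ : C →* C :=
    { toFun := fun x => ⟨D.s * (x : G) * D.s⁻¹, hs x⟩
      map_one' := Subtype.ext (by simp)
      map_mul' := fun x y => Subtype.ext (by simp [mul_assoc]) }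
  have hσN : ∀ x : N, σ x ∈ N := by
    intro x
    obtain ⟨y, hy⟩ := exists_isPPart Nat.prime_three x
    obtain ⟨r, hr, hrc, hrk, hrr⟩ := id hy
    rw [← hr, Subgroup.coe_mul, map_mul]
    refine mul_mem ?_ (hreg _ fun h => hrr ?_)
    · by_cases hy1 : y = 1
      · rw [hy1, OneMemClass.coe_one, map_one]; exact one_mem N
      obtain ⟨n, hn⟩ := isConj_iff.mp (hconj y hy1 hrk)
      have e : (y : C) = (n : C)⁻¹ * bC * (n : C) := by
        have : (n : C) * (y : C) * (n : C)⁻¹ = bC := congrArg (fun w : N => (w : C)) hn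
        rw [← this]; group
      rw [e, map_mul, map_mul, map_inv]
      refine (show (σ (n : C))⁻¹ * σ bC * σ (n : C) = (σ (n : C))⁻¹ * σ bC * ((σ (n : C))⁻¹)⁻¹ by rw [inv_inv]) ▸
        hN.conj_mem _ ?_ _
      rw [show σ bC = bC from Subtype.ext D.hsb]
      exact hbN
    · have := h.trans (orderOf_map_dvd σ (r : C))
      rwa [Subgroup.orderOf_coe] at this
  let σN : N →* N := (σ.comp N.subtype).codRestrict N hσN
  have hσinj : Function.Injective σN := fun x y e => by
    have e' : D.s * ((x : C) : G) * D.s⁻¹ = D.s * ((y : C) : G) * D.s⁻¹ :=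
      congrArg (fun w : N => ((w : C) : G)) e
    exact Subtype.ext (Subtype.ext (mul_left_cancel (mul_right_cancel e')))
  let φ : N ≃* N := MulEquiv.ofBijective σN ⟨hσinj, Finite.surjective_of_injective hσinj⟩
  have hfix : ∀ χ ∈ principalBlock M N, ∀ x : N, (χ : N → ℂ) (φ x) = (χ : N → ℂ) x := by
    intro χ hχ x
    set χ' : IrrCharacter N := ⟨_, isIrrCharacter_comp_surjective χ.2 φ.toMonoidHom φ.surjective⟩
    have hB := comp_mem_principalBlock hM φ hχ
    have hd : charDegree (χ' : N → ℂ) = charDegree (χ : N → ℂ) := by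
      have : (χ' : N → ℂ) 1 = (χ : N → ℂ) 1 := congrArg (χ : N → ℂ) (map_one φ)
      rw [(charDegree_eq χ').1, (charDegree_eq χ).1] at this
      exact_mod_cast this
    suffices e : χ' = χ from congrFun (congrArg Subtype.val e) x
    by_cases h1 : χ = oneChar N
    · subst h1; rfl
    have h1' : χ' ≠ oneChar N := fun e => h1 (Subtype.ext (funext fun w => by
      have := congrFun (congrArg Subtype.val e) (φ.symm w)
      simpa [χ', oneChar] using this))
    rcases (hmem χ).mp hχ with h | h | h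
    · exact absurd h h1
    all_goals
      subst h
      rcases (hmem χ').mp hB with h' | h' | h'
      · exact absurd h' h1'
      all_goals first
        | exact h'
        | (exfalso; rw [h'] at hd; exact hdeg12 hd)
        | (exfalso; rw [h'] at hd; exact hdeg12 hd.symm)
  exact ⟨{ N := N, normal := hN, index := hidx, haN := haN, singG := hsingG
           η := ![oneChar N, η₁, η₂]
           inj := fun i j e => by fin_cases i <;> fin_cases j <;> simp_all [h10.symm, h20.symm, h12.symm]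
           cover := fun χ => by
             rw [hmem χ]
             refine ⟨fun h => ?_, fun ⟨j, h⟩ => ?_⟩
             · rcases h with h | h | h
               · exact ⟨0, h.symm⟩
               · exact ⟨1, h.symm⟩
               · exact ⟨2, h.symm⟩
             · fin_cases j <;> simp_all
           η0 := rfl
           e := ![1, v η₁, v η₂]
           he := fun j => by
             fin_cases j
             · exact Or.inl rfl
             · exact hv1 η₁ (by simp [hmem])
             · exact hv1 η₂ (by simp [hmem])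
           e0 := rfl
           sing := fun j x hx => by
             fin_cases j
             · simp [oneChar]
             · exact (hval η₁ ((hmem _).mpr (by simp)) x hx).trans (hv η₁)
             · exact (hval η₂ ((hmem _).mpr (by simp)) x hx).trans (hv η₂)
           φ := φ, hφ := fun _ => rfl
           hφη := fun j x => by
             fin_cases j
             · rfl
             · exact hfix η₁ ((hmem _).mpr (by simp)) x
             · exact hfix η₂ ((hmem _).mpr (by simp)) x }⟩

end CfsgLib.NineTwoPrime
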