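import Cfsg.Agent.Lib.SmallSimple.NineTwoPrime.Klein

/-!
# The four-group automizer: the integer vectors of the principal block
-/

set_option autoImplicit false
set_option linter.unusedSectionVars false
set_option linter.style.haveILetI false

namespace CfsgLib.NineTwoPrime

open scoped ComplexConjugate
open Cfsg CfsgLib.Char CfsgLib.Block CfsgLib.Block.AbelianFree

universe u

variable {G : Type u} [Group G] [Fintype G] [IsSimpleGroup G] {P : Sylow 3 G} [Fintype (IrrCharacter G)]
  {M : Ideal AlgInt} [M.IsMaximal]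

theorem orderOf_a (D : Klein P) : orderOf D.a = 3 := orderOf_eq_prime (D.exp _ D.ha) D.ha1

theorem orderOf_ab (D : Klein P) : orderOf (D.a * D.b) = 3 :=
  orderOf_eq_prime (D.exp _ D.ab_mem) D.hab

open scoped Classical in
theorem sum_value_ab (D : Klein P) (h9 : Nat.card P = 9) (hM : IsPModular 3 M) :
    ∑ θ ∈ Finset.univ.filter (· ∈ principalBlock M G),
      (θ : G → ℂ) (D.a * D.b) * conj ((θ : G → ℂ) (D.a * D.b)) = 9 := by
  set C := Subgroup.centralizer ({D.a * D.b} : Set G) with hC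
  have : Fintype C := Fintype.ofFinite _
  have := Fintype.ofFinite (IrrCharacter C)
  have := Fintype.ofFinite (ConjClasses C)
  have hCmem : ∀ t : G, t ∈ C ↔ Commute t (D.a * D.b) := fun t => Subgroup.mem_centralizer_singleton_iff
  have h := sum_principal_secFun (M := M) hM ⟨1, by rw [orderOf_ab D, pow_one]⟩ hCmem
    (y := (1 : C)) (z := 1) (by simp) (by simp)
  simp only [OneMemClass.coe_one, mul_one, Char.conj_irr_one] at h
  have h2 := sum_sq_principal_of_complement (M := M) hM (D.complement_ab h9)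
  have hv : (Nat.card C).factorization 3 = 2 := by
    have hle := Klein.le_centralizer_of_mem h9 D.ab_mem
    have hc := (P.subtype hle).card_eq_multiplicity
    rw [Sylow.coe_subtype, Nat.card_congr (Subgroup.subgroupOfEquivOfLe hle).toEquiv,
      show Nat.card (P : Subgroup G) = 9 from h9] at hc
    exact (Nat.pow_right_injective (by norm_num : 2 ≤ 3) (show 3 ^ 2 = 3 ^ _ by simpa using hc)).symm
  rw [hv] at h2
  rw [finsum_mem_eq_toFinset_sum, finsum_mem_eq_toFinset_sum] at h
  rw [show (9 : ℂ) = ((3 ^ 2 : ℕ) : ℂ) by norm_num, ← h2]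
  refine Eq.trans ?_ (h.trans ?_)
  · exact Finset.sum_congr (by ext; simp) fun _ _ => rfl
  · exact Finset.sum_congr (by ext; simp only [Set.mem_toFinset, Set.Finite.mem_toFinset]; rfl) fun _ _ => rfl

namespace Loc

variable {D : Klein P} (L : Loc D M)

/-- The element of `G` below `x`. -/
abbrev toG (x : L.N) : G := ((x : Subgroup.centralizer ({D.a} : Set G)) : G)

theorem commute_toG (x : L.N) : Commute D.a (L.toG x) :=
  (Subgroup.mem_centralizer_singleton_iff.mp
    (x : Subgroup.centralizer ({D.a} : Set G)).2).symm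

theorem orderOf_toG (x : L.N) : orderOf (L.toG x) = orderOf x := by
  rw [Subgroup.orderOf_coe, Subgroup.orderOf_coe]

theorem part_regular {x : L.N} (hx : ¬ 3 ∣ orderOf x) : IsPPart 3 (D.a * L.toG x) D.a :=
  ⟨L.toG x, rfl, L.commute_toG x, ⟨1, by rw [orderOf_a, pow_one]⟩, by rwa [orderOf_toG]⟩

theorem singular (x : L.N) : 3 ∣ orderOf (D.a * L.toG x) := by
  classical
  by_cases hx : 3 ∣ orderOf x
  · obtain ⟨y, hy, hyc⟩ := L.singG x hx
    obtain ⟨r, hr, hrc, -, hrr⟩ := hy
    have hyo : orderOf y = 3 := by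
      obtain ⟨c, hc⟩ := isConj_iff.mp hyc
      rw [← orderOf_ab D, ← hc, orderOf_conj_eq]
    rw [← hr, hrc.orderOf_mul_eq_mul_orderOf_of_coprime
      (hyo ▸ Nat.prime_three.coprime_iff_not_dvd.mpr hrr), hyo]
    exact dvd_mul_right 3 _
  · rw [(L.commute_toG x).orderOf_mul_eq_mul_orderOf_of_coprime, orderOf_a]
    · exact dvd_mul_right 3 _
    · rw [orderOf_a, orderOf_toG]; exact Nat.prime_three.coprime_iff_not_dvd.mpr hx

variable [Fintype L.N]

/-- The vector attached to `η j`. -/
noncomputable def vec (j : Fin 3) (θ : IrrCharacter G) : ℂ :=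
  (L.e j : ℂ) * classInner (fun x : L.N => (θ : G → ℂ) (D.a * L.toG x)) (L.η j : L.N → ℂ)

theorem exists_int (j : Fin 3) (θ : IrrCharacter G) : ∃ k : ℤ, L.vec j θ = (k : ℂ) := by
  obtain ⟨k, hk⟩ := section_int (N := L.N) (a := D.a) (D.exp _ D.ha) D.ha1
    ((Subgroup.centralizer ({D.a} : Set G)).subtype.comp L.N.subtype) (fun x => L.commute_toG x)
    (isCharacter_irr θ) (isCharacter_irr (L.η j)) (by
      simp only [classInner]
      congr 1
      refine Fintype.sum_equiv L.φ.toEquiv _ _ fun x => ?_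
      show (θ : G → ℂ) (D.a ^ 2 * L.toG x) * conj ((L.η j : L.N → ℂ) x) =
        (θ : G → ℂ) (D.a * L.toG (L.φ x)) * conj ((L.η j : L.N → ℂ) (L.φ x))
      rw [L.hφη, show L.toG (L.φ x) = D.s * L.toG x * D.s⁻¹ from L.hφ x,
        show D.a * (D.s * L.toG x * D.s⁻¹) = D.s * (D.a ^ 2 * L.toG x) * D.s⁻¹ by
          rw [← D.inv_eq_sq D.ha, show D.s * (D.a⁻¹ * L.toG x) * D.s⁻¹ =
            D.s * D.a⁻¹ * D.s⁻¹ * (D.s * L.toG x * D.s⁻¹) by group, ← conj_inv, D.hsa, inv_inv],
        isClassFunction_irr θ (D.a ^ 2 * L.toG x) D.s])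
  refine ⟨L.e j * k, ?_⟩
  rw [vec, show classInner (fun x : L.N => (θ : G → ℂ) (D.a * L.toG x)) (L.η j : L.N → ℂ) = (k : ℂ) from hk]
  push_cast; rfl

open scoped Classical in
theorem vec_one (j : Fin 3) : L.vec j (oneChar G) = if j = 0 then 1 else 0 := by
  have h : classInner (fun x : L.N => ((oneChar G : IrrCharacter G) : G → ℂ) (D.a * L.toG x))
      (L.η j : L.N → ℂ) = classInner (L.η 0 : L.N → ℂ) (L.η j : L.N → ℂ) := by rw [L.η0]; rfl
  rw [vec, h, classInner_irr]
  by_cases hj : j = 0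
  · subst hj; simp [L.e0]
  · rw [if_neg hj, if_neg fun e => hj (L.inj e).symm, mul_zero]

open scoped Classical in
theorem sum_vec_degree (hM : IsPModular 3 M) (j : Fin 3) :
    ∑ θ ∈ Finset.univ.filter (· ∈ principalBlock M G), L.vec j θ * (θ : G → ℂ) 1 = 0 := by
  simp only [vec, classInner, Finset.mul_sum, Finset.sum_mul]
  rw [Finset.sum_comm]
  refine Finset.sum_eq_zero fun x _ => ?_
  have h := blockUnion_orthogonal_regular_singular (G := G) hM
    (.of_isPBlock (isPBlock_principalBlock (M := M))) (g := (1 : G)) (by simp)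
    (h := (D.a * L.toG x)⁻¹) (by rw [orderOf_inv]; exact L.singular x)
  rw [finsum_mem_eq_toFinset_sum, show (principalBlock M G).toFinset =
    Finset.univ.filter (· ∈ principalBlock M G) by ext; simp] at h
  calc _ = ((L.e j : ℂ) * (Nat.card L.N : ℂ)⁻¹ * conj ((L.η j : L.N → ℂ) x)) *
        ∑ θ ∈ Finset.univ.filter (· ∈ principalBlock M G),
          (θ : G → ℂ) 1 * conj ((θ : G → ℂ) (D.a * L.toG x)⁻¹) := by
        rw [Finset.mul_sum]
        refine Finset.sum_congr rfl fun θ _ => ?_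
        rw [irr_inv, Complex.conj_conj]
        ring
    _ = 0 := by rw [h, mul_zero]

theorem vec_twist {m : ℕ} (hm : (Nat.card G).Coprime m)
    {θ θ' : IrrCharacter G} (hθ' : ∀ g : G, (θ' : G → ℂ) g = (θ : G → ℂ) (g ^ m)) :
    L.vec 0 θ' = L.vec 0 θ := by
  classical
  have hmN : (Nat.card L.N).Coprime m := hm.coprime_dvd_left
    ((Subgroup.card_subgroup_dvd_card L.N).trans (Subgroup.card_subgroup_dvd_card _))
  have h3 : m % 3 = 1 ∨ m % 3 = 2 := by
    have : ¬ 3 ∣ m := fun hd => by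
      have h3G : 3 ∣ Nat.card G := orderOf_a D ▸ orderOf_dvd_natCard D.a
      exact absurd (hm ▸ Nat.dvd_gcd h3G hd) (by norm_num)
    omega
  obtain ⟨k, hk⟩ := L.exists_int 0 θ
  simp only [vec, classInner, L.η0, oneChar, map_one, mul_one]
  congr 2
  have hval : ∀ x : L.N, (θ' : G → ℂ) (D.a * L.toG x) = (θ : G → ℂ) (D.a ^ (m % 3) * L.toG (x ^ m)) := by
    intro x
    rw [hθ', (L.commute_toG x).mul_pow, pow_eq_pow_mod m (D.exp _ D.ha)]
    simp [toG]
  rw [Finset.sum_congr rfl fun x _ => hval x]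
  refine (Fintype.sum_bijective (fun x : L.N => x ^ m) (powCoprime hmN).bijective _
    (fun y => (θ : G → ℂ) (D.a ^ (m % 3) * L.toG y)) fun x => rfl).trans ?_
  rcases h3 with e | e <;> rw [e]
  · rw [pow_one]
  · refine Fintype.sum_equiv L.φ.toEquiv _ _ fun x => ?_
    show (θ : G → ℂ) (D.a ^ 2 * L.toG x) = (θ : G → ℂ) (D.a * L.toG (L.φ x))
    rw [show L.toG (L.φ x) = D.s * L.toG x * D.s⁻¹ from L.hφ x,
      show D.a * (D.s * L.toG x * D.s⁻¹) = D.s * (D.a ^ 2 * L.toG x) * D.s⁻¹ by
        rw [← D.inv_eq_sq D.ha, show D.s * (D.a⁻¹ * L.toG x) * D.s⁻¹ =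
          D.s * D.a⁻¹ * D.s⁻¹ * (D.s * L.toG x * D.s⁻¹) by group, ← conj_inv, D.hsa, inv_inv],
      isClassFunction_irr θ (D.a ^ 2 * L.toG x) D.s]

open scoped Classical in
/-- The regular elements. -/
noncomputable def reg : Finset L.N := Finset.univ.filter fun x => ¬ 3 ∣ orderOf x

open scoped Classical in
/-- The part of a vector coming from the regular elements. -/
noncomputable def regPart (j : Fin 3) (θ : IrrCharacter G) : ℂ :=
  ∑ x ∈ L.reg, (θ : G → ℂ) (D.a * L.toG x) * conj ((L.η j : L.N → ℂ) x)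

variable [Fintype (IrrCharacter L.N)]

open scoped Classical in
theorem three_sing (h9 : Nat.card P = 9) (hM : IsPModular 3 M) :
    (∀ x ∈ L.reg, ∑ j, (L.η j : L.N → ℂ) x * (L.e j : ℂ) = 0) ∧
      (3 : ℂ) * ((Finset.univ \ L.reg).card : ℂ) = Nat.card L.N := by
  obtain ⟨z, hz⟩ : ∃ z : L.N, 3 ∣ orderOf z := by
    by_contra hno
    push Not at hno
    have h3 : 3 ∣ Nat.card L.N := by
      have hb : D.b ∈ Subgroup.centralizer ({D.a} : Set G) := Subgroup.mem_centralizer_singleton_iff.mpr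
        (congrArg Subtype.val ((comm_of_nine P h9).is_comm.comm ⟨D.b, D.hb⟩ ⟨D.a, D.ha⟩))
      set C := Subgroup.centralizer ({D.a} : Set G)
      have hP : (P : Subgroup G) ≤ C := Klein.le_centralizer_of_mem h9 D.ha
      have h9C : 3 * 3 ∣ Nat.card C := by
        have := Subgroup.card_dvd_of_le hP
        rw [show Nat.card (P : Subgroup G) = 9 from h9] at this
        exact this
      rw [← L.N.index_mul_card, L.index] at h9C
      exact (Nat.mul_dvd_mul_iff_left (by norm_num)).mp h9C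
    obtain ⟨w, hw⟩ := exists_prime_orderOf_dvd_card' 3 h3
    exact hno w (hw ▸ dvd_rfl)
  have horth : ∀ x ∈ L.reg, ∑ j, (L.η j : L.N → ℂ) x * (L.e j : ℂ) = 0 := by
    intro x hx
    have h := blockUnion_orthogonal_regular_singular hM
      (.of_isPBlock (isPBlock_principalBlock (M := M) (G := L.N))) (Finset.mem_filter.mp hx).2 hz
    rw [finsum_mem_eq_toFinset_sum, show (principalBlock M L.N).toFinset = Finset.univ.image L.η by
      ext χ; simp [L.cover χ], Finset.sum_image fun i _ j _ e => L.inj e] at h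
    refine Eq.trans ?_ h
    exact Finset.sum_congr rfl fun j _ => by rw [L.sing j z hz, map_intCast]
  refine ⟨horth, ?_⟩
  have h0 : ∑ x ∈ L.reg, ∑ j, (L.η j : L.N → ℂ) x * (L.e j : ℂ) = 0 := Finset.sum_eq_zero horth
  rw [Finset.sum_comm] at h0
  have hfull : ∀ j, ∑ x ∈ L.reg, (L.η j : L.N → ℂ) x =
      (if j = 0 then (Nat.card L.N : ℂ) else 0) - ((Finset.univ \ L.reg).card : ℂ) * (L.e j : ℂ) := by
    intro j
    have hh : classInner (L.η j : L.N → ℂ) (L.η 0 : L.N → ℂ) = if j = 0 then 1 else 0 := by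
      rw [classInner_irr]
      by_cases hj : j = 0
      · simp [hj]
      · rw [if_neg hj, if_neg fun e => hj (L.inj e)]
    simp only [classInner, L.η0, oneChar, map_one, mul_one] at hh
    rw [inv_mul_eq_iff_eq_mul₀ (Nat.cast_ne_zero.mpr Nat.card_pos.ne'),
      ← Finset.sum_sdiff (Finset.subset_univ L.reg),
      Finset.sum_congr rfl (s₁ := Finset.univ \ L.reg) (g := fun _ => (L.e j : ℂ)) fun x hx =>
        L.sing j x (not_not.mp fun hn => (Finset.mem_sdiff.mp hx).2
          (Finset.mem_filter.mpr ⟨Finset.mem_univ _, hn⟩)), Finset.sum_const, nsmul_eq_mul] at hh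
    rw [mul_ite, mul_one, mul_zero] at hh
    linear_combination hh
  have he : ∀ j, (L.e j : ℂ) * (L.e j : ℂ) = 1 := fun j => by
    rcases L.he j with e | e <;> rw [e] <;> norm_num
  rw [Finset.sum_congr rfl fun j _ => by rw [← Finset.sum_mul, hfull j, sub_mul, mul_assoc, he j]] at h0
  simp only [Fin.sum_univ_three, L.e0, Int.cast_one] at h0
  simp only [if_pos, Fin.one_eq_zero_iff, OfNat.ofNat_ne_one, if_false, zero_mul, Fin.reduceEq, if_true] at h0
  linear_combination -h0

open scoped Classical in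
theorem greg (h9 : Nat.card P = 9) (hM : IsPModular 3 M) (i j : Fin 3) :
    ∑ x ∈ L.reg, (L.η i : L.N → ℂ) x * conj ((L.η j : L.N → ℂ) x) =
      (Nat.card L.N : ℂ) * ((if i = j then 1 else 0) - (L.e i : ℂ) * (L.e j : ℂ) / 3) := by
  have h3 := (L.three_sing h9 hM).2
  have hh : classInner (L.η i : L.N → ℂ) (L.η j : L.N → ℂ) = if i = j then 1 else 0 := by
    rw [classInner_irr]
    by_cases hij : i = j
    · simp [hij]
    · rw [if_neg hij, if_neg fun e => hij (L.inj e)]
  simp only [classInner] at hh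
  rw [inv_mul_eq_iff_eq_mul₀ (Nat.cast_ne_zero.mpr Nat.card_pos.ne'),
    ← Finset.sum_sdiff (Finset.subset_univ L.reg),
    Finset.sum_congr rfl (s₁ := Finset.univ \ L.reg) (g := fun _ => (L.e i : ℂ) * (L.e j : ℂ)) fun x hx => by
      have hx3 : 3 ∣ orderOf x := not_not.mp fun hn => (Finset.mem_sdiff.mp hx).2
        (Finset.mem_filter.mpr ⟨Finset.mem_univ _, hn⟩)
      rw [L.sing i x hx3, L.sing j x hx3, map_intCast], Finset.sum_const, nsmul_eq_mul] at hh
  linear_combination hh - (L.e i : ℂ) * (L.e j : ℂ) / 3 * h3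

open scoped Classical in
theorem vec_eq (h9 : Nat.card P = 9) (hM : IsPModular 3 M) (j : Fin 3) {θ : IrrCharacter G}
    (hθ : θ ∈ principalBlock M G) :
    L.vec j θ = (L.e j : ℂ) * L.regPart j θ / Nat.card L.N + (θ : G → ℂ) (D.a * D.b) / 3 := by
  have h3 := (L.three_sing h9 hM).2
  have he : (L.e j : ℂ) * (L.e j : ℂ) = 1 := by rcases L.he j with e | e <;> rw [e] <;> norm_num
  rw [vec, classInner, ← Finset.sum_sdiff (Finset.subset_univ L.reg),
    Finset.sum_congr rfl (s₁ := Finset.univ \ L.reg)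
      (g := fun _ => (θ : G → ℂ) (D.a * D.b) * (L.e j : ℂ)) fun x hx => by
      have hx3 : 3 ∣ orderOf x := not_not.mp fun hn => (Finset.mem_sdiff.mp hx).2
        (Finset.mem_filter.mpr ⟨Finset.mem_univ _, hn⟩)
      obtain ⟨y, hy, hyc⟩ := L.singG x hx3
      rw [D.value_ab h9 hM hθ hy hyc, L.sing j x hx3, map_intCast],
    Finset.sum_const, nsmul_eq_mul, ← regPart]
  have hN0 : (Nat.card L.N : ℂ) ≠ 0 := Nat.cast_ne_zero.mpr Nat.card_pos.ne'
  field_simp
  linear_combination (θ : G → ℂ) (D.a * D.b) * ((L.e j : ℂ) * (L.e j : ℂ) * h3) +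
    (θ : G → ℂ) (D.a * D.b) * (Nat.card L.N : ℂ) * he

open scoped Classical in
theorem sum_vec (h9 : Nat.card P = 9) (hM : IsPModular 3 M) {θ : IrrCharacter G}
    (hθ : θ ∈ principalBlock M G) : ∑ j, L.vec j θ = (θ : G → ℂ) (D.a * D.b) := by
  rw [Finset.sum_congr rfl fun j _ => L.vec_eq h9 hM j hθ, Finset.sum_add_distrib, Finset.sum_const,
    Finset.card_univ, Fintype.card_fin, nsmul_eq_mul, ← Finset.sum_div]
  have h0 : ∑ j, (L.e j : ℂ) * L.regPart j θ = 0 := by
    simp only [regPart, Finset.mul_sum]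
    rw [Finset.sum_comm]
    refine Finset.sum_eq_zero fun x hx => ?_
    have h := congrArg conj ((L.three_sing h9 hM).1 x hx)
    rw [map_sum, map_zero] at h
    calc _ = (θ : G → ℂ) (D.a * L.toG x) * ∑ j, conj ((L.η j : L.N → ℂ) x * (L.e j : ℂ)) := by
          rw [Finset.mul_sum]
          exact Finset.sum_congr rfl fun j _ => by rw [map_mul, map_intCast]; ring
      _ = 0 := by rw [h, mul_zero]
  rw [h0]
  push_cast
  ring

open scoped Classical in
/-- Principal block sums of a regular part against a constant column. -/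
theorem sum_regPart_ab (h9 : Nat.card P = 9) (hM : IsPModular 3 M) (j : Fin 3) :
    ∑ θ ∈ Finset.univ.filter (· ∈ principalBlock M G),
      L.regPart j θ * conj ((θ : G → ℂ) (D.a * D.b)) = 0 := by
  simp only [regPart, Finset.sum_mul]
  rw [Finset.sum_comm]
  refine Finset.sum_eq_zero fun x hx => ?_
  have h := blockUnion_orthogonal_conj (G := G) hM (.of_isPBlock (isPBlock_principalBlock (M := M)))
    (L.part_regular (Finset.mem_filter.mp hx).2)
    (isPPart_one_mul ⟨1, by rw [orderOf_ab D, pow_one]⟩ (by norm_num)) (D.not_conj_a_ab h9)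
  rw [finsum_mem_eq_toFinset_sum, show (principalBlock M G).toFinset =
    Finset.univ.filter (· ∈ principalBlock M G) by ext; simp] at h
  calc _ = conj ((L.η j : L.N → ℂ) x) * ∑ θ ∈ Finset.univ.filter (· ∈ principalBlock M G),
        (θ : G → ℂ) (D.a * L.toG x) * conj ((θ : G → ℂ) (D.a * D.b)) := by
        rw [Finset.mul_sum]; exact Finset.sum_congr rfl fun θ _ => by ring
    _ = 0 := by rw [h, mul_zero]

open scoped Classical in
theorem sum_regPart (h9 : Nat.card P = 9) (hM : IsPModular 3 M) (i j : Fin 3) :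
    ∑ θ ∈ Finset.univ.filter (· ∈ principalBlock M G), L.regPart i θ * conj (L.regPart j θ) =
      3 * (Nat.card L.N : ℂ) ^ 2 * ((if i = j then 1 else 0) - (L.e i : ℂ) * (L.e j : ℂ) / 3) := by
  set C := Subgroup.centralizer ({D.a} : Set G) with hC
  have : Fintype C := Fintype.ofFinite _
  have := Fintype.ofFinite (IrrCharacter C)
  haveI := L.normal
  have haZ : (⟨D.a, Subgroup.mem_centralizer_singleton_iff.mpr rfl⟩ : C) ∈ Subgroup.center C :=
    Subgroup.mem_center_iff.mpr fun w => Subtype.ext (Subgroup.mem_centralizer_singleton_iff.mp w.2)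
  have key : ∀ x ∈ L.reg, ∀ y ∈ L.reg,
      ∑ θ ∈ Finset.univ.filter (· ∈ principalBlock M G),
        (θ : G → ℂ) (D.a * L.toG x) * conj ((θ : G → ℂ) (D.a * L.toG y)) =
        3 * ∑ k, (L.η k : L.N → ℂ) x * conj ((L.η k : L.N → ℂ) y) := by
    intro x hx y hy
    have hCmem : ∀ t : G, t ∈ C ↔ Commute t D.a := fun t => Subgroup.mem_centralizer_singleton_iff
    have h := sum_principal_secFun (M := M) hM ⟨1, by rw [orderOf_a, pow_one]⟩ hCmem
      (y := (x : C)) (z := (y : C)) (by rw [Subgroup.orderOf_coe]; exact (Finset.mem_filter.mp hx).2)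
      (by rw [Subgroup.orderOf_coe]; exact (Finset.mem_filter.mp hy).2)
    rw [sum_central_block hM haZ (Subtype.ext (by simpa using D.exp _ D.ha)) L.haN L.index x y,
      finsum_mem_eq_toFinset_sum] at h
    rw [show Finset.univ.filter (· ∈ principalBlock M L.N) = Finset.univ.image L.η by
      ext χ; simp [L.cover χ], Finset.sum_image fun i _ j _ e => L.inj e] at h
    refine Eq.trans ?_ h
    exact Finset.sum_congr (by ext; simp) fun _ _ => rfl
  calc _ = ∑ x ∈ L.reg, ∑ y ∈ L.reg, conj ((L.η i : L.N → ℂ) x) * (L.η j : L.N → ℂ) y *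
        ∑ θ ∈ Finset.univ.filter (· ∈ principalBlock M G),
          (θ : G → ℂ) (D.a * L.toG x) * conj ((θ : G → ℂ) (D.a * L.toG y)) := by
        simp only [regPart, map_sum, map_mul, Complex.conj_conj, Finset.sum_mul_sum]
        rw [Finset.sum_comm]
        refine Finset.sum_congr rfl fun x _ => ?_
        rw [Finset.sum_comm]
        refine Finset.sum_congr rfl fun y _ => ?_
        rw [Finset.mul_sum]
        exact Finset.sum_congr rfl fun θ _ => by ring
    _ = ∑ x ∈ L.reg, ∑ y ∈ L.reg, ∑ k, 3 * ((L.η k : L.N → ℂ) x * conj ((L.η i : L.N → ℂ) x)) *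
        ((L.η j : L.N → ℂ) y * conj ((L.η k : L.N → ℂ) y)) := by
        refine Finset.sum_congr rfl fun x hx => Finset.sum_congr rfl fun y hy => ?_
        rw [key x hx y hy, Finset.mul_sum, Finset.mul_sum]
        exact Finset.sum_congr rfl fun k _ => by ring
    _ = ∑ k, 3 * (∑ x ∈ L.reg, (L.η k : L.N → ℂ) x * conj ((L.η i : L.N → ℂ) x)) *
        (∑ y ∈ L.reg, (L.η j : L.N → ℂ) y * conj ((L.η k : L.N → ℂ) y)) := by
        rw [Finset.sum_congr rfl fun x _ => Finset.sum_comm, Finset.sum_comm]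
        refine Finset.sum_congr rfl fun k _ => ?_
        rw [mul_assoc, Finset.sum_mul_sum, Finset.mul_sum]
        refine Finset.sum_congr rfl fun x _ => ?_
        rw [Finset.mul_sum]
        exact Finset.sum_congr rfl fun y _ => by ring
    _ = _ := by
        simp only [L.greg h9 hM]
        have he : ∀ k, (L.e k : ℂ) ^ 2 = 1 := fun k => by rcases L.he k with e | e <;> rw [e] <;> norm_num
        have h1 := he 0
        have h2 := he 1
        have h3 := he 2
        simp only [Fin.sum_univ_three]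
        fin_cases i <;> fin_cases j <;> simp only [Fin.reduceFinMk, Fin.isValue, Fin.reduceEq, if_true, if_false] <;>
          grobner

open scoped Classical in
theorem gram (h9 : Nat.card P = 9) (hM : IsPModular 3 M) (i j : Fin 3) :
    ∑ θ ∈ Finset.univ.filter (· ∈ principalBlock M G), L.vec i θ * conj (L.vec j θ) =
      if i = j then 3 else 0 := by
  have hN0 : (Nat.card L.N : ℂ) ≠ 0 := Nat.cast_ne_zero.mpr Nat.card_pos.ne'
  have hW := L.sum_regPart_ab h9 hM i
  have hW' : ∑ θ ∈ Finset.univ.filter (· ∈ principalBlock M G),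
      (θ : G → ℂ) (D.a * D.b) * conj (L.regPart j θ) = 0 := by
    have h := congrArg conj (L.sum_regPart_ab h9 hM j)
    rw [map_sum, map_zero] at h
    rw [← h]
    exact Finset.sum_congr rfl fun θ _ => by rw [map_mul, Complex.conj_conj, mul_comm]
  rw [Finset.sum_congr rfl (g := fun θ : IrrCharacter G =>
      (L.e i : ℂ) * (L.e j : ℂ) / (Nat.card L.N : ℂ) ^ 2 * (L.regPart i θ * conj (L.regPart j θ)) +
      (L.e i : ℂ) / (3 * Nat.card L.N) * (L.regPart i θ * conj ((θ : G → ℂ) (D.a * D.b))) +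
      (L.e j : ℂ) / (3 * Nat.card L.N) * ((θ : G → ℂ) (D.a * D.b) * conj (L.regPart j θ)) +
      9⁻¹ * ((θ : G → ℂ) (D.a * D.b) * conj ((θ : G → ℂ) (D.a * D.b)))) fun θ hθ => by
      rw [L.vec_eq h9 hM i (Finset.mem_filter.mp hθ).2, L.vec_eq h9 hM j (Finset.mem_filter.mp hθ).2,
        map_add, map_div₀, map_div₀, map_mul, map_intCast, map_natCast, map_ofNat]
      field_simp
      ring]
  simp only [Finset.sum_add_distrib, ← Finset.mul_sum]
  rw [L.sum_regPart h9 hM i j, hW, hW', sum_value_ab D h9 hM]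
  have hei : (L.e i : ℂ) ^ 2 = 1 := by rcases L.he i with e | e <;> rw [e] <;> norm_num
  have hej : (L.e j : ℂ) ^ 2 = 1 := by rcases L.he j with e | e <;> rw [e] <;> norm_num
  by_cases hij : i = j
  · subst hij; rw [if_pos rfl, if_pos rfl]; field_simp; grobner
  · rw [if_neg hij, if_neg hij]; field_simp; grobner

open scoped Classical in
theorem gram_cross (h9 : Nat.card P = 9) (hM : IsPModular 3 M) (L' : Loc (D.swap h9) M) [Fintype L'.N]
    [Fintype (IrrCharacter L'.N)] (i j : Fin 3) :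
    ∑ θ ∈ Finset.univ.filter (· ∈ principalBlock M G), L.vec i θ * conj (L'.vec j θ) = 1 := by
  have hN0 : (Nat.card L.N : ℂ) ≠ 0 := Nat.cast_ne_zero.mpr Nat.card_pos.ne'
  have hN0' : (Nat.card L'.N : ℂ) ≠ 0 := Nat.cast_ne_zero.mpr Nat.card_pos.ne'
  have hab := D.swap_ab h9
  have hW := L.sum_regPart_ab h9 hM i
  have hW' : ∑ θ ∈ Finset.univ.filter (· ∈ principalBlock M G),
      (θ : G → ℂ) (D.a * D.b) * conj (L'.regPart j θ) = 0 := by
    have h := congrArg conj (L'.sum_regPart_ab h9 hM j)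
    rw [map_sum, map_zero, hab] at h
    rw [← h]
    exact Finset.sum_congr rfl fun θ _ => by rw [map_mul, Complex.conj_conj, mul_comm]
  have hWW : ∑ θ ∈ Finset.univ.filter (· ∈ principalBlock M G), L.regPart i θ * conj (L'.regPart j θ) = 0 := by
    simp only [regPart, map_sum, map_mul, Complex.conj_conj, Finset.sum_mul_sum]
    rw [Finset.sum_comm]
    refine Finset.sum_eq_zero fun x hx => ?_
    rw [Finset.sum_comm]
    refine Finset.sum_eq_zero fun y hy => ?_
    have h := blockUnion_orthogonal_conj (G := G) hM (.of_isPBlock (isPBlock_principalBlock (M := M)))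
      (L.part_regular (Finset.mem_filter.mp hx).2) (L'.part_regular (Finset.mem_filter.mp hy).2)
      (D.not_conj_a_b h9)
    rw [finsum_mem_eq_toFinset_sum, show (principalBlock M G).toFinset =
      Finset.univ.filter (· ∈ principalBlock M G) by ext; simp] at h
    calc _ = conj ((L.η i : L.N → ℂ) x) * (L'.η j : L'.N → ℂ) y *
          ∑ θ ∈ Finset.univ.filter (· ∈ principalBlock M G),
            (θ : G → ℂ) (D.a * L.toG x) * conj ((θ : G → ℂ) ((D.swap h9).a * L'.toG y)) := by
          rw [Finset.mul_sum]; exact Finset.sum_congr rfl fun θ _ => by ring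
      _ = 0 := by rw [h, mul_zero]
  rw [Finset.sum_congr rfl (g := fun θ : IrrCharacter G =>
      (L.e i : ℂ) * (L'.e j : ℂ) / ((Nat.card L.N : ℂ) * Nat.card L'.N) * (L.regPart i θ * conj (L'.regPart j θ)) +
      (L.e i : ℂ) / (3 * Nat.card L.N) * (L.regPart i θ * conj ((θ : G → ℂ) (D.a * D.b))) +
      (L'.e j : ℂ) / (3 * Nat.card L'.N) * ((θ : G → ℂ) (D.a * D.b) * conj (L'.regPart j θ)) +
      9⁻¹ * ((θ : G → ℂ) (D.a * D.b) * conj ((θ : G → ℂ) (D.a * D.b)))) fun θ hθ => by
      rw [L.vec_eq h9 hM i (Finset.mem_filter.mp hθ).2, L'.vec_eq h9 hM j (Finset.mem_filter.mp hθ).2, hab,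
        map_add, map_div₀, map_div₀, map_mul, map_intCast, map_natCast, map_ofNat]
      field_simp
      ring]
  simp only [Finset.sum_add_distrib, ← Finset.mul_sum]
  rw [hWW, hW, hW', sum_value_ab D h9 hM]
  norm_num

end Loc

end CfsgLib.NineTwoPrime
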