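import Cfsg.Agent.Lib.Block.AbelianFreeInvolution
import Cfsg.Agent.Lib.Char.PrimeDegrees
import Cfsg.Agent.S0105

/-!
# Sylow 3-subgroups of order nine with at least three classes of 3-elements

Either the automizer is of order two and free, or it is a four-group with two reflections.
-/

set_option autoImplicit false
set_option linter.unusedSectionVars false
set_option linter.style.haveILetI false

namespace CfsgLib.NineTwoPrime

open Cfsg CfsgLib.Char CfsgLib.Block CfsgLib.Block.AbelianFree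

universe u

variable {G : Type u} [Group G] [Fintype G] [IsSimpleGroup G]

theorem not_comm_forall (hG : ¬ IsMulCommutative G) : ¬ ∀ a b : G, a * b = b * a :=
  fun h => hG ⟨⟨h⟩⟩

theorem commutator_top (hG : ¬ IsMulCommutative G) : commutator G = ⊤ := by
  refine ((commutator G).normal_of_characteristic.eq_bot_or_eq_top).resolve_left fun h => ?_
  refine not_comm_forall hG fun a b => ?_
  have := Subgroup.commutator_mem_commutator (Subgroup.mem_top a) (Subgroup.mem_top b)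
  rw [← commutator_def, h, Subgroup.mem_bot, commutatorElement_eq_one_iff_mul_comm] at this
  exact this

theorem center_bot (hG : ¬ IsMulCommutative G) : Subgroup.center G = ⊥ :=
  ((inferInstance : (Subgroup.center G).Normal).eq_bot_or_eq_top).resolve_right fun h =>
    not_comm_forall hG fun a b => (Subgroup.mem_center_iff.mp (h ▸ Subgroup.mem_top b) a)

/-- Nontrivial irreducible characters are faithful. -/
theorem eq_one_of_value' {χ : IrrCharacter G} (hχ : χ ≠ oneChar G) {x : G}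
    (h : (χ : G → ℂ) x = (χ : G → ℂ) 1) : x = 1 := by
  by_contra hx
  refine hχ (eq_one_of_value (fun K hK hxK => ?_) h)
  exact (hK.eq_bot_or_eq_top).resolve_left fun e => hx (Subgroup.mem_bot.mp (e ▸ hxK))

theorem one_lt_degree (hG : ¬ IsMulCommutative G) {χ : IrrCharacter G} (hχ : χ ≠ oneChar G) :
    1 < charDegree (χ : G → ℂ) := by
  have h0 := (charDegree_eq χ).2
  rcases Nat.lt_or_ge 1 (charDegree (χ : G → ℂ)) with h | h
  · exact h
  · exact absurd (Subtype.ext (PrimeDegrees.linear_eq_one (commutator_top hG) (by omega))) hχ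

variable (P : Sylow 3 G)

/-- A Sylow 3-subgroup of order nine is commutative. -/
theorem comm_of_nine (h9 : Nat.card P = 9) : IsMulCommutative (P : Subgroup G) :=
  IsPGroup.isMulCommutative_of_card_eq_prime_sq (p := 3) (by rw [h9]; norm_num)

theorem exists_three (h3 : 3 ≤ Nat.card {C : ConjClasses G // ∃ g ∈ C.carrier, g ≠ 1 ∧ orderOf g ∣ 9}) :
    ∃ x : Fin 3 → G, (∀ i, x i ∈ (P : Subgroup G) ∧ x i ≠ 1) ∧ ∀ i j, IsConj (x i) (x j) → i = j := by
  classical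
  haveI := Fintype.ofFinite {C : ConjClasses G // ∃ g ∈ C.carrier, g ≠ 1 ∧ orderOf g ∣ 9}
  rw [Nat.card_eq_fintype_card] at h3
  obtain ⟨f⟩ := Function.Embedding.nonempty_of_card_le
    (α := Fin 3) (β := {C : ConjClasses G // ∃ g ∈ C.carrier, g ≠ 1 ∧ orderOf g ∣ 9}) (by simpa using h3)
  have : ∀ i, ∃ x : G, (x ∈ (P : Subgroup G) ∧ x ≠ 1) ∧ ConjClasses.mk x = (f i : ConjClasses G) := by
    intro i
    obtain ⟨g, hg, hg1, hgo⟩ := (f i).2
    obtain ⟨k, -, hk⟩ := (Nat.dvd_prime_pow Nat.prime_three).mp (show orderOf g ∣ 3 ^ 2 by simpa using hgo)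
    have hp : IsPGroup 3 (Subgroup.zpowers g) := IsPGroup.of_card (n := k) (by rw [Nat.card_zpowers, hk])
    obtain ⟨S, hS⟩ := hp.exists_le_sylow
    obtain ⟨c, hc⟩ := MulAction.exists_smul_eq G S P
    refine ⟨c * g * c⁻¹, ⟨hc ▸ ⟨g, hS (Subgroup.mem_zpowers g), rfl⟩,
      fun e => hg1 (conj_eq_one_iff.mp e)⟩, ?_⟩
    rw [← ConjClasses.mem_carrier_iff_mk_eq.mp hg]
    exact ConjClasses.mk_eq_mk_iff_isConj.mpr (isConj_iff.mpr ⟨c, rfl⟩).symm
  choose x hx hm using this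
  refine ⟨x, hx, fun i j h => f.injective (Subtype.ext ?_)⟩
  rw [← hm i, ← hm j]
  exact ConjClasses.mk_eq_mk_iff_isConj.mpr h

/-- Nothing nontrivial in `P` is centralized by the whole normalizer. -/
theorem exists_moved (hG : ¬ IsMulCommutative G) (h9 : Nat.card P = 9) {a : G}
    (ha : a ∈ (P : Subgroup G)) (ha1 : a ≠ 1) : ∃ n ∈ nor P, n * a * n⁻¹ ≠ a := by
  by_contra hno
  push Not at hno
  have := comm_of_nine P h9
  obtain ⟨N, hN, ⟨e⟩⟩ := Cfsg.Agent.S0105.result P this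
  have haD : a ∈ (P : Subgroup G) ⊓
      Subgroup.centralizer (Subgroup.normalizer ((P : Subgroup G) : Set G) : Set G) :=
    ⟨ha, Subgroup.mem_centralizer_iff.mpr fun n hn => mul_inv_eq_iff_eq_mul.mp (hno n hn)⟩
  rcases hN.eq_bot_or_eq_top with rfl | rfl
  · refine hG ⟨⟨fun x y => ?_⟩⟩
    have hxy : e (x : G ⧸ (⊥ : Subgroup G)) * e y = e y * e x := by
      apply Subtype.ext
      exact congrArg (fun z : ↥(P : Subgroup G) => (z : G)) (this.is_comm.comm
        ⟨_, (e (x : G ⧸ (⊥ : Subgroup G))).2.1⟩ ⟨_, (e (y : G ⧸ (⊥ : Subgroup G))).2.1⟩)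
    have h2 := e.injective ((map_mul e _ _).trans (hxy.trans (map_mul e _ _).symm))
    rw [← QuotientGroup.mk_mul, ← QuotientGroup.mk_mul, QuotientGroup.eq, Subgroup.mem_bot,
      inv_mul_eq_one] at h2
    exact h2
  · obtain ⟨z, hz⟩ := e.surjective ⟨a, haD⟩
    obtain ⟨w, rfl⟩ := QuotientGroup.mk_surjective z
    rw [(QuotientGroup.eq_one_iff w).mpr (Subgroup.mem_top w), map_one] at hz
    exact ha1 (congrArg Subtype.val hz).symm

theorem le_cen_of_nine (h9 : Nat.card P = 9) : (P : Subgroup G) ≤ cen P := fun x hx =>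
  Subgroup.mem_centralizer_iff.mpr fun y hy =>
    congrArg Subtype.val ((comm_of_nine P h9).is_comm.comm ⟨y, hy⟩ ⟨x, hx⟩)

theorem mem_cen_of_cube (h9 : Nat.card P = 9) (n : G) (hn : n ∈ nor P) (h : n ^ 3 ∈ cen P) :
    n ∈ cen P := by
  set m := orderOf n / 3 ^ (orderOf n).factorization 3 with hm
  have hcop : Nat.Coprime 3 m := Nat.coprime_ordCompl Nat.prime_three (orderOf_pos n).ne'
  have hmk : orderOf n = 3 ^ (orderOf n).factorization 3 * m := (Nat.ordProj_mul_ordCompl_eq_self _ _).symm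
  have hp : IsPGroup 3 (Subgroup.zpowers (n ^ m)) := by
    intro x
    refine ⟨(orderOf n).factorization 3, Subtype.ext ?_⟩
    obtain ⟨j, hj⟩ := Subgroup.mem_zpowers_iff.mp x.2
    rw [SubmonoidClass.coe_pow, ← hj, ← zpow_natCast ((n ^ m) ^ j), ← zpow_mul, mul_comm j, zpow_mul,
      zpow_natCast, ← pow_mul, mul_comm m, ← hmk, pow_orderOf_eq_one, one_zpow]
    rfl
  have hnm : n ^ m ∈ (P : Subgroup G) := by
    have := hp.inf_normalizer_sylow P
    exact (Subgroup.mem_inf.mp (this ▸ Subgroup.mem_inf.mpr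
      ⟨Subgroup.mem_zpowers _, Subgroup.pow_mem _ hn m⟩)).2
  obtain ⟨u, v, huv⟩ : ∃ u v : ℤ, (3 : ℤ) * u + (m : ℤ) * v = 1 :=
    ⟨Nat.gcdA 3 m, Nat.gcdB 3 m, by
      have h' := Nat.gcd_eq_gcd_ab 3 m
      rw [hcop] at h'
      push_cast at h'
      linarith⟩
  have e : n = (n ^ 3) ^ u * (n ^ m) ^ v := by
    rw [← zpow_natCast, ← zpow_natCast n m, ← zpow_mul, ← zpow_mul, ← zpow_add]
    push_cast
    rw [huv, zpow_one]
  rw [e]
  exact mul_mem (Subgroup.zpow_mem _ h u) (Subgroup.zpow_mem _ (le_cen_of_nine P h9 hnm) v)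

/-- The data of the four-group automizer. -/
structure Klein (P : Sylow 3 G) where
  a : G
  b : G
  s : G
  u : G
  ha : a ∈ (P : Subgroup G)
  hb : b ∈ (P : Subgroup G)
  ha1 : a ≠ 1
  hb1 : b ≠ 1
  hab : a * b ≠ 1
  span : ∀ x ∈ (P : Subgroup G), ∃ i j : ℕ, i < 3 ∧ j < 3 ∧ x = a ^ i * b ^ j
  inj : ∀ i j k l : ℕ, i < 3 → j < 3 → k < 3 → l < 3 → a ^ i * b ^ j = a ^ k * b ^ l → i = k ∧ j = l
  exp : ∀ x ∈ (P : Subgroup G), x ^ 3 = 1
  hs : s ∈ nor P
  hsa : s * a * s⁻¹ = a⁻¹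
  hsb : s * b * s⁻¹ = b
  hu : u ∈ nor P
  hua : u * a * u⁻¹ = a
  hub : u * b * u⁻¹ = b⁻¹
  diag : ∀ n ∈ nor P, (n * a * n⁻¹ = a ∨ n * a * n⁻¹ = a⁻¹) ∧ (n * b * n⁻¹ = b ∨ n * b * n⁻¹ = b⁻¹)

/-- The action of a `2 × 2` matrix, given by its two images, on a pair. -/
def act (M : (ZMod 3 × ZMod 3) × (ZMod 3 × ZMod 3)) (v : ZMod 3 × ZMod 3) : ZMod 3 × ZMod 3 :=
  (v.1 * M.1.1 + v.2 * M.2.1, v.1 * M.1.2 + v.2 * M.2.2)

/-- Composition of two such matrices. -/
def mul2 (M N : (ZMod 3 × ZMod 3) × (ZMod 3 × ZMod 3)) : (ZMod 3 × ZMod 3) × (ZMod 3 × ZMod 3) :=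
  (act M N.1, act M N.2)

/-- The reflection fixing the first vector. -/
def refl2 : (ZMod 3 × ZMod 3) × (ZMod 3 × ZMod 3) := ((1, 0), (0, 2))

/-- Some products of the reflection and `M`. -/
def words (M : (ZMod 3 × ZMod 3) × (ZMod 3 × ZMod 3)) :
    List ((ZMod 3 × ZMod 3) × (ZMod 3 × ZMod 3)) :=
  let U := refl2
  let A := mul2 U M
  let B := mul2 M U
  let M2 := mul2 M M
  [((1, 0), (0, 1)), U, M, M2, A, B, mul2 A U, mul2 A A, mul2 M A, mul2 M2 U, mul2 U M2, mul2 M M2]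

theorem matrix_check : ∀ M : (ZMod 3 × ZMod 3) × (ZMod 3 × ZMod 3),
    M.1.1 * M.2.2 - M.1.2 * M.2.1 ≠ 0 → (M.1.2 = 0 ∧ M.2.1 = 0) ∨
      (∃ w ∈ words M, w ≠ ((1, 0), (0, 1)) ∧ mul2 w (mul2 w w) = ((1, 0), (0, 1))) ∨
      (∀ v : ZMod 3 × ZMod 3, v ≠ 0 → ∃ w ∈ words M, act w (1, 0) = v ∨ act w (1, 1) = v) := by
  decide +kernel

end CfsgLib.NineTwoPrime
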